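import Mathlib.NumberTheory.Padics.PadicVal.Basic
import Mathlib.Tactic

/-!
# The elementary arithmetic used for groups with element orders at most five
-/

set_option autoImplicit false

namespace CfsgLib.SpecFive.Arith

theorem three_pow_mod_eight (y : ℕ) : 3 ^ y % 8 = if Even y then 1 else 3 := by
  induction y with
  | zero => rfl
  | succ y ih => rw [pow_succ, Nat.mul_mod, ih]; by_cases h : Even y <;> simp [h, Nat.even_add_one]

theorem five_pow_mod_twentyfour (y : ℕ) : 5 ^ y % 24 = if Even y then 1 else 5 := by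
  induction y with
  | zero => rfl
  | succ y ih => rw [pow_succ, Nat.mul_mod, ih]; by_cases h : Even y <;> simp [h, Nat.even_add_one]

theorem two_pow_eight {x : ℕ} (h : 3 ≤ x) : 2 ^ x % 8 = 0 :=
  Nat.mod_eq_zero_of_dvd (pow_dvd_pow 2 h : 2 ^ 3 ∣ 2 ^ x)

theorem two_pow_eq_three_succ {x y : ℕ} (hy : 1 ≤ y) (h : 2 ^ x = 3 ^ y + 1) : x = 2 ∧ y = 1 := by
  have h3 : 3 ≤ 3 ^ y := Nat.le_self_pow (by omega) 3
  have hx : x < 3 := by
    by_contra hx
    push Not at hx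
    have := three_pow_mod_eight y
    have := two_pow_eight hx
    split_ifs at * <;> omega
  interval_cases x <;> try omega
  have : 3 ^ y = 3 ^ 1 := by omega
  exact ⟨rfl, Nat.pow_right_injective (by norm_num) this⟩

theorem three_pow_eq_two_succ {x y : ℕ} (hy : 1 ≤ y) (h : 3 ^ y = 2 ^ x + 1) :
    x = 1 ∧ y = 1 ∨ x = 3 ∧ y = 2 := by
  rcases Nat.even_or_odd y with ⟨k, hk⟩ | hodd
  · subst hk
    have hd : 3 ^ k + 1 ∣ 2 ^ x := by
      refine ⟨3 ^ k - 1, ?_⟩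
      have h3 : 1 ≤ 3 ^ k := Nat.one_le_pow _ _ (by norm_num)
      rw [pow_add] at h
      zify [h3] at h ⊢
      linarith [h]
    obtain ⟨u, -, hu⟩ := (Nat.dvd_prime_pow Nat.prime_two).1 hd
    obtain ⟨-, rfl⟩ := two_pow_eq_three_succ (by omega) hu.symm
    refine Or.inr ⟨?_, rfl⟩
    exact Nat.pow_right_injective le_rfl (show 2 ^ x = 2 ^ 3 by omega)
  · have hx : x < 3 := by
      by_contra hx
      push Not at hx
      have := three_pow_mod_eight y
      rw [if_neg (Nat.not_even_iff_odd.2 hodd)] at this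
      have := two_pow_eight hx
      omega
    have h3 : 3 ≤ 3 ^ y := Nat.le_self_pow (by omega) 3
    interval_cases x <;> try omega
    · exact Or.inl ⟨rfl, Nat.pow_right_injective (by norm_num) (show 3 ^ y = 3 ^ 1 by omega)⟩
    · have := three_pow_mod_eight y
      rw [if_neg (Nat.not_even_iff_odd.2 hodd)] at this
      omega

theorem two_pow_eq_five_succ {x y : ℕ} (hy : 1 ≤ y) : 2 ^ x ≠ 5 ^ y + 1 := by
  intro h
  have h5 : 5 ≤ 5 ^ y := Nat.le_self_pow (by omega) 5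
  have hx : x < 3 := by
    by_contra hx
    push Not at hx
    have := five_pow_mod_twentyfour y
    have := two_pow_eight hx
    split_ifs at * <;> omega
  interval_cases x <;> omega

theorem five_pow_eq_two_succ {x y : ℕ} (hy : 1 ≤ y) (h : 5 ^ y = 2 ^ x + 1) : x = 2 ∧ y = 1 := by
  have h5 : 5 ≤ 5 ^ y := Nat.le_self_pow (by omega) 5
  have := five_pow_mod_twentyfour y
  have h3 : ¬ 3 ∣ 2 ^ x := fun h3 => by
    have := (Nat.Prime.dvd_of_dvd_pow Nat.prime_three h3)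
    omega
  have hx : x < 3 := by
    by_contra hx
    push Not at hx
    have := two_pow_eight hx
    split_ifs at * <;> omega
  interval_cases x <;> try omega
  exact ⟨rfl, Nat.pow_right_injective (by norm_num) (show 5 ^ y = 5 ^ 1 by omega)⟩

/-- Consecutive numbers supported on two and `m`. -/
theorem consecutive {m u : ℕ} (hm : m = 3 ∨ m = 5) (hu : 2 ≤ u)
    (hu' : ∀ r, r.Prime → r ∣ u → r = 2 ∨ r = m)
    (hu1 : ∀ r, r.Prime → r ∣ u + 1 → r = 2 ∨ r = m) :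
    m = 3 ∧ (u = 2 ∨ u = 3 ∨ u = 8) ∨ m = 5 ∧ u = 4 := by
  have hmp : m.Prime := by rcases hm with rfl | rfl <;> norm_num
  have hkey : ∀ e o : ℕ, 2 ∣ e → ¬ 2 ∣ o → 2 ≤ e → 2 ≤ o → Nat.Coprime e o →
      (∀ r, r.Prime → r ∣ e → r = 2 ∨ r = m) → (∀ r, r.Prime → r ∣ o → r = 2 ∨ r = m) →
      ∃ x y, 1 ≤ y ∧ e = 2 ^ x ∧ o = m ^ y := by
    intro e o he ho he2 ho2 hcop hesup hosup
    have ho' := Nat.eq_prime_pow_of_unique_prime_dvd (p := m) (n := o) (by omega) fun {r} hr hd =>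
      (hosup r hr hd).resolve_left fun h => ho (h ▸ hd)
    have hyo : 1 ≤ o.primeFactorsList.length := by
      by_contra h
      rw [Nat.lt_one_iff.1 (by omega : o.primeFactorsList.length < 1), pow_zero] at ho'
      omega
    have hmo : m ∣ o := ho' ▸ dvd_pow_self m (by omega)
    have he' := Nat.eq_prime_pow_of_unique_prime_dvd (p := 2) (n := e) (by omega) fun {r} hr hd =>
      (hesup r hr hd).resolve_right fun h => hmp.ne_one
        (Nat.eq_one_of_dvd_coprimes hcop (h ▸ hd) hmo)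
    exact ⟨_, _, hyo, he', ho'⟩
  have hcop : Nat.Coprime u (u + 1) := by simp
  rcases Nat.even_or_odd u with he | ho
  · obtain ⟨x, y, hy, hx, hy'⟩ := hkey u (u + 1) he.two_dvd
      (by have := he.two_dvd; omega) hu (by omega) hcop hu' hu1
    rcases hm with rfl | rfl
    · rcases three_pow_eq_two_succ hy (by rw [← hx, ← hy']) with ⟨rfl, -⟩ | ⟨rfl, -⟩ <;>
        norm_num at hx <;> omega
    · obtain ⟨rfl, -⟩ := five_pow_eq_two_succ hy (by rw [← hx, ← hy'])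
      norm_num at hx
      omega
  · obtain ⟨x, y, hy, hx, hy'⟩ := hkey (u + 1) u (by obtain ⟨k, rfl⟩ := ho; omega)
      (by obtain ⟨k, rfl⟩ := ho; omega) (by omega) hu hcop.symm hu1 hu'
    rcases hm with rfl | rfl
    · obtain ⟨rfl, -⟩ := two_pow_eq_three_succ hy (by rw [← hx, ← hy'])
      norm_num at hx
      omega
    · exact absurd (by rw [← hx, ← hy']) (two_pow_eq_five_succ hy (x := x))

/-- A sum of few signed multiples of powers of two is not divisible by a high power of two. -/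
theorem two_pow_le_of_dvd {ι : Type*} (s : Finset ι) (x : ι → ℕ) (σ : ι → ℤ) (q : ℕ) (hq : 2 ≤ q)
    (hσ : ∀ i ∈ s, |σ i| ≤ 1) (H : ℕ) :
    ∀ K : ℤ, ¬ (q : ℤ) ∣ K → (2 : ℤ) ^ H ∣ K + q * ∑ i ∈ s, σ i * 2 ^ x i →
      (2 : ℤ) ^ H ≤ |K| * (1 + q) ^ s.card := by
  classical
  induction s using Finset.strongInduction with
  | _ s ih =>
  intro K hK hdvd
  have hK0 : K ≠ 0 := fun h => hK (h ▸ dvd_zero _)
  have hq1 : (1 : ℤ) ≤ (1 + q) ^ s.card := one_le_pow₀ (by omega)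
  by_cases hall : ∀ i ∈ s, H ≤ x i
  · have h : (2 : ℤ) ^ H ∣ K := by
      refine (dvd_add_left ((Finset.dvd_sum fun i hi => ?_).mul_left _)).1 hdvd
      exact (pow_dvd_pow 2 (hall i hi)).mul_left _
    exact (Int.le_of_dvd (abs_pos.2 hK0) ((dvd_abs _ _).2 h)).trans
      (le_mul_of_one_le_right (abs_nonneg K) hq1)
  push Not at hall
  obtain ⟨i₀, hi₀, hlt⟩ := hall
  obtain ⟨j, hj, hmin⟩ := Finset.exists_min_image s x ⟨i₀, hi₀⟩
  have hxH : x j ≤ H := (hmin i₀ hi₀).trans hlt.le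
  have h2K : (2 : ℤ) ^ x j ∣ K := by
    refine (dvd_add_left ((Finset.dvd_sum fun i hi => ?_).mul_left _)).1
      ((pow_dvd_pow 2 hxH).trans hdvd)
    exact (pow_dvd_pow 2 (hmin i hi)).mul_left _
  have hle : (2 : ℤ) ^ x j ≤ |K| := Int.le_of_dvd (abs_pos.2 hK0) ((dvd_abs _ _).2 h2K)
  have hnext := ih (s.erase j) (Finset.erase_ssubset hj) (fun i hi => hσ i (Finset.mem_of_mem_erase hi))
    (K + q * (σ j * 2 ^ x j)) (fun h => hK ((dvd_add_left ⟨_, rfl⟩).1 h))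
    (by rwa [← Finset.add_sum_erase _ _ hj, mul_add, ← add_assoc] at hdvd)
  refine hnext.trans ?_
  have habs : |K + q * (σ j * 2 ^ x j)| ≤ |K| * (1 + q) := by
    refine (abs_add_le _ _).trans ?_
    rw [abs_mul, abs_mul, Nat.abs_cast, abs_of_nonneg (pow_nonneg (by norm_num : (0 : ℤ) ≤ 2) _)]
    have h1 : |σ j| * 2 ^ x j ≤ |K| :=
      (mul_le_of_le_one_left (pow_nonneg (by norm_num) _) (hσ j hj)).trans hle
    calc |K| + (q : ℤ) * (|σ j| * 2 ^ x j) ≤ |K| + (q : ℤ) * |K| :=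
          add_le_add_right (mul_le_mul_of_nonneg_left h1 (Int.natCast_nonneg q)) |K|
      _ = |K| * (1 + q) := by ring
  calc |K + q * (σ j * 2 ^ x j)| * (1 + (q : ℤ)) ^ (s.erase j).card
      ≤ |K| * (1 + q) * (1 + (q : ℤ)) ^ (s.erase j).card :=
        mul_le_mul_of_nonneg_right habs (pow_nonneg (by omega) _)
    _ = |K| * (1 + q) ^ s.card := by rw [← Finset.card_erase_add_one hj, pow_succ]; ring

theorem sixteen_pow_five (k : ℕ) :
    ∃ v : ℤ, (16 : ℤ) ^ 5 ^ k = 1 + 5 ^ (k + 1) * v ∧ ¬ (5 : ℤ) ∣ v := by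
  induction k with
  | zero => exact ⟨3, by norm_num, by norm_num⟩
  | succ k ih =>
    obtain ⟨v, hv, hv5⟩ := ih
    refine ⟨v + 5 * (2 * 5 ^ k * v ^ 2 + 2 * 5 * (5 ^ k) ^ 2 * v ^ 3 +
      5 ^ 2 * (5 ^ k) ^ 3 * v ^ 4 + 5 ^ 2 * (5 ^ k) ^ 4 * v ^ 5), ?_,
      fun h => hv5 ((dvd_add_left ⟨_, rfl⟩).1 h)⟩
    rw [pow_succ 5 k, pow_mul, hv]
    ring

/-- The order of four modulo powers of five. -/
theorem dvd_of_four_pow (k : ℕ) : ∀ x : ℕ, (5 : ℤ) ^ (k + 1) ∣ 4 ^ x - 1 → 2 * 5 ^ k ∣ x := by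
  induction k with
  | zero =>
    intro x hx
    rcases Nat.even_or_odd x with h | ⟨i, rfl⟩
    · simpa using h.two_dvd
    · exfalso
      have h16 : (5 : ℤ) ∣ (16 : ℤ) ^ i - 1 := (show (5 : ℤ) ∣ 16 - 1 by norm_num).trans
        (by simpa using sub_dvd_pow_sub_pow (16 : ℤ) 1 i)
      have : (4 : ℤ) ^ (2 * i + 1) - 1 = 4 * (16 ^ i - 1) + 3 := by rw [pow_succ, pow_mul]; ring
      rw [this, zero_add, pow_one] at hx
      have := (dvd_add_right (h16.mul_left 4)).1 hx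
      norm_num at this
  | succ k ih =>
    intro x hx
    obtain ⟨u, rfl⟩ := ih x ((pow_dvd_pow _ (by omega)).trans hx)
    obtain ⟨v, hv, hv5⟩ := sixteen_pow_five k
    rw [pow_mul, pow_mul, show (4 : ℤ) ^ 2 = 16 by norm_num, hv] at hx
    have hexp : ∀ u : ℕ, (5 : ℤ) ^ (k + 1 + 1) ∣ (1 + 5 ^ (k + 1) * v) ^ u - (1 + u * (5 ^ (k + 1) * v)) := by
      intro u
      induction u with
      | zero => simp
      | succ u ihu =>
        have : (1 + 5 ^ (k + 1) * v) ^ (u + 1) - (1 + (u + 1 : ℕ) * (5 ^ (k + 1) * v)) =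
            (1 + 5 ^ (k + 1) * v) * ((1 + 5 ^ (k + 1) * v) ^ u - (1 + u * (5 ^ (k + 1) * v))) +
              5 ^ (k + 1 + 1) * ((u : ℤ) * 5 ^ k * v * v) := by push_cast; ring
        rw [this]
        exact dvd_add (ihu.mul_left _) ⟨_, rfl⟩
    have h1 := dvd_sub hx (hexp u)
    rw [show (1 + 5 ^ (k + 1) * v) ^ u - 1 - ((1 + 5 ^ (k + 1) * v) ^ u -
        (1 + (u : ℤ) * (5 ^ (k + 1) * v))) = 5 ^ (k + 1) * ((u : ℤ) * v) by ring, pow_succ] at h1
    have h2 := Int.dvd_of_mul_dvd_mul_left (pow_ne_zero _ (by norm_num : (5 : ℤ) ≠ 0)) h1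
    have h3 : (5 : ℤ) ∣ (u : ℤ) :=
      ((Nat.prime_iff_prime_int.1 (by norm_num : Nat.Prime 5)).dvd_or_dvd h2).resolve_right hv5
    obtain ⟨w, rfl⟩ : 5 ∣ u := Int.natCast_dvd_natCast.1 h3
    exact ⟨w, by ring⟩

theorem growth : ∀ k : ℕ, 12 * (k + 3) < 2 * 5 ^ (k + 2) := by
  intro k
  induction k with
  | zero => norm_num
  | succ k ih => rw [pow_succ]; omega

theorem five_pow_succ_le (k : ℕ) : 5 ^ (k + 1) + 1 ≤ 8 ^ (k + 1) := by
  induction k with
  | zero => norm_num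
  | succ k ih => rw [pow_succ 5, pow_succ 8]; omega

theorem two_pow_mod_five (k : ℕ) : 2 ^ k % 5 = [1, 2, 4, 3].getD (k % 4) 0 := by
  induction k with
  | zero => rfl
  | succ k ih =>
    rw [pow_succ, Nat.mul_mod, ih]
    have : k % 4 = 0 ∨ k % 4 = 1 ∨ k % 4 = 2 ∨ k % 4 = 3 := by omega
    rcases this with h | h | h | h <;> simp [h, Nat.add_mod]

theorem two_pow_mod_three (k : ℕ) : 2 ^ k % 3 = if Even k then 1 else 2 := by
  induction k with
  | zero => rfl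
  | succ k ih => rw [pow_succ, Nat.mul_mod, ih]; by_cases h : Even k <;> simp [h, Nat.even_add_one]

theorem solve_three_four {w j : ℕ} {s : ℤ} (hs : s.natAbs < 4) (hj : 1 ≤ j) (hd : 5 ^ j ∣ 20)
    (h : (2 : ℤ) ^ w * 20 = 5 ^ j * (4 - s) ^ 2) (hb : 1 + s ^ 2 + (1 + s) ^ 2 ≤ (2 : ℤ) ^ w) :
    w = 2 ∧ j = 1 := by
  have hj' : j = 1 := by
    by_contra hne
    have := (pow_dvd_pow 5 (by omega : 2 ≤ j)).trans hd
    norm_num at this
  subst hj'
  obtain ⟨h1, h2⟩ : -4 < s ∧ s < 4 := by constructor <;> omega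
  have hw : w < 6 := by
    by_contra hw
    have : (64 : ℤ) ≤ 2 ^ w := le_trans (by norm_num) (pow_le_pow_right₀ (by norm_num) (not_lt.1 hw))
    interval_cases s <;> omega
  interval_cases w <;> interval_cases s <;> simp_all

theorem solve_three_five {w j : ℕ} {s : ℤ} (hs : s.natAbs < 5) (hj : 1 ≤ j) (hd : 5 ^ j ∣ 20)
    (h : (2 : ℤ) ^ w * 20 = 5 ^ j * (-5 - s) ^ 2) (hb : 1 + s ^ 2 + (1 + s) ^ 2 ≤ (2 : ℤ) ^ w) :
    w = 2 ∧ j = 1 := by
  have hj' : j = 1 := by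
    by_contra hne
    have := (pow_dvd_pow 5 (by omega : 2 ≤ j)).trans hd
    norm_num at this
  subst hj'
  obtain ⟨h1, h2⟩ : -5 < s ∧ s < 5 := by constructor <;> omega
  have hw : w < 6 := by
    by_contra hw
    have : (64 : ℤ) ≤ 2 ^ w := le_trans (by norm_num) (pow_le_pow_right₀ (by norm_num) (not_lt.1 hw))
    interval_cases s <;> omega
  interval_cases w <;> interval_cases s <;> simp_all

theorem solve_five_four {w j : ℕ} {s : ℤ} (hs : s.natAbs < 4) (hj : 1 ≤ j) (hd : 3 ^ j ∣ 12)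
    (h : (2 : ℤ) ^ w * 12 = 3 ^ j * (-4 - s) ^ 2) (hb : 1 + s ^ 2 + (1 + s) ^ 2 ≤ (2 : ℤ) ^ w) :
    w = 2 ∧ j = 1 := by
  have hj' : j = 1 := by
    by_contra hne
    have := (pow_dvd_pow 3 (by omega : 2 ≤ j)).trans hd
    norm_num at this
  subst hj'
  obtain ⟨h1, h2⟩ : -4 < s ∧ s < 4 := by constructor <;> omega
  have hw : w < 6 := by
    by_contra hw
    have : (64 : ℤ) ≤ 2 ^ w := le_trans (by norm_num) (pow_le_pow_right₀ (by norm_num) (not_lt.1 hw))
    interval_cases s <;> omega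
  interval_cases w <;> interval_cases s <;> simp_all

theorem solve_five_nine {w j : ℕ} {s : ℤ} (hs : s.natAbs < 9) (hj : 1 ≤ j) (hd : 3 ^ j ∣ 72)
    (h : (2 : ℤ) ^ w * 72 = 3 ^ j * (-9 - s) ^ 2) (hb : 1 + s ^ 2 + (1 + s) ^ 2 ≤ (2 : ℤ) ^ w) :
    w = 3 ∧ j = 2 := by
  have hj' : j < 3 := by
    by_contra hne
    have := (pow_dvd_pow 3 (by omega : 3 ≤ j)).trans hd
    norm_num at this
  obtain ⟨h1, h2⟩ : -9 < s ∧ s < 9 := by constructor <;> omega
  have hw : w < 6 := by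
    by_contra hw
    have : (64 : ℤ) ≤ 2 ^ w := le_trans (by norm_num) (pow_le_pow_right₀ (by norm_num) (not_lt.1 hw))
    interval_cases j <;> interval_cases s <;> omega
  interval_cases j <;> interval_cases w <;> interval_cases s <;> simp_all

end CfsgLib.SpecFive.Arith
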