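import Cfsg.Agent.Lib.SpecFive.Lifting
import Cfsg.Agent.Lib.Linear.Card
import Cfsg.Agent.Lib.Present.BinIcosahedral
import Cfsg.Agent.S0252
import Mathlib.FieldTheory.Finite.GaloisField

/-!
# The extension of an irreducible module by `SL(2, 4)` with element orders at most five
-/

set_option autoImplicit false
set_option linter.style.haveILetI false
set_option linter.unusedSectionVars false

namespace CfsgLib.SpecFive

open Subgroup

universe u

theorem a5_orders : ∀ a : alternatingGroup (Fin 5),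
    ¬ (a * a ≠ 1 ∧ a * a * (a * a) = 1) := by decide +kernel

theorem a5_triangle : ∀ T : alternatingGroup (Fin 5), T * T = 1 → T ≠ 1 →
    ∃ X : alternatingGroup (Fin 5), X ≠ 1 ∧ X * X * X = 1 ∧ X⁻¹ * T ≠ 1 ∧ (X⁻¹ * T) ^ 5 = 1 := by
  decide +kernel

theorem closure_triangle_eq_top {Q : Type*} [Group Q] [Finite Q] [IsSimpleGroup Q]
    (h60 : Nat.card Q = 60) {X Y : Q} (hX : orderOf X = 3) (hY : orderOf Y = 5)
    (hXY : orderOf (X * Y) = 2) : Subgroup.closure ({X, Y} : Set Q) = ⊤ := by
  set K := Subgroup.closure ({X, Y} : Set Q)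
  have mX : X ∈ K := subset_closure (by simp)
  have mY : Y ∈ K := subset_closure (by simp)
  have h3 : 3 ∣ Nat.card K := hX ▸ orderOf_dvd_natCard K mX
  have h5 : 5 ∣ Nat.card K := hY ▸ orderOf_dvd_natCard K mY
  have h2 : 2 ∣ Nat.card K := hXY ▸ orderOf_dvd_natCard K (mul_mem mX mY)
  have hmul := K.card_mul_index
  rw [h60] at hmul
  have h30 : 30 ∣ Nat.card K := by omega
  obtain ⟨k, hk⟩ := h30
  have hk1 : K.index * k = 2 := by rw [hk, mul_assoc, mul_comm k] at hmul; omega
  rcases (Nat.dvd_prime Nat.prime_two).mp ⟨k, hk1.symm⟩ with h1 | h1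
  · exact index_eq_one.mp h1
  · exfalso
    have hn : K.Normal := normal_of_index_eq_two h1
    rcases hn.eq_bot_or_eq_top with e | e
    · rw [e, index_bot, h60] at h1; omega
    · rw [e, index_top] at h1; omega

variable {G : Type u} [Group G] [Finite G]

/-- The extension of `A5` splits. -/
theorem exists_section (hs : Small G) (R : Subgroup G) [R.Normal] (hR : IsPGroup 2 R)
    (e : G ⧸ R ≃* alternatingGroup (Fin 5)) :
    ∃ σ : alternatingGroup (Fin 5) →* G, ∀ a, e (QuotientGroup.mk' R (σ a)) = a := by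
  haveI : Fact (Nat.Prime 2) := ⟨Nat.prime_two⟩
  haveI : Fact (Nat.Prime 3) := ⟨Nat.prime_three⟩
  haveI : Fact (Nat.Prime 5) := ⟨by norm_num⟩
  have h60 : Nat.card (alternatingGroup (Fin 5)) = 60 := by
    rw [nat_card_alternatingGroup, Nat.card_eq_fintype_card, Fintype.card_fin]; rfl
  haveI : IsSimpleGroup (alternatingGroup (Fin 5)) := alternatingGroup.isSimpleGroup (by simp)
  let π : G →* alternatingGroup (Fin 5) := e.toMonoidHom.comp (QuotientGroup.mk' R)
  have hπs : Function.Surjective π := e.surjective.comp (QuotientGroup.mk'_surjective R)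
  -- an involution outside the radical
  obtain ⟨t, ht, htR⟩ : ∃ t : G, orderOf t = 2 ∧ π t ≠ 1 := by
    haveI : IsSimpleGroup (G ⧸ R) := e.isSimpleGroup
    obtain ⟨-, t, -, ht, -, -, htR⟩ :=
      exists_inverted_three hs R hR ((Nat.card_congr e.toEquiv).trans h60)
    exact ⟨t, ht, fun h => htR ((QuotientGroup.eq_one_iff t).1 (e.injective (h.trans (map_one e).symm)))⟩
  have htt : π t * π t = 1 := by rw [← map_mul, Invol.mul_self_eq_one ht, map_one]
  obtain ⟨X, hX1, hX3, hY1, hY5⟩ := a5_triangle (π t) htt htR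
  obtain ⟨x, hx⟩ := hπs X
  have hXo : orderOf X = 3 := orderOf_eq_prime (by rw [pow_succ, pow_two]; exact hX3) hX1
  have hYo : orderOf (X⁻¹ * π t) = 5 := orderOf_eq_prime hY5 hY1
  have lift : ∀ {n : ℕ} {g : G}, 2 < n → orderOf (π g) = n → g ^ n = 1 := by
    intro n g hn hg
    have hd := orderOf_map_dvd π g
    rw [hg] at hd
    have h5 := hs g
    obtain ⟨c, hc⟩ := hd
    have hpos := orderOf_pos g
    rcases c with _ | _ | c
    · omega
    · rw [← orderOf_dvd_iff_pow_eq_one, hc, zero_add, mul_one]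
    · have : n * 2 ≤ n * (c + 1 + 1) := Nat.mul_le_mul_left n (by omega)
      omega
  set y := x⁻¹ * t with hy
  have hπy : π y = X⁻¹ * π t := by rw [hy, map_mul, map_inv, hx]
  have hx3 : x ^ 3 = 1 := lift (by norm_num) (by rw [hx, hXo])
  have hy5 : y ^ 5 = 1 := lift (by norm_num) (by rw [hπy, hYo])
  have hxy : (x * y) ^ 2 = 1 := by rw [hy, mul_inv_cancel_left, ← ht, pow_orderOf_eq_one]
  set K := Subgroup.closure ({x, y} : Set G) with hK
  have mx : x ∈ K := subset_closure (by simp)
  have my : y ∈ K := subset_closure (by simp)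
  have hgen : Subgroup.closure ({⟨x, mx⟩, ⟨y, my⟩} : Set K) = ⊤ := by
    refine Eq.trans ?_ (closure_closure_coe_preimage (k := ({x, y} : Set G)))
    refine congrArg Subgroup.closure (Set.ext fun z => ?_)
    simp [Subtype.ext_iff]
  have hle := (Present.icosahedral_card_le (⟨x, mx⟩ : K) ⟨y, my⟩ (Subtype.ext hx3) (Subtype.ext hy5)
    (Subtype.ext hxy) hgen).2
  let f : K →* alternatingGroup (Fin 5) := π.comp K.subtype
  have hfs : Function.Surjective f := by
    rw [← MonoidHom.range_eq_top, MonoidHom.range_comp, range_subtype, hK, MonoidHom.map_closure,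
      Set.image_pair, hx, hπy]
    exact closure_triangle_eq_top h60 hXo hYo
      (by rw [mul_inv_cancel_left]; exact Invol.orderOf_eq_two htR htt)
  have hfb : Function.Bijective f := by
    refine ⟨?_, hfs⟩
    haveI := Fintype.ofFinite K
    have hge := Nat.card_le_card_of_surjective f hfs
    exact ((Nat.bijective_iff_surjective_and_card f).2 ⟨hfs, le_antisymm (hle.trans h60.ge) hge⟩).1
  refine ⟨K.subtype.comp (MulEquiv.ofBijective f hfb).symm.toMonoidHom, fun a => ?_⟩
  exact (MulEquiv.ofBijective f hfb).apply_symm_apply a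

end CfsgLib.SpecFive
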