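import Cfsg.Agent.Lib.Char.Burnside
import Cfsg.Agent.Lib.Char.Linear
import Cfsg.Agent.Lib.Char.Twist
import Cfsg.Agent.Lib.CharTools.Basic
import Mathlib.GroupTheory.Subgroup.Simple

/-!
# Facts on irreducible characters of simple groups
-/

set_option autoImplicit false
set_option linter.style.haveILetI false

open scoped ComplexConjugate

namespace CfsgLib.SpecFive

universe u

variable {G : Type u} [Group G] [Finite G]

/-- In a nonabelian simple group a nonprincipal character has no value of full absolute value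
off the identity. -/
theorem norm_apply_ne [IsSimpleGroup G] (hne : ¬ IsMulCommutative G) {φ : Cfsg.IrrCharacter G}
    (hφ : φ ≠ Char.principalIrr) {g : G} (hg : g ≠ 1) :
    ‖(φ : G → ℂ) g‖ ≠ (Char.degree (φ : G → ℂ) : ℝ) := by
  classical
  haveI := Fintype.ofFinite G
  intro hnorm
  obtain ⟨n, ρ, hρ, hchar⟩ := φ.2
  rw [← hchar, Char.degree_character] at hnorm
  obtain ⟨ω, hω⟩ := Char.eq_smul_one_of_norm_character_eq ρ g hnorm
  rcases (MonoidHom.normal_ker ρ).eq_bot_or_eq_top with hk | hk
  · have hgc : g ∈ Subgroup.center G := by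
      rw [Subgroup.mem_center_iff]
      intro x
      have h1 : g * x * g⁻¹ * x⁻¹ ∈ MonoidHom.ker ρ := by
        rw [MonoidHom.mem_ker]
        have hc : ρ g * ρ x = ρ x * ρ g := by rw [hω, smul_mul_assoc, one_mul, mul_smul_comm, mul_one]
        rw [map_mul, map_mul, map_mul, hc, mul_assoc (ρ x), ← map_mul, mul_inv_cancel, map_one,
          mul_one, ← map_mul, mul_inv_cancel, map_one]
      rw [hk, Subgroup.mem_bot, mul_inv_eq_one, mul_inv_eq_iff_eq_mul] at h1
      exact h1.symm
    rcases (inferInstance : (Subgroup.center G).Normal).eq_bot_or_eq_top with hz | hz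
    · exact hg (Subgroup.mem_bot.1 (hz ▸ hgc))
    · exact hne ⟨⟨fun a b => (Subgroup.mem_center_iff.1 (hz ▸ Subgroup.mem_top b) a)⟩⟩
  · apply hφ
    have hconst : (φ : G → ℂ) = (n : ℂ) • (1 : G → ℂ) := by
      funext x
      have hx : ρ x = 1 := MonoidHom.mem_ker.mp (hk ▸ Subgroup.mem_top x)
      simp [← hchar, Representation.character, hx, LinearMap.trace_one]
    have hnorm := Char.classInner_irr_self φ.2
    rw [hconst, Char.classInner_smul_left, Char.classInner_smul_right,
      Char.classInner_irr_self Char.isIrrCharacter_one, mul_one, map_natCast] at hnorm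
    have hn : n = 1 := Nat.eq_one_of_mul_eq_one_left (m := n) (by exact_mod_cast hnorm)
    refine Subtype.ext ?_
    rw [hconst, hn]
    simp
    rfl

theorem degree_ne_one [IsSimpleGroup G] (hne : ¬ IsMulCommutative G) {φ : Cfsg.IrrCharacter G}
    (hφ : φ ≠ Char.principalIrr) : Char.degree (φ : G → ℂ) ≠ 1 := by
  intro h1
  obtain ⟨g, hg⟩ : ∃ g : G, g ≠ 1 := exists_ne 1
  refine norm_apply_ne hne hφ hg ?_
  have h := Char.IsCharacter.degree_cast (Char.IsIrrCharacter.isCharacter φ.2)
  rw [h1, Nat.cast_one] at h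
  obtain ⟨f, hf⟩ := Char.IsCharacter.exists_linear (Char.IsIrrCharacter.isCharacter φ.2) h.symm
  rw [hf, h1, Nat.cast_one]
  refine Complex.norm_eq_one_of_pow_eq_one (n := Nat.card G) ?_ Nat.card_pos.ne'
  rw [← Units.val_pow_eq_pow_val, ← map_pow, pow_card_eq_one', map_one, Units.val_one]

theorem two_le_degree [IsSimpleGroup G] (hne : ¬ IsMulCommutative G) {φ : Cfsg.IrrCharacter G}
    (hφ : φ ≠ Char.principalIrr) : 2 ≤ Char.degree (φ : G → ℂ) := by
  have := degree_ne_one hne hφ
  have := Char.IsIrrCharacter.degree_pos φ.2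
  omega

/-- The value at an involution is an integer. -/
theorem exists_int_apply (φ : Cfsg.IrrCharacter G) {z : G} (hz : z * z = 1) :
    ∃ s : ℤ, (φ : G → ℂ) z = s := by
  obtain ⟨n, ρ, -, hchar⟩ := φ.2
  obtain ⟨μ, hμ, -, -, hpow⟩ := Char.exists_eigenvalues ρ z
  have h : ∀ i, ∃ e : ℤ, μ i = e := by
    intro i
    have h2 : μ i ^ 2 = 1 := by
      obtain ⟨d, hd⟩ : orderOf z ∣ 2 := orderOf_dvd_of_pow_eq_one (by rw [pow_two]; exact hz)
      rw [hd, pow_mul, hμ, one_pow]
    rcases sq_eq_one_iff.1 h2 with h | h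
    · exact ⟨1, by simp [h]⟩
    · exact ⟨-1, by simp [h]⟩
  choose e he using h
  refine ⟨∑ i, e i, ?_⟩
  rw [← hchar, ← pow_one z, hpow 1, Int.cast_sum]
  simp [he]

/-- A character vanishing off the identity of `A` has degree divisible by the order of `A`. -/
theorem card_dvd_degree {A : Subgroup G} (φ : Cfsg.IrrCharacter G)
    (h : ∀ b ∈ A, b ≠ 1 → (φ : G → ℂ) b = 0) : Nat.card A ∣ Char.degree (φ : G → ℂ) := by
  classical
  haveI := Fintype.ofFinite G
  haveI := Fintype.ofFinite A
  obtain ⟨k, hk⟩ := Char.IsCharacter.exists_nat_classInner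
    (CharTwist.isCharacter_comp (Char.IsIrrCharacter.isCharacter φ.2) A.subtype)
    (Char.principalIrr : Cfsg.IrrCharacter A).2
  refine ⟨k, ?_⟩
  have hsum : ∑ b : A, (φ : G → ℂ) b = (Char.degree (φ : G → ℂ) : ℂ) := by
    rw [Finset.sum_eq_single (1 : A) (fun b _ hb => h b b.2 fun e => hb (Subtype.ext e))
      (fun h' => absurd (Finset.mem_univ _) h'),
      Char.IsCharacter.degree_cast (Char.IsIrrCharacter.isCharacter φ.2)]
    rfl
  simp only [Cfsg.classInner, Function.comp, Char.principalIrr_apply, map_one, mul_one,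
    Subgroup.coe_subtype] at hk
  rw [hsum, inv_mul_eq_iff_eq_mul₀ (Nat.cast_ne_zero.2 Nat.card_pos.ne')] at hk
  exact_mod_cast hk

end CfsgLib.SpecFive
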