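import Cfsg.Agent.Lib.SpecFive.Natural

/-!
# Minimality of the radical in a critical group, and the affine group over the field with four elements
-/

set_option autoImplicit false
set_option linter.style.haveILetI false
set_option linter.unusedSectionVars false

namespace CfsgLib.SpecFive

open Matrix

universe u

variable {G : Type u} [Group G] [Finite G]

/-- A proper quotient above the radical still has an element of order four. -/
theorem exists_order_four (hs : Small G) (R : Subgroup G) [R.Normal]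
    (hR : Cfsg.IsElementaryAbelian 2 R) (e : G ⧸ R ≃* alternatingGroup (Fin 5))
    (W : Subgroup G) [W.Normal] (hW : W ≤ R) (hne : W ≠ R) : ∃ g : G ⧸ W, orderOf g = 4 := by
  by_contra hno
  push Not at hno
  haveI : IsSimpleGroup (alternatingGroup (Fin 5)) := alternatingGroup.isSimpleGroup (by simp)
  haveI : IsSimpleGroup (G ⧸ R) := e.isSimpleGroup
  have h60 : Nat.card (G ⧸ R) = 60 := by
    rw [Nat.card_congr e.toEquiv, nat_card_alternatingGroup, Nat.card_eq_fintype_card,
      Fintype.card_fin]; rfl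
  have hRp : IsPGroup 2 R := fun r => ⟨1, Subtype.ext (by
    show (r : G) ^ 2 ^ 1 = 1
    rw [pow_one]; exact hR.2 _ r.2)⟩
  obtain ⟨y, t, hyo, hto, -, hyR, htR⟩ := exists_inverted_three hs R hRp h60
  have hsW : Small (G ⧸ W) := hs.quotient W
  set q := QuotientGroup.mk' W with hq
  have hqs : Function.Surjective q := QuotientGroup.mk'_surjective W
  have hRW : ∀ r ∈ R, q t * q r = q r * q t := by
    intro r hr
    have hsqr : q r * q r = 1 := by rw [← map_mul, ← pow_two, hR.2 r hr, map_one]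
    have htt : q t * q t = 1 := by rw [← map_mul, Invol.mul_self_eq_one hto, map_one]
    have hpar : 2 ∣ orderOf (q t * q r) := by
      let f : G ⧸ W →* G ⧸ R := QuotientGroup.lift W (QuotientGroup.mk' R)
        (by rwa [QuotientGroup.ker_mk'])
      have hf : ∀ g, f (q g) = (QuotientGroup.mk g : G ⧸ R) := fun g => rfl
      have hd := orderOf_map_dvd f (q t * q r)
      rw [map_mul, hf, hf, (QuotientGroup.eq_one_iff r).2 hr, mul_one] at hd
      have ht2 : orderOf (QuotientGroup.mk t : G ⧸ R) = 2 := by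
        haveI : Fact (Nat.Prime 2) := ⟨Nat.prime_two⟩
        refine orderOf_eq_prime ?_ fun h => htR ((QuotientGroup.eq_one_iff t).1 h)
        rw [← QuotientGroup.mk_pow, ← hto, pow_orderOf_eq_one, QuotientGroup.mk_one]
      rwa [ht2] at hd
    have h2 : orderOf (q t * q r) = 2 := by
      rcases hsW.cases (q t * q r) with h | h | h | h | h <;> rw [h] at hpar
      · norm_num at hpar
      · exact h
      · norm_num at hpar
      · exact absurd h (hno _)
      · norm_num at hpar
    have h3 := Invol.mul_self_eq_one h2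
    calc q t * q r = q t * (q t * q r * (q t * q r)) * q r := by rw [h3, mul_one]
      _ = q t * q t * q r * q t * (q r * q r) := by simp [mul_assoc]
      _ = q r * q t := by rw [htt, hsqr, one_mul, mul_one]
  set C := (Subgroup.centralizer ((R.map q : Subgroup (G ⧸ W)) : Set (G ⧸ W))).comap q with hC
  haveI : (R.map q).Normal := ‹R.Normal›.map q hqs
  haveI : C.Normal := (inferInstance : (Subgroup.centralizer _).Normal).comap q
  have hmemC : ∀ g, (∀ r ∈ R, q g * q r = q r * q g) → g ∈ C := by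
    intro g hg
    refine Subgroup.mem_comap.2 (Subgroup.mem_centralizer_iff.2 ?_)
    rintro _ ⟨r, hr, rfl⟩
    exact (hg r hr).symm
  have hRC : R ≤ C := fun r hr => hmemC r fun r' hr' => by
    rw [← map_mul, ← map_mul]
    exact congrArg q (congrArg Subtype.val (hR.1.is_comm.comm ⟨r, hr⟩ ⟨r', hr'⟩))
  have htop : C.map (QuotientGroup.mk' R) = ⊤ := by
    haveI : (C.map (QuotientGroup.mk' R)).Normal :=
      ‹C.Normal›.map _ (QuotientGroup.mk'_surjective R)
    refine (inferInstance : (C.map (QuotientGroup.mk' R)).Normal).eq_bot_or_eq_top.resolve_left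
      fun h => htR ?_
    have := Subgroup.mem_map_of_mem (QuotientGroup.mk' R) (hmemC t hRW)
    rw [h, Subgroup.mem_bot] at this
    exact (QuotientGroup.eq_one_iff t).1 this
  have hyC : y ∈ C := by
    obtain ⟨c, hc, hcy⟩ : QuotientGroup.mk' R y ∈ C.map (QuotientGroup.mk' R) := htop ▸ Subgroup.mem_top _
    have : c⁻¹ * y ∈ R := QuotientGroup.eq.1 hcy
    simpa using mul_mem hc (hRC this)
  obtain ⟨r, hr, hrW⟩ : ∃ r ∈ R, r ∉ W := by
    by_contra h
    push Not at h
    exact hne (le_antisymm hW h)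
  have hyo' : orderOf (q y) = 3 := by
    haveI : Fact (Nat.Prime 3) := ⟨Nat.prime_three⟩
    refine orderOf_eq_prime (by rw [← map_pow, ← hyo, pow_orderOf_eq_one, map_one]) fun h => hyR (hW ?_)
    exact (QuotientGroup.eq_one_iff y).1 h
  have hro : orderOf (q r) = 2 := Invol.orderOf_eq_two
    (fun h => hrW ((QuotientGroup.eq_one_iff r).1 h)) (by rw [← map_mul, ← pow_two, hR.2 r hr, map_one])
  exact not_commute_two hsW (Or.inl ⟨rfl, rfl⟩ : Pair35 3 5) hro hyo'
    (Subgroup.mem_centralizer_iff.1 (Subgroup.mem_comap.1 hyC) (q r) ⟨r, hr, rfl⟩)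

section Affine

variable {F : Type} [Field F] [Fintype F]

/-- Matrices with last row `(0, 0, 1)`. -/
def affineSet (F : Type) [Field F] : Set (SpecialLinearGroup (Fin 3) F) :=
  {M | (M : Matrix (Fin 3) (Fin 3) F) 2 0 = 0 ∧ (M : Matrix (Fin 3) (Fin 3) F) 2 1 = 0 ∧
    (M : Matrix (Fin 3) (Fin 3) F) 2 2 = 1}

theorem affine_mem {M : SpecialLinearGroup (Fin 3) F} (h : M ∈ Subgroup.closure (affineSet F)) :
    M.1 2 0 = 0 ∧ M.1 2 1 = 0 ∧ M.1 2 2 = 1 := by
  have key : ∀ M : SpecialLinearGroup (Fin 3) F, ![0, 0, 1] ᵥ* M.1 = ![0, 0, 1] ↔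
      (M.1 2 0 = 0 ∧ M.1 2 1 = 0 ∧ M.1 2 2 = 1) := by
    intro M
    simp [funext_iff, Fin.forall_fin_succ, Matrix.vecMul, dotProduct, Fin.sum_univ_three]
  refine (key M).1 ?_
  induction h using Subgroup.closure_induction with
  | mem x hx => exact (key x).2 hx
  | one => exact vecMul_one _
  | mul a b _ _ ha hb =>
    show ![0, 0, 1] ᵥ* (a.1 * b.1) = _
    rw [← vecMul_vecMul, ha, hb]
  | inv a _ ha =>
    conv_lhs => rw [← ha]
    rw [vecMul_vecMul]
    show ![0, 0, 1] ᵥ* (a * a⁻¹ : SpecialLinearGroup (Fin 3) F).1 = _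
    rw [mul_inv_cancel]
    exact vecMul_one _

/-- The linear part. -/
def linPart (M : Subgroup.closure (affineSet F)) : SpecialLinearGroup (Fin 2) F :=
  ⟨!![M.1.1 0 0, M.1.1 0 1; M.1.1 1 0, M.1.1 1 1], by
    obtain ⟨h0, h1, h2⟩ := affine_mem M.2
    have hd : M.1.1.det = 1 := M.1.2
    rw [det_fin_three, h0, h1, h2] at hd
    rw [det_fin_two_of]
    linear_combination hd⟩

/-- The translation part. -/
def transPart (M : Subgroup.closure (affineSet F)) : Fin 2 → F := ![M.1.1 0 2, M.1.1 1 2]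

theorem linPart_mul (M N : Subgroup.closure (affineSet F)) :
    linPart (M * N) = linPart M * linPart N := by
  obtain ⟨h0, h1, -⟩ := affine_mem N.2
  refine Subtype.ext (Matrix.ext fun i j => ?_)
  show !![(M.1.1 * N.1.1) 0 0, (M.1.1 * N.1.1) 0 1; (M.1.1 * N.1.1) 1 0, (M.1.1 * N.1.1) 1 1] i j =
    ((linPart M).1 * (linPart N).1) i j
  fin_cases i <;> fin_cases j <;>
    simp [linPart, Matrix.mul_apply, Fin.sum_univ_two, Fin.sum_univ_three, h0, h1]

theorem transPart_mul (M N : Subgroup.closure (affineSet F)) :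
    transPart (M * N) = transPart M + act (linPart M) (transPart N) := by
  obtain ⟨-, -, h2⟩ := affine_mem N.2
  funext i
  show ![(M.1.1 * N.1.1) 0 2, (M.1.1 * N.1.1) 1 2] i = _
  fin_cases i <;>
    simp [transPart, linPart, act, Matrix.mulVec, dotProduct, Matrix.mul_apply, Fin.sum_univ_two,
      Fin.sum_univ_three, h2] <;>
    ring

/-- The affine group maps onto an extension of its natural module. -/
theorem affine_equiv (R : Subgroup G) [R.Normal] (σ : SpecialLinearGroup (Fin 2) F →* G)
    (hσ : ∀ g, σ g ∈ R → g = 1) (hσR : ∀ g : G, ∃ s, g * (σ s)⁻¹ ∈ R)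
    (φ : Multiplicative (Fin 2 → F) →* G) (hφ : Function.Injective φ) (hrange : φ.range = R)
    (heq : ∀ g a, σ g * φ (Multiplicative.ofAdd a) * (σ g)⁻¹ =
      φ (Multiplicative.ofAdd ((g : Matrix (Fin 2) (Fin 2) F) *ᵥ a))) :
    Nonempty (Subgroup.closure (affineSet F) ≃* G) := by
  let Φ : Subgroup.closure (affineSet F) →* G :=
    MonoidHom.mk' (fun M => φ (Multiplicative.ofAdd (transPart M)) * σ (linPart M)) fun M N => by
      rw [linPart_mul, transPart_mul, ofAdd_add, map_mul, map_mul,
        show act (linPart M) (transPart N) = (linPart M).1 *ᵥ transPart N from rfl, ← heq]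
      simp [mul_assoc]
  refine ⟨MulEquiv.ofBijective Φ ⟨(injective_iff_map_eq_one Φ).2 fun M hM => ?_, fun g => ?_⟩⟩
  · change φ (Multiplicative.ofAdd (transPart M)) * σ (linPart M) = 1 at hM
    have hmem : φ (Multiplicative.ofAdd (transPart M)) ∈ R := hrange ▸ ⟨_, rfl⟩
    have hl : linPart M = 1 := hσ _ (by rw [eq_inv_of_mul_eq_one_right hM]; exact inv_mem hmem)
    rw [hl, map_one, mul_one] at hM
    have ht : transPart M = 0 := hφ (hM.trans (map_one φ).symm)
    obtain ⟨h0, h1, h2⟩ := affine_mem M.2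
    have e00 : M.1.1 0 0 = 1 := congrFun (congrFun (congrArg Subtype.val hl) 0) 0
    have e01 : M.1.1 0 1 = 0 := congrFun (congrFun (congrArg Subtype.val hl) 0) 1
    have e10 : M.1.1 1 0 = 0 := congrFun (congrFun (congrArg Subtype.val hl) 1) 0
    have e11 : M.1.1 1 1 = 1 := congrFun (congrFun (congrArg Subtype.val hl) 1) 1
    have e02 : M.1.1 0 2 = 0 := congrFun ht 0
    have e12 : M.1.1 1 2 = 0 := congrFun ht 1
    refine Subtype.ext (Subtype.ext (Matrix.ext fun i j => ?_))
    show M.1.1 i j = (1 : Matrix (Fin 3) (Fin 3) F) i j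
    fin_cases i <;> fin_cases j <;> simp [h0, h1, h2, e00, e01, e10, e11, e02, e12]
  · obtain ⟨s, hs'⟩ := hσR g
    obtain ⟨a, ha⟩ : g * (σ s)⁻¹ ∈ φ.range := hrange.symm ▸ hs'
    let M : SpecialLinearGroup (Fin 3) F :=
      ⟨!![s.1 0 0, s.1 0 1, a.toAdd 0; s.1 1 0, s.1 1 1, a.toAdd 1; 0, 0, 1], by
        have hd : s.1.det = 1 := s.2
        rw [det_fin_two] at hd
        rw [det_fin_three]
        simp
        linear_combination hd⟩
    refine ⟨⟨M, Subgroup.subset_closure ⟨rfl, rfl, rfl⟩⟩, ?_⟩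
    show φ (Multiplicative.ofAdd (transPart _)) * σ (linPart _) = g
    rw [show linPart (F := F) ⟨M, Subgroup.subset_closure ⟨rfl, rfl, rfl⟩⟩ = s from
      Subtype.ext (Matrix.ext fun i j => by fin_cases i <;> fin_cases j <;> rfl),
      show transPart (F := F) ⟨M, Subgroup.subset_closure ⟨rfl, rfl, rfl⟩⟩ = a.toAdd from
      funext fun i => by fin_cases i <;> rfl, ofAdd_toAdd, ha, inv_mul_cancel_right]

end Affine

end CfsgLib.SpecFive
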