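import Cfsg.Agent.Lib.SpecFive.Sides

/-!
# Both Sylow normalizers of even index at least four
-/

set_option autoImplicit false
set_option linter.style.haveILetI false
set_option linter.unusedSectionVars false
set_option linter.unnecessarySeqFocus false

namespace CfsgLib.SpecFive

universe u

namespace Arith

/-- Two large moduli with small residues are close. -/
theorem near {P Q r r' k k' : ℤ} (hP : 81 ≤ P) (hQ : 25 ≤ Q) (hr : |r| ≤ 9) (hr' : |r'| ≤ 9)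
    (h1 : Q - r' = P * k) (h2 : P - r = Q * k') : k = 1 ∧ k' = 1 := by
  obtain ⟨h3, h4⟩ := abs_le.1 hr
  obtain ⟨h5, h6⟩ := abs_le.1 hr'
  have hk' : 1 ≤ k' := by
    by_contra h
    nlinarith [mul_le_mul_of_nonneg_left (show k' ≤ 0 by omega) (show 0 ≤ Q by omega)]
  have hk : 1 ≤ k := by
    by_contra h
    nlinarith [mul_le_mul_of_nonneg_left (show k ≤ 0 by omega) (show 0 ≤ P by omega)]
  have hPQ : Q ≤ P + 9 := by
    nlinarith [mul_le_mul_of_nonneg_left hk' (show 0 ≤ Q by omega)]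
  have hQP : P ≤ Q + 9 := by
    nlinarith [mul_le_mul_of_nonneg_left hk (show 0 ≤ P by omega)]
  constructor
  · by_contra h
    nlinarith [mul_le_mul_of_nonneg_left (show 2 ≤ k by omega) (show 0 ≤ P by omega)]
  · by_contra h
    nlinarith [mul_le_mul_of_nonneg_left (show 2 ≤ k' by omega) (show 0 ≤ Q by omega)]

theorem three_pow_ne {i : ℕ} (hi : 2 ≤ i) {b : ℕ} (hb : 1 ≤ b) :
    3 ^ (i + i) ≠ 5 ^ b + 4 ∧ 5 ^ b ≠ 3 ^ (i + i) + 4 := by
  constructor <;> intro h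
  · have h2 : 2 ≤ 3 ^ i := le_trans (by norm_num)
      (Nat.pow_le_pow_right (by norm_num) (show 1 ≤ i by omega))
    have hdiv : 3 ^ i - 2 ∣ 5 ^ b := ⟨3 ^ i + 2, by
      rw [pow_add] at h
      zify [h2] at h ⊢
      linarith⟩
    have hdiv' : 3 ^ i + 2 ∣ 5 ^ b := ⟨3 ^ i - 2, by
      rw [pow_add] at h
      zify [h2] at h ⊢
      linarith⟩
    obtain ⟨u, -, hu⟩ := (Nat.dvd_prime_pow (by norm_num : Nat.Prime 5)).1 hdiv
    obtain ⟨v, -, hv⟩ := (Nat.dvd_prime_pow (by norm_num : Nat.Prime 5)).1 hdiv'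
    have h9 : 9 ≤ 3 ^ i := (show 9 = 3 ^ 2 by norm_num) ▸ Nat.pow_le_pow_right (by norm_num) hi
    rcases u with _ | u
    · norm_num at hu; omega
    rcases v with _ | v
    · norm_num at hv; omega
    rw [pow_succ] at hu hv
    omega
  · have hp3 : 3 ^ (i + i) % 3 = 0 := Nat.mod_eq_zero_of_dvd (dvd_pow_self 3 (by omega))
    have hbeven : Even b := by
      by_contra hbo
      have := five_pow_mod_twentyfour b
      rw [if_neg hbo] at this
      omega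
    obtain ⟨c, rfl⟩ := hbeven
    have hc2 : 2 ≤ 5 ^ c := le_trans (by norm_num)
      (Nat.pow_le_pow_right (by norm_num) (show 1 ≤ c by omega))
    have hdiv : 5 ^ c - 2 ∣ 3 ^ (i + i) := ⟨5 ^ c + 2, by
      rw [pow_add 5] at h
      zify [hc2] at h ⊢
      linarith⟩
    have hdiv' : 5 ^ c + 2 ∣ 3 ^ (i + i) := ⟨5 ^ c - 2, by
      rw [pow_add 5] at h
      zify [hc2] at h ⊢
      linarith⟩
    obtain ⟨u, -, hu⟩ := (Nat.dvd_prime_pow Nat.prime_three).1 hdiv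
    obtain ⟨v, -, hv⟩ := (Nat.dvd_prime_pow Nat.prime_three).1 hdiv'
    have h5c : 5 ≤ 5 ^ c := Nat.le_self_pow (by omega) 5
    rcases u with _ | u
    · norm_num at hu; omega
    rcases v with _ | v
    · norm_num at hv; omega
    rw [pow_succ] at hu hv
    omega

theorem eightyone_le {k : ℕ} (hk : 4 ≤ k) : (81 : ℤ) ≤ ((3 ^ k : ℕ) : ℤ) := by
  have h : 3 ^ 4 ≤ 3 ^ k := Nat.pow_le_pow_right (by norm_num) hk
  exact_mod_cast h

/-- The residues of the powers of three and five. -/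
theorem residues {a b n₁ n₂ : ℕ} (ha : 1 ≤ a) (hb : 1 ≤ b) (hn₁ : n₁ = 4 ∨ n₁ = 8)
    (hn₂ : n₂ = 4 ∨ n₂ = 8) (hp : n₁ ∣ 3 ^ a - 1) (hq : n₂ ∣ 5 ^ b - 1) {r r' : ℤ}
    (hr : ((3 ^ a : ℕ) : ℤ) ∣ (5 ^ b : ℕ) - r')
    (hr' : |r'| = 1 ∨ (|r'| = n₁ ∧ 2 * n₁ < 3 ^ a) ∨ (3 ^ a = 9 ∧ n₁ = 4 ∧ |r'| = 5) ∨
      (3 ^ a = 25 ∧ n₁ = 8 ∧ (|r'| = 7 ∨ |r'| = 9)))
    (hs : ((5 ^ b : ℕ) : ℤ) ∣ (3 ^ a : ℕ) - r)
    (hs' : |r| = 1 ∨ (|r| = n₂ ∧ 2 * n₂ < 5 ^ b) ∨ (5 ^ b = 9 ∧ n₂ = 4 ∧ |r| = 5) ∨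
      (5 ^ b = 25 ∧ n₂ = 8 ∧ (|r| = 7 ∨ |r| = 9))) :
    3 ^ a = 9 ∧ 5 ^ b = 5 ∧ n₁ = 4 ∧ n₂ = 4 := by
  have haeven : Even a := by
    by_contra hodd
    have h3 := three_pow_mod_eight a
    rw [if_neg hodd] at h3
    rcases hn₁ with rfl | rfl <;> omega
  obtain ⟨i, rfl⟩ := haeven
  have h25 : 3 ^ (i + i) ≠ 25 := by
    intro h
    have : 3 ∣ 25 := h ▸ dvd_pow_self 3 (by omega)
    norm_num at this
  have hrb : |r| ≤ 9 := by rcases hn₂ with rfl | rfl <;> omega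
  have hrb' : |r'| ≤ 9 := by rcases hn₁ with rfl | rfl <;> omega
  have hr5 : 3 ^ (i + i) ≠ 9 → r' ≠ 5 := by
    intro hne h
    rw [h] at hr'
    rcases hn₁ with rfl | rfl <;> norm_num at hr' <;> omega
  obtain ⟨hrl, hru⟩ := abs_le.1 hrb
  obtain ⟨hrl', hru'⟩ := abs_le.1 hrb'
  rcases Nat.lt_or_ge i 2 with hi | hi <;> rcases Nat.lt_or_ge b 2 with hb2 | hb2
  · obtain rfl : i = 1 := by omega
    obtain rfl : b = 1 := by omega
    norm_num at hr hq hr' ⊢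
    obtain ⟨k, hk⟩ := hr
    rcases hn₁ with rfl | rfl <;> rcases hn₂ with rfl | rfl <;>
      simp only [abs_eq (by norm_num : (0 : ℤ) ≤ 1), abs_eq (by norm_num : (0 : ℤ) ≤ 5)] at hr' <;>
      (try norm_num at *) <;> omega
  · exfalso
    obtain rfl : i = 1 := by omega
    have hq25 : (25 : ℤ) ≤ ((5 ^ b : ℕ) : ℤ) := by
      exact_mod_cast (show 25 = 5 ^ 2 by norm_num) ▸ Nat.pow_le_pow_right (by norm_num) hb2
    have h0 := Int.eq_zero_of_abs_lt_dvd hs (by rw [abs_lt]; constructor <;> omega)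
    have hr9 : r = 9 := by omega
    subst hr9
    have hq25' : 5 ^ b = 25 := by
      rcases hn₂ with rfl | rfl <;> norm_num at hs' <;> omega
    rw [hq25'] at hr
    obtain ⟨k, hk⟩ := hr
    simp only [abs_eq (by norm_num : (0 : ℤ) ≤ 1), abs_eq (by norm_num : (0 : ℤ) ≤ 5),
      abs_eq (by norm_num : (0 : ℤ) ≤ 7), abs_eq (by norm_num : (0 : ℤ) ≤ 9),
      abs_eq (Int.natCast_nonneg n₁)] at hr'
    rcases hn₁ with rfl | rfl <;> omega
  all_goals have hP : (81 : ℤ) ≤ ((3 ^ (i + i) : ℕ) : ℤ) := eightyone_le (by omega)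
  · exfalso
    obtain rfl : b = 1 := by omega
    have h0 := Int.eq_zero_of_abs_lt_dvd hr (by rw [abs_lt]; constructor <;> omega)
    norm_num at h0
    exact hr5 (by omega) (by omega)
  · exfalso
    have hQ : (25 : ℤ) ≤ ((5 ^ b : ℕ) : ℤ) := by
      exact_mod_cast (show 25 = 5 ^ 2 by norm_num) ▸ Nat.pow_le_pow_right (by norm_num) hb2
    obtain ⟨k, hk⟩ := hr
    obtain ⟨k', hk'⟩ := hs
    obtain ⟨rfl, rfl⟩ := near hP hQ hrb hrb' hk hk'
    obtain ⟨hne1, hne2⟩ := three_pow_ne hi hb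
    have hp5 : 3 ^ (i + i) % 5 = 1 ∨ 3 ^ (i + i) % 5 = 4 := by
      clear * -
      induction i with
      | zero => left; rfl
      | succ i ih =>
        rw [show i + 1 + (i + 1) = i + i + 2 by ring, pow_add]
        omega
    have hbpos : 5 ^ b % 5 = 0 := Nat.mod_eq_zero_of_dvd (dvd_pow_self 5 (by omega))
    have hodd3 : 3 ^ (i + i) % 2 = 1 := Nat.odd_iff.1 (Odd.pow (by decide))
    have hodd5 : 5 ^ b % 2 = 1 := Nat.odd_iff.1 (Odd.pow (by decide))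
    rcases hn₁ with rfl | rfl <;> rcases hn₂ with rfl | rfl <;>
      simp only [abs_eq (by norm_num : (0 : ℤ) ≤ 1), abs_eq (by norm_num : (0 : ℤ) ≤ 5),
        abs_eq (by norm_num : (0 : ℤ) ≤ 7), abs_eq (by norm_num : (0 : ℤ) ≤ 9)] at hr' hs' <;>
      norm_num at hr' hs' <;> omega

end Arith

variable {G : Type u} [Group G] [Fintype G] {A : Subgroup G} [Fintype A] {n : ℕ}

theorem Fam.Y_cases (F : Fam A n) (hc : ∀ x ∈ A, ∀ y ∈ A, x * y = y * x) {l k : ℕ}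
    (hl : l = 3 ∨ l = 5) (hcard : Nat.card A = l ^ k) (hn : n = 4 ∨ n = 8) (h2 : 2 ≤ F.t) :
    F.Y = 0 ∨ (Nat.card A = 9 ∧ n = 4 ∧ F.Y = 1) ∨
      (Nat.card A = 25 ∧ n = 8 ∧ (F.Y = 1 ∨ F.Y = -1)) := by
  have hA := F.card_comm hc
  have hsq := F.sum_sq_two h2
  have hnn : 0 ≤ ∑ φ ∈ F.rest, F.X φ ^ 2 := Finset.sum_nonneg fun _ _ => sq_nonneg _
  have hbd : (F.t : ℤ) * F.Y ^ 2 - 2 * F.Y ≤ (n : ℤ) - 1 := by omega
  rcases eq_or_ne F.Y 0 with hY0 | hY0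
  · exact Or.inl hY0
  right
  have ht2 : (2 : ℤ) ≤ (F.t : ℤ) := by exact_mod_cast h2
  have hn8 : (n : ℤ) ≤ 8 := by rcases hn with rfl | rfl <;> norm_num
  have hY : -2 ≤ F.Y ∧ F.Y ≤ 2 := by
    constructor <;> nlinarith [mul_nonneg (sub_nonneg.2 ht2) (sq_nonneg F.Y)]
  obtain ⟨hY1, hY2⟩ := hY
  have hYsq : 1 ≤ F.Y ^ 2 := by nlinarith [sq_abs F.Y, Int.one_le_abs hY0]
  have ht : (F.t : ℤ) ≤ 11 := by
    nlinarith [mul_nonneg (show (0 : ℤ) ≤ F.t by omega) (sub_nonneg.2 hYsq)]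
  have ht' : F.t ≤ 11 := by exact_mod_cast ht
  have hk5 : k < 5 := by
    by_contra hk5
    have h243 : 3 ^ 5 ≤ l ^ k := (Nat.pow_le_pow_right (by norm_num) (not_lt.1 hk5)).trans
      (Nat.pow_le_pow_left (by omega) k)
    rcases hn with rfl | rfl <;> omega
  rw [hcard] at hA ⊢
  generalize F.t = t at *
  generalize F.Y = Y at *
  rcases hn with rfl | rfl <;> rcases hl with rfl | rfl <;> interval_cases k <;>
    norm_num at hA ⊢ <;> (try omega) <;> interval_cases Y <;> omega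

/-- The residue of an odd degree. -/
theorem Fam.residue (F : Fam A n) (hc : ∀ x ∈ A, ∀ y ∈ A, x * y = y * x) {l k : ℕ}
    (hl : l = 3 ∨ l = 5) (hcard : Nat.card A = l ^ k) (hn : n = 4 ∨ n = 8) :
    ∃ φ : Cfsg.IrrCharacter G, φ ≠ Char.principalIrr ∧ Odd (Char.degree (φ : G → ℂ)) ∧
      ¬ l ∣ Char.degree (φ : G → ℂ) ∧ ∃ r : ℤ,
        (Nat.card A : ℤ) ∣ (Char.degree (φ : G → ℂ) : ℤ) - r ∧
        (|r| = 1 ∨ (|r| = (n : ℤ) ∧ 2 * n < Nat.card A) ∨ (Nat.card A = 9 ∧ n = 4 ∧ |r| = 5) ∨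
          (Nat.card A = 25 ∧ n = 8 ∧ (|r| = 7 ∨ |r| = 9))) := by
  obtain ⟨φ, hφ1, hodd, hcase⟩ := F.exists_odd (by omega)
  refine ⟨φ, hφ1, hodd, fun hd => ?_, ?_⟩
  · obtain ⟨hE, hX, -⟩ := F.vanish hc hl hcard hn hφ1 hd
    rcases hcase with h | ⟨-, h⟩
    · exact hE h
    · rw [hX] at h; exact h (dvd_zero _)
  rcases hcase with hE | ⟨hrest, hoddX⟩
  · have h2 := F.t_of_mem hE
    have hA := F.card_comm hc
    refine ⟨F.ε * (F.Y + n), ⟨F.c φ, by rw [F.degC_E hc hE]; ring⟩, ?_⟩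
    have habs : |F.ε * (F.Y + (n : ℤ))| = |F.Y + (n : ℤ)| := by
      rcases F.eps with h | h <;> simp [h]
      rw [show -(n : ℤ) + -F.Y = -(F.Y + n) by ring, abs_neg]
    rw [habs]
    rcases F.Y_cases hc hl hcard hn h2 with h | ⟨h9, h4, h1⟩ | ⟨h25, h8, h1⟩
    · refine Or.inr (Or.inl ⟨by rw [h, zero_add, abs_of_nonneg (Int.natCast_nonneg n)], ?_⟩)
      rw [hA]
      nlinarith [Nat.mul_le_mul_left n h2]
    · refine Or.inr (Or.inr (Or.inl ⟨h9, h4, ?_⟩))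
      rw [h1, h4]; rfl
    · refine Or.inr (Or.inr (Or.inr ⟨h25, h8, ?_⟩))
      rcases h1 with h1 | h1
      · right; rw [h1, h8]; rfl
      · left; rw [h1, h8]; rfl
  · refine ⟨F.X φ, ⟨F.c φ, by rw [F.degC_off hc (F.mem_rest.1 hrest).2]; ring⟩, Or.inl ?_⟩
    have hX2 : F.X φ ^ 2 ≤ 8 := (F.X_sq_le hrest).trans (by rcases hn with rfl | rfl <;> norm_num)
    have hb : -2 ≤ F.X φ ∧ F.X φ ≤ 2 := by constructor <;> nlinarith
    rw [abs_eq (by norm_num : (0 : ℤ) ≤ 1)]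
    omega

variable [IsSimpleGroup G]

theorem not_both_even (h : Ctx G) (S : Sylow 2 G) (P : Sylow 3 G) (Q : Sylow 5 G)
    [Fintype (P : Subgroup G)] [Fintype (Q : Subgroup G)]
    (hcP : ∀ x ∈ (P : Subgroup G), ∀ y ∈ (P : Subgroup G), x * y = y * x)
    (hcQ : ∀ x ∈ (Q : Subgroup G), ∀ y ∈ (Q : Subgroup G), x * y = y * x)
    {n₁ n₂ : ℕ} (hn₁ : n₁ = 4 ∨ n₁ = 8) (hn₂ : n₂ = 4 ∨ n₂ = 8)
    (F₁ : Fam (P : Subgroup G) n₁) (F₂ : Fam (Q : Subgroup G) n₂)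
    (hN₁ : n₁ * Nat.card (P : Subgroup G) =
      Nat.card (Subgroup.normalizer ((P : Subgroup G) : Set G)))
    (hN₂ : n₂ * Nat.card (Q : Subgroup G) =
      Nat.card (Subgroup.normalizer ((Q : Subgroup G) : Set G))) : False := by
  haveI := Fact.mk Nat.prime_two
  haveI := Fact.mk Nat.prime_three
  haveI : Fact (Nat.Prime 5) := ⟨by norm_num⟩
  obtain ⟨a, ha⟩ := P.2.exists_card_eq
  obtain ⟨b, hb⟩ := Q.2.exists_card_eq
  obtain ⟨w, hw⟩ := S.2.exists_card_eq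
  have hA₁ := F₁.card_comm hcP
  have hA₂ := F₂.card_comm hcQ
  have ha1 : 1 ≤ a := by
    by_contra h'
    have h1 := P.dvd_card_of_dvd_card h.h3
    rw [ha, Nat.lt_one_iff.1 (by omega : a < 1)] at h1
    norm_num at h1
  have hb1 : 1 ≤ b := by
    by_contra h'
    have h1 := Q.dvd_card_of_dvd_card h.h5
    rw [hb, Nat.lt_one_iff.1 (by omega : b < 1)] at h1
    norm_num at h1
  obtain ⟨φ, hφ1, hφo, hφ3, r', hr', hr's⟩ := F₁.residue hcP (Or.inl rfl) ha hn₁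
  obtain ⟨ψ, hψ1, hψo, hψ5, r, hr, hrs⟩ := F₂.residue hcQ (Or.inr rfl) hb hn₂
  have hdq : Char.degree (φ : G → ℂ) = 5 ^ b := by
    obtain ⟨x, y, z, hshape, -, hz⟩ := degree_shape h.small S P Q φ
    have hx : x = 0 := by
      by_contra hx
      have h2' : 2 ∣ Char.degree (φ : G → ℂ) := by
        rw [hshape]; exact (dvd_pow_self 2 hx).mul_right _ |>.mul_right _
      exact (Nat.not_even_iff_odd.2 hφo) (even_iff_two_dvd.2 h2')
    have hy : y = 0 := by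
      by_contra hy
      exact hφ3 (by rw [hshape]; exact ((dvd_pow_self 3 hy).mul_left _).mul_right _)
    subst hx hy
    rw [pow_zero, pow_zero, one_mul, one_mul] at hshape
    have hz0 : z ≠ 0 := fun hz0 => by
      have := two_le_degree h.ne hφ1
      rw [hshape, hz0, pow_zero] at this
      omega
    obtain ⟨-, -, hv⟩ := F₂.vanish hcQ (Or.inr rfl) hb hn₂ hφ1 (hshape ▸ dvd_pow_self 5 hz0)
    exact Nat.dvd_antisymm (hb ▸ hshape ▸ hz) (hb ▸ card_dvd_degree φ hv)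
  have hdp : Char.degree (ψ : G → ℂ) = 3 ^ a := by
    obtain ⟨x, y, z, hshape, hy', -⟩ := degree_shape h.small S P Q ψ
    have hx : x = 0 := by
      by_contra hx
      have h2' : 2 ∣ Char.degree (ψ : G → ℂ) := by
        rw [hshape]; exact (dvd_pow_self 2 hx).mul_right _ |>.mul_right _
      exact (Nat.not_even_iff_odd.2 hψo) (even_iff_two_dvd.2 h2')
    have hz : z = 0 := by
      by_contra hz
      exact hψ5 (by rw [hshape]; exact (dvd_pow_self 5 hz).mul_left _)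
    subst hx hz
    rw [pow_zero, pow_zero, one_mul, mul_one] at hshape
    have hy0 : y ≠ 0 := fun hy0 => by
      have := two_le_degree h.ne hψ1
      rw [hshape, hy0, pow_zero] at this
      omega
    obtain ⟨-, -, hv⟩ := F₁.vanish hcP (Or.inl rfl) ha hn₁ hψ1 (hshape ▸ dvd_pow_self 3 hy0)
    exact Nat.dvd_antisymm (ha ▸ hshape ▸ hy') (ha ▸ card_dvd_degree ψ hv)
  rw [hdq, ha] at hr'
  rw [hdp, hb] at hr
  rw [ha] at hr's hA₁
  rw [hb] at hrs hA₂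
  obtain ⟨h9, h5, rfl, rfl⟩ := Arith.residues ha1 hb1 hn₁ hn₂ ⟨F₁.t, by omega⟩ ⟨F₂.t, by omega⟩
    hr' hr's hr hrs
  obtain ⟨i, hi, hiG⟩ := card_sylow_index Q hN₂
  obtain ⟨i', hi', hiG'⟩ := card_sylow_index P hN₁
  rw [card_factor h.small S P Q, hw, ha, hb, h9, h5] at hiG hiG'
  have h5' := Arith.two_pow_mod_five w
  have h3' := Arith.two_pow_mod_three w
  rcases Nat.even_or_odd w with hev | hod
  · rw [if_pos hev] at h3'
    omega
  · have : w % 4 = 1 ∨ w % 4 = 3 := by obtain ⟨c, rfl⟩ := hod; omega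
    rcases this with h4 | h4 <;> rw [h4] at h5' <;> norm_num at h5' <;> omega

end CfsgLib.SpecFive
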