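import Cfsg.Agent.Lib.CN.Family

/-!
# Exceptional families without parity hypotheses, with multiplicities
-/

set_option autoImplicit false
set_option linter.unusedSectionVars false

open scoped ComplexConjugate

namespace CfsgLib.SpecFive

open CfsgLib.CN

universe u

variable {G : Type u} [Group G] [Fintype G]

/-- The exceptional family of `A` and the multiplicities of the restrictions to `A`. -/
structure Fam (A : Subgroup G) [Fintype A] (n : ℕ) where
  t : ℕ
  E : Finset (Cfsg.IrrCharacter G)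
  X : Cfsg.IrrCharacter G → ℤ
  c : Cfsg.IrrCharacter G → ℤ
  R : Cfsg.IrrCharacter G → ℕ
  ε : ℤ
  Y : ℤ
  t_pos : 0 < t
  card_ab : Nat.card (Ab A) = n * t + 1
  eps : ε = 1 ∨ ε = -1
  card_E : 2 ≤ t → E.card = t
  E_empty : t = 1 → E = ∅
  one_notMem : Char.principalIrr ∉ E
  X_one : X Char.principalIrr = 1
  E_eq : ∀ φ ∈ E, ∀ ψ ∈ E, ∀ z : G, (∀ y : G, y⁻¹ * z * y ∈ A → y⁻¹ * z * y = 1) →
    (φ : G → ℂ) z = (ψ : G → ℂ) z
  X_E : ∀ φ ∈ E, X φ = ε * Y
  off : ∀ φ, φ ∉ E → ∀ q : Ab A, q ≠ 1 → fibSum A (φ : G → ℂ) q = (kc A : ℂ) * (X φ : ℂ)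
  sum_E : 2 ≤ t → ∀ q : Ab A, q ≠ 1 →
    ∑ φ ∈ E, fibSum A (φ : G → ℂ) q = (kc A : ℂ) * ((ε * ((t : ℤ) * Y - 1) : ℤ) : ℂ)
  sq_sum : 2 ≤ t → ∀ [DecidableEq (Cfsg.IrrCharacter G)],
    ∑ φ ∈ (Finset.univ \ E).erase Char.principalIrr, X φ ^ 2 + (t : ℤ) * Y ^ 2 - 2 * Y = (n : ℤ) - 1
  sq_sum_one : t = 1 → ∀ [DecidableEq (Cfsg.IrrCharacter G)],
    ∑ φ ∈ Finset.univ.erase Char.principalIrr, X φ ^ 2 = (n : ℤ)
  c_nonneg : ∀ φ, 0 ≤ c φ
  one_le_c : ε = -1 → ∀ φ ∈ E, 1 ≤ c φ
  cX_nonneg : ∀ φ, 0 ≤ c φ + X φ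
  sum_A : ∀ φ : Cfsg.IrrCharacter G, ∑ b : A, (φ : G → ℂ) b = (Nat.card A : ℂ) * ((c φ + X φ : ℤ) : ℂ)
  comm_of_R : ∀ φ : Cfsg.IrrCharacter G, R φ = 0 → ∀ b : A, b ∈ commutator A → (φ : G → ℂ) b = (φ : G → ℂ) 1
  deg_off : ∀ φ, φ ∉ E →
    (φ : G → ℂ) 1 = ((X φ + (Nat.card (Ab A) : ℤ) * c φ + (R φ : ℤ) : ℤ) : ℂ)
  deg_E : ∀ φ ∈ E,
    (φ : G → ℂ) 1 = ((X φ + ε * n + (Nat.card (Ab A) : ℤ) * c φ + (R φ : ℤ) : ℤ) : ℂ)
  R_dvd : ∀ φ, ∀ d : ℕ, (∀ p : Cfsg.IrrCharacter A, (p : A → ℂ) 1 ≠ 1 →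
    ∃ k : ℕ, (p : A → ℂ) 1 = ((d * k : ℕ) : ℂ)) → d ∣ R φ
  eq_of_agree : ∀ φ ∈ E, ∀ ψ : Cfsg.IrrCharacter G, (∀ b ∈ A, (φ : G → ℂ) b = (ψ : G → ℂ) b) → φ = ψ
  notMem_of_const : ∀ φ : Cfsg.IrrCharacter G, ∀ v : ℂ, (∀ b ∈ A, b ≠ 1 → (φ : G → ℂ) b = v) → φ ∉ E

variable {A : Subgroup G} [Fintype A] [Fintype (Ab A)]

/-- The exceptional characters. -/
theorem exists_mu (hA : NilCent A) :
    ∃ (ε : ℤ) (μ : Orb A → Cfsg.IrrCharacter G), (ε = 1 ∨ ε = -1) ∧ Function.Injective μ ∧
      ∀ l l' : NP A, Cfsg.indFun A (lam l.1) - Cfsg.indFun A (lam l'.1) =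
        (ε : ℂ) • ((μ (orb A l) : G → ℂ) - (μ (orb A l') : G → ℂ)) := by
  classical
  obtain ⟨l₀⟩ := nonempty_np hA
  let i₀ : Orb A := orb A l₀
  let τ : Orb A → G → ℂ := fun o =>
    Cfsg.indFun A (lam (Quotient.out o).1) - Cfsg.indFun A (lam (Quotient.out i₀).1)
  have hout : ∀ o : Orb A, orb A (Quotient.out o) = o := fun o => Quotient.out_eq o
  obtain ⟨ε, hε, μ, hμ, hinj, hτ⟩ := CharExc.exists_base i₀ τ (sub_self _)
    (fun o => by
      exact Char.IsGeneralizedCharacter.sub
        (Char.IsCharacter.isGeneralizedCharacter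
          (Char.IsCharacter.indFun A (Char.IsIrrCharacter.isCharacter (pull (Quotient.out o).1).2)))
        (Char.IsCharacter.isGeneralizedCharacter
          (Char.IsCharacter.indFun A (Char.IsIrrCharacter.isCharacter (pull (Quotient.out i₀).1).2))))
    (fun o => by
      show Cfsg.indFun A _ 1 - Cfsg.indFun A _ 1 = 0
      rw [Char.indFun_apply_one, Char.indFun_apply_one, lam_one, lam_one, sub_self])
    (fun o ho => by
      simp only [τ]
      rw [gram hA, hout, hout, if_pos rfl, if_neg ho, if_neg (Ne.symm ho), if_pos rfl]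
      norm_num)
    (fun o o' ho ho' hoo => by
      simp only [τ]
      rw [gram hA, hout, hout, hout, if_neg hoo, if_neg ho, if_neg (Ne.symm ho'), if_pos rfl]
      norm_num)
  have hind : ∀ l : NP A, Cfsg.indFun A (lam l.1) =
      Cfsg.indFun A (lam (Quotient.out (orb A l)).1) := by
    intro l
    obtain ⟨x, hx⟩ := Quotient.exact (hout (orb A l))
    rw [← indFun_tw x (Quotient.out (orb A l)), hx]
  obtain ⟨e, he, hee⟩ : ∃ e : ℤ, (e = 1 ∨ e = -1) ∧ ε = (e : ℂ) := by
    rcases hε with h | h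
    · exact ⟨1, .inl rfl, by simp [h]⟩
    · exact ⟨-1, .inr rfl, by simp [h]⟩
  refine ⟨e, fun o => ⟨μ o, hμ o⟩, he, fun o o' h => hinj (congrArg Subtype.val h), fun l l' => ?_⟩
  rw [hind l, hind l', show Cfsg.indFun A (lam (Quotient.out (orb A l)).1) -
    Cfsg.indFun A (lam (Quotient.out (orb A l')).1) = τ (orb A l) - τ (orb A l') from
    (sub_sub_sub_cancel_right _ _ _).symm, hτ, hτ, hee, ← smul_sub, sub_sub_sub_cancel_right]

open Classical in
/-- The exceptional family exists. -/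
theorem exists_fam (hA : NilCent A) {n : ℕ}
    (hn : n * Nat.card A = Nat.card (Subgroup.normalizer (A : Set G))) :
    Nonempty (Fam A n) := by
  obtain ⟨ε, μ, hε, hinj, hdiff⟩ := exists_mu hA
  obtain ⟨l₀⟩ := nonempty_np hA
  set a := Nat.card (Ab A) with ha
  set k := kc A with hk
  have hne : (a : ℂ) ≠ 0 := Nat.cast_ne_zero.mpr Nat.card_pos.ne'
  have hkpos : 0 < k := hk ▸ (Nat.card_pos : 0 < Nat.card (commutator A))
  have hkne : (k : ℂ) ≠ 0 := Nat.cast_ne_zero.mpr hkpos.ne'
  have hHka : Nat.card A = k * a := card_eq_kc_mul A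
  -- the fibres of the orbit map
  have hfib : ∀ o : Orb A, (Finset.univ.filter fun l : NP A => orb A l = o).card = n := by
    intro o
    obtain ⟨l, rfl⟩ := Quotient.exists_rep o
    refine Nat.eq_of_mul_eq_mul_right (Nat.card_pos : 0 < Nat.card A) ?_
    have h : ∑ k : NP A, (Nat.card A : ℂ) * (if orb A l = orb A k then 1 else 0) =
        (Nat.card (Subgroup.normalizer (A : Set G)) : ℂ) := by
      simp only [card_mul_orb_eq hA]
      rw [Finset.sum_comm]
      simp [Nat.card_eq_fintype_card]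
    rw [← Finset.mul_sum, Finset.sum_boole, ← Nat.cast_mul, Nat.cast_inj] at h
    rw [hn, ← h, mul_comm]
    congr 2
    ext k
    simp [eq_comm]
  set t := Fintype.card (Orb A) with ht
  have htpos : 0 < t := Fintype.card_pos_iff.mpr ⟨orb A l₀⟩
  have hNPcard : Fintype.card (NP A) = n * t := by
    rw [← Finset.card_univ, Finset.card_eq_sum_card_fiberwise (f := orb A)
      (t := Finset.univ) (fun _ _ => Finset.mem_univ _), Finset.sum_congr rfl (fun o _ => hfib o),
      Finset.sum_const, Finset.card_univ, smul_eq_mul, mul_comm]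
  have hat : a = n * t + 1 := by
    have h1 := hNPcard
    have h2 := card_irrQ (H := A)
    rw [Nat.card_eq_fintype_card, Fintype.card_subtype_compl] at *
    simp only [Fintype.card_subtype_eq] at h1
    have : 0 < Fintype.card (Cfsg.IrrCharacter (Ab A)) := Fintype.card_pos_iff.mpr ⟨Char.principalIrr⟩
    omega
  let δ : Cfsg.IrrCharacter G → NP A → ℤ := fun φ l => if 2 ≤ t ∧ μ (orb A l) = φ then 1 else 0
  let E : Finset (Cfsg.IrrCharacter G) :=
    if 2 ≤ t then Finset.univ.image μ else ∅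
  have hmemE : ∀ φ, φ ∈ E ↔ ∃ l : NP A, δ φ l = 1 := by
    intro φ
    by_cases h2 : 2 ≤ t
    · simp only [E, δ, if_pos h2, Finset.mem_image, Finset.mem_univ, true_and, h2, ite_eq_left_iff]
      constructor
      · rintro ⟨o, rfl⟩
        obtain ⟨l, rfl⟩ := Quotient.exists_rep o
        exact ⟨l, fun h => absurd rfl h⟩
      · rintro ⟨l, hl⟩
        exact ⟨orb A l, by by_contra h; exact absurd (hl h) (by norm_num)⟩
    · simp [E, δ, h2]
  have hδ0 : ∀ φ, φ ∉ E → ∀ l, δ φ l = 0 := by
    intro φ hφ l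
    by_contra h
    exact hφ ((hmemE φ).2 ⟨l, by simp only [δ] at h ⊢; split_ifs with hc <;> simp_all⟩)
  have hδsum : ∀ φ ∈ E, ∑ l : NP A, δ φ l = (n : ℤ) := by
    intro φ hφ
    obtain ⟨l, hl⟩ := (hmemE φ).1 hφ
    have h2 : 2 ≤ t ∧ μ (orb A l) = φ := by
      by_contra h; simp [δ, h] at hl
    rw [← hfib (orb A l), ← Finset.natCast_card_filter]
    congr 2
    ext k
    simp only [Finset.mem_filter, Finset.mem_univ, true_and, h2.1, ← h2.2, hinj.eq_iff]
  -- multiplicities
  let m : Cfsg.IrrCharacter G → Cfsg.IrrCharacter A → ℂ := fun φ p =>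
    Cfsg.classInner (fun b : A => (φ : G → ℂ) b) (p : A → ℂ)
  have hmnat : ∀ φ p, ∃ i : ℕ, m φ p = (i : ℂ) := fun φ p =>
    Char.IsCharacter.exists_nat_classInner
      (CharTwist.isCharacter_comp (Char.IsIrrCharacter.isCharacter φ.2) A.subtype) p.2
  choose M hM using hmnat
  have hrec : ∀ (φ : Cfsg.IrrCharacter G) (p : Cfsg.IrrCharacter A),
      m φ p = conj (Cfsg.classInner (Cfsg.indFun A (p : A → ℂ)) (φ : G → ℂ)) := by
    intro φ p
    rw [Char.classInner_indFun _ _ _ (Char.IsIrrCharacter.isClassFunction φ.2),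
      Char.classInner_conj_symm]
  have hm : ∀ (φ : Cfsg.IrrCharacter G) (l l' : NP A),
      (M φ (pull l.1) : ℤ) - M φ (pull l'.1) = ε * (δ φ l - δ φ l') := by
    intro φ l l'
    by_cases h2 : 2 ≤ t
    · have h : m φ (pull l.1) - m φ (pull l'.1) = (ε : ℂ) * ((δ φ l : ℂ) - (δ φ l' : ℂ)) := by
        rw [hrec, hrec, ← map_sub, ← Char.classInner_sub_left,
          show (Cfsg.indFun A ((pull l.1 : Cfsg.IrrCharacter A) : A → ℂ) -
            Cfsg.indFun A ((pull l'.1 : Cfsg.IrrCharacter A) : A → ℂ)) = _ from hdiff l l',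
          Char.classInner_smul_left, Char.classInner_sub_left, Char.classInner_irrCharacter,
          Char.classInner_irrCharacter, map_mul, map_intCast, map_sub]
        simp only [δ, h2, true_and]
        split_ifs <;> simp
      rw [hM, hM] at h
      exact_mod_cast h
    · have hsub : Subsingleton (Orb A) := Fintype.card_le_one_iff_subsingleton.1 (by omega)
      obtain ⟨x, hx⟩ := Quotient.exact (Subsingleton.elim (orb A l) (orb A l'))
      have h : m φ (pull l.1) = m φ (pull l'.1) := by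
        rw [hrec, hrec]
        congr 2
        rw [← hx]
        exact (indFun_tw x l).symm
      rw [hM, hM] at h
      simp [δ, h2, Nat.cast_inj.1 h]
  let c : Cfsg.IrrCharacter G → ℤ := fun φ => (M φ (pull l₀.1) : ℤ) - ε * δ φ l₀
  let one : Cfsg.IrrCharacter A := pull (Char.principalIrr : Cfsg.IrrCharacter (Ab A))
  let X : Cfsg.IrrCharacter G → ℤ := fun φ => (M φ one : ℤ) - c φ
  have hMl : ∀ φ (l : NP A), (M φ (pull l.1) : ℤ) = c φ + ε * δ φ l := by
    intro φ l
    have := hm φ l l₀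
    simp only [c]
    linarith
  have hc0 : ∀ φ, 0 ≤ c φ := by
    intro φ
    obtain ⟨l, hl⟩ : ∃ l : NP A, δ φ l = 0 := by
      by_cases h : φ ∈ E
      · obtain ⟨l, hl⟩ := (hmemE φ).1 h
        by_contra hall
        push Not at hall
        have h2 : 2 ≤ t ∧ μ (orb A l) = φ := by
          by_contra h; simp [δ, h] at hl
        have : Subsingleton (Orb A) := ⟨fun o o' => by
          obtain ⟨p, rfl⟩ := Quotient.exists_rep o
          obtain ⟨p', rfl⟩ := Quotient.exists_rep o'
          have hp : μ (orb A p) = φ := by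
            by_contra h'; exact hall p (by simp [δ, h'])
          have hp' : μ (orb A p') = φ := by
            by_contra h'; exact hall p' (by simp [δ, h'])
          exact hinj (hp.trans hp'.symm)⟩
        have := Fintype.card_le_one_iff_subsingleton.2 this
        omega
      · exact ⟨l₀, hδ0 φ h l₀⟩
    have := hMl φ l
    rw [hl, mul_zero, add_zero] at this
    omega
  let Θ : Cfsg.IrrCharacter G → Ab A → ℂ := fun φ b =>
    ∑ l : NP A, (δ φ l : ℂ) * (l.1 : Ab A → ℂ) b
  have hexp : ∀ (φ : Cfsg.IrrCharacter G) (q : Ab A),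
      fibSum A (φ : G → ℂ) q =
        (k : ℂ) * ∑ l : Cfsg.IrrCharacter (Ab A), m φ (pull l) * (l : Ab A → ℂ) q := by
    intro φ q
    have h1 : ∀ l : Cfsg.IrrCharacter (Ab A), m φ (pull l) * (l : Ab A → ℂ) q =
        (Nat.card A : ℂ)⁻¹ * ∑ b : A, (φ : G → ℂ) b *
          ((l : Ab A → ℂ) q * conj ((l : Ab A → ℂ) (Abelianization.of b))) := by
      intro l
      simp only [m, Cfsg.classInner, Finset.mul_sum, Finset.sum_mul]
      exact Finset.sum_congr rfl fun b _ => by
        show _ * (_ * conj ((l : Ab A → ℂ) (Abelianization.of b))) * _ = _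
        ring
    rw [Finset.sum_congr rfl (fun l _ => h1 l), ← Finset.mul_sum, Finset.sum_comm]
    simp only [← Finset.mul_sum, colQ, mul_ite, mul_zero]
    rw [← Finset.sum_filter, ← Finset.sum_mul, hHka]
    have hfe : (Finset.univ.filter fun b : A => q = Abelianization.of b) = fib A q := by
      ext b; simp [mem_fib, eq_comm]
    rw [hfe, fibSum, Nat.cast_mul, ← ha]
    field_simp
  have hval : ∀ (φ : Cfsg.IrrCharacter G) (b : Ab A), b ≠ 1 →
      fibSum A (φ : G → ℂ) b = (k : ℂ) * ((X φ : ℂ) + (ε : ℂ) * Θ φ b) := by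
    intro φ b hb
    rw [hexp φ b]
    congr 1
    rw [← Finset.add_sum_erase _ _ (Finset.mem_univ Char.principalIrr), Char.principalIrr_apply,
      Finset.sum_subtype (Finset.univ.erase Char.principalIrr) (p := fun l => l ≠ Char.principalIrr)
        (by simp)]
    have hl : ∀ l : NP A, m φ (pull l.1) * (l.1 : Ab A → ℂ) b =
        (c φ : ℂ) * (l.1 : Ab A → ℂ) b + (ε : ℂ) * ((δ φ l : ℂ) * (l.1 : Ab A → ℂ) b) := by
      intro l
      rw [hM, ← Int.cast_natCast (M φ (pull l.1)), hMl]
      push_cast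
      ring
    rw [Finset.sum_congr rfl (fun l _ => hl l), Finset.sum_add_distrib, ← Finset.mul_sum,
      ← Finset.mul_sum, sum_np_apply hb]
    have hone : m φ (pull Char.principalIrr) = (c φ : ℂ) + (X φ : ℂ) := by
      rw [hM]
      show ((M φ one : ℕ) : ℂ) = _
      simp [X]
    rw [hone]
    ring
  have hoff : ∀ φ, φ ∉ E → ∀ q : Ab A, q ≠ 1 → fibSum A (φ : G → ℂ) q = (k : ℂ) * (X φ : ℂ) := by
    intro φ hφ q hq
    simp [hval φ q hq, Θ, hδ0 φ hφ]
  have hconst : ∀ φ : Cfsg.IrrCharacter G, ∀ v : ℂ, (∀ b ∈ A, b ≠ 1 → (φ : G → ℂ) b = v) → φ ∉ E := by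
    intro φ v hv hφ
    obtain ⟨l, hl⟩ := (hmemE φ).1 hφ
    have hml : ∀ p : NP A, m φ (pull p.1) =
        (Nat.card A : ℂ)⁻¹ * ((φ : G → ℂ) 1 - v) := by
      intro p
      have h0 : ∑ b : A, conj (((pull p.1 : Cfsg.IrrCharacter A) : A → ℂ) b) = 0 := by
        have h := Char.classInner_irrCharacter (Char.principalIrr : Cfsg.IrrCharacter A) (pull p.1)
        rw [if_neg fun h => p.2 (pull_injective (h.symm.trans (Subtype.ext rfl)))] at h
        simp only [Cfsg.classInner, Char.principalIrr_apply, one_mul] at h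
        exact (mul_eq_zero.1 h).resolve_left
          (inv_ne_zero (Nat.cast_ne_zero.mpr Nat.card_pos.ne'))
      simp only [m, Cfsg.classInner]
      congr 1
      have hp1 : conj (((pull p.1 : Cfsg.IrrCharacter A) : A → ℂ) 1) = 1 := by
        show conj (lam p.1 1) = 1
        rw [lam_one, map_one]
      calc ∑ b : A, (φ : G → ℂ) b * conj (((pull p.1 : Cfsg.IrrCharacter A) : A → ℂ) b)
          = ∑ b : A, ((φ : G → ℂ) b - v) * conj (((pull p.1 : Cfsg.IrrCharacter A) : A → ℂ) b) := by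
            simp only [sub_mul, Finset.sum_sub_distrib, ← Finset.mul_sum, h0, mul_zero, sub_zero]
        _ = (φ : G → ℂ) 1 - v := by
            rw [Finset.sum_eq_single (1 : A) (fun b _ hb => by
              rw [hv b b.2 (fun h => hb (Subtype.ext h)), sub_self, zero_mul])
              (fun h => absurd (Finset.mem_univ _) h), hp1, mul_one]
            rfl
    have h2 : 2 ≤ t ∧ μ (orb A l) = φ := by
      by_contra h; simp [δ, h] at hl
    obtain ⟨o, ho⟩ : ∃ o, o ≠ orb A l := Fintype.exists_ne_of_one_lt_card (by omega) _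
    obtain ⟨l', rfl⟩ := Quotient.exists_rep o
    have hl' : δ φ l' = 0 := by
      simp only [δ, h2.1, true_and, ite_eq_right_iff]
      intro h
      exact absurd (hinj (h.trans h2.2.symm)) ho
    have h := (hml l).trans (hml l').symm
    rw [hM, hM, ← Int.cast_natCast, ← Int.cast_natCast (M φ (pull l'.1)), hMl, hMl, hl, hl',
      Int.cast_inj] at h
    rcases hε with h' | h' <;> omega
  have hprin : Char.principalIrr ∉ E := hconst _ 1 fun b _ _ => Char.principalIrr_apply b
  obtain ⟨b₀, hb₀⟩ := exists_of_ne_one hA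
  have hX1 : X Char.principalIrr = 1 := by
    have h := hoff _ hprin _ hb₀
    rw [fibSum, Finset.sum_congr rfl (fun (b : A) _ => Char.principalIrr_apply (b : G)), Finset.sum_const,
      card_fib, nsmul_eq_mul, ← hk] at h
    exact_mod_cast (mul_left_cancel₀ hkne h).symm
  -- the members of `E` agree
  have hres : ∀ (l l' : NP A) (p : Cfsg.IrrCharacter (Ab A)),
      m (μ (orb A l)) (pull p) - m (μ (orb A l')) (pull p) =
        (ε : ℂ) * (if h : p ≠ Char.principalIrr then
          (if orb A (⟨p, h⟩ : NP A) = orb A l then 1 else 0) -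
            (if orb A (⟨p, h⟩ : NP A) = orb A l' then 1 else 0) else 0) := by
    intro l l' p
    have hcard : (Nat.card A : ℂ) ≠ 0 := Nat.cast_ne_zero.mpr Nat.card_pos.ne'
    have hε2 : (ε : ℂ) * ε = 1 := by rcases hε with h | h <;> simp [h]
    have hpt : ∀ b : A, (μ (orb A l) : G → ℂ) b - (μ (orb A l') : G → ℂ) b =
        (ε : ℂ) * ((Nat.card A : ℂ)⁻¹ * ∑ x : Subgroup.normalizer (A : Set G),
          (lam (tw A x l).1 b - lam (tw A x l').1 b)) := by
      intro b
      have h := congrFun (hdiff l l') (b : G)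
      simp only [Pi.sub_apply, Pi.smul_apply, smul_eq_mul] at h
      by_cases hb : b = 1
      · subst hb
        simp only [OneMemClass.coe_one, Char.indFun_apply_one, lam_one, sub_self] at h
        simp only [OneMemClass.coe_one, lam_one, sub_self, Finset.sum_const_zero, mul_zero]
        rcases mul_eq_zero.1 h.symm with h' | h'
        · rw [h', zero_mul] at hε2; exact absurd hε2 zero_ne_one
        · exact h'
      · rw [indFun_apply_of_mem hA _ hb, indFun_apply_of_mem hA _ hb, ← mul_sub,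
          ← Finset.sum_sub_distrib] at h
        calc (μ (orb A l) : G → ℂ) b - (μ (orb A l') : G → ℂ) b
            = (ε : ℂ) * ((ε : ℂ) * ((μ (orb A l) : G → ℂ) b - (μ (orb A l') : G → ℂ) b)) := by
              rw [← mul_assoc, hε2, one_mul]
          _ = _ := by rw [← h]; rfl
    have hfun : ((fun b : A => (μ (orb A l) : G → ℂ) b) - fun b : A => (μ (orb A l') : G → ℂ) b) =
        (ε : ℂ) • ((Nat.card A : ℂ)⁻¹ • ∑ x : Subgroup.normalizer (A : Set G),
          (lam (tw A x l).1 - lam (tw A x l').1)) := by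
      funext b
      simp only [Pi.sub_apply, Pi.smul_apply, Finset.sum_apply, smul_eq_mul]
      exact hpt b
    have hval' : ∀ q : Cfsg.IrrCharacter (Ab A), lam q = (pull q : A → ℂ) := fun q => rfl
    simp only [m]
    rw [← Char.classInner_sub_left, hfun, Char.classInner_smul_left, Char.classInner_smul_left]
    congr 1
    simp only [Char.classInner_sum_left, hval', Char.classInner_sub_left,
      Char.classInner_irrCharacter, Finset.sum_sub_distrib]
    have key : ∀ q : NP A, ∑ x : Subgroup.normalizer (A : Set G),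
        (if pull (tw A x q).1 = pull p then (1 : ℂ) else 0) =
        if h : p ≠ Char.principalIrr then
          (Nat.card A : ℂ) * (if orb A (⟨p, h⟩ : NP A) = orb A q then 1 else 0) else 0 := by
      intro q
      by_cases h : p ≠ Char.principalIrr
      · rw [dif_pos h, show (if orb A (⟨p, h⟩ : NP A) = orb A q then (1 : ℂ) else 0) =
            if orb A q = orb A (⟨p, h⟩ : NP A) then 1 else 0 from if_congr eq_comm rfl rfl,
            card_mul_orb_eq hA q ⟨p, h⟩]
        exact Finset.sum_congr rfl fun x _ =>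
          if_congr ⟨fun h' => Subtype.ext (pull_injective h'), fun h' => by rw [h']⟩ rfl rfl
      · rw [dif_neg h]
        refine Finset.sum_eq_zero fun x _ => if_neg fun h' => ?_
        exact (tw A x q).2 ((pull_injective h').trans (not_not.1 h))
    rw [key, key]
    by_cases h : p ≠ Char.principalIrr
    · rw [dif_pos h, dif_pos h, dif_pos h]
      field_simp
    · rw [dif_neg h, dif_neg h, dif_neg h]
      ring
  have hsame : ∀ φ ∈ E, ∀ ψ ∈ E, c φ = c ψ ∧ X φ = X ψ := by
    intro φ hφ ψ hψ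
    obtain ⟨l, hl⟩ := (hmemE φ).1 hφ
    obtain ⟨l', hl'⟩ := (hmemE ψ).1 hψ
    have h2 : 2 ≤ t ∧ μ (orb A l) = φ := by
      by_contra h; simp [δ, h] at hl
    have h2' : 2 ≤ t ∧ μ (orb A l') = ψ := by
      by_contra h; simp [δ, h] at hl'
    have e1 := hres l l' Char.principalIrr
    rw [dif_neg (not_not.2 rfl), mul_zero, sub_eq_zero, h2.2, h2'.2, hM, hM, Nat.cast_inj] at e1
    have e2 := hres l l' l₀.1
    rw [dif_pos l₀.2, h2.2, h2'.2, hM, hM] at e2
    have e3 : (M φ (pull l₀.1) : ℤ) - M ψ (pull l₀.1) = ε * (δ φ l₀ - δ ψ l₀) := by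
      simp only [δ, h2.1, true_and, ← h2.2, ← h2'.2, hinj.eq_iff]
      have e4 : (((M φ (pull l₀.1) : ℤ) - M ψ (pull l₀.1) : ℤ) : ℂ) =
          ((ε * ((if orb A l₀ = orb A l then 1 else 0) - if orb A l₀ = orb A l' then 1 else 0) : ℤ) : ℂ) := by
        push_cast
        rw [e2]
      rw [h2.2, h2'.2]
      exact_mod_cast e4
    have hc : c φ = c ψ := by
      simp only [c]
      linarith
    refine ⟨hc, ?_⟩
    simp only [X, hc]
    show (M φ (pull Char.principalIrr) : ℤ) - _ = (M ψ (pull Char.principalIrr) : ℤ) - _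
    rw [e1]
  let Y : ℤ := if h : E.Nonempty then ε * X h.choose else 0
  have hεε : ε * ε = 1 := by rcases hε with h | h <;> simp [h]
  have hXE : ∀ φ ∈ E, X φ = ε * Y := by
    intro φ hφ
    have h : E.Nonempty := ⟨φ, hφ⟩
    simp only [Y, dif_pos h]
    rw [← mul_assoc, hεε, one_mul]
    exact (hsame φ hφ _ h.choose_spec).2
  have hEimg : 2 ≤ t → E = Finset.univ.image μ := fun h2 => if_pos h2
  have hcardE : 2 ≤ t → E.card = t := fun h2 => by
    rw [hEimg h2, Finset.card_image_of_injective _ hinj, Finset.card_univ]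
  have hsumΘ : 2 ≤ t → ∀ b : Ab A, ∀ o, Θ (μ o) b =
      ∑ l ∈ Finset.univ.filter (fun l : NP A => orb A l = o), (l.1 : Ab A → ℂ) b := by
    intro h2 b o
    simp only [Θ, δ, h2, true_and, hinj.eq_iff, Int.cast_ite, Int.cast_one, Int.cast_zero, ite_mul,
      one_mul, zero_mul, Finset.sum_filter]
  -- second moments
  let Qs := (Finset.univ : Finset (Ab A)).erase 1
  have hrow : ∀ r r' : Cfsg.IrrCharacter (Ab A),
      ∑ d : Ab A, (r : Ab A → ℂ) d * conj ((r' : Ab A → ℂ) d) = if r = r' then (a : ℂ) else 0 := by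
    intro r r'
    have h := Char.classInner_irrCharacter r r'
    rw [Cfsg.classInner, inv_mul_eq_iff_eq_mul₀ hne] at h
    rw [h, mul_ite, mul_one, mul_zero]
  have hQs : (Qs.card : ℂ) = (n : ℂ) * t := by
    rw [Finset.card_erase_of_mem (Finset.mem_univ _), Finset.card_univ, ← Nat.card_eq_fintype_card,
      ← ha, hat]
    simp
  have hS1 : 2 ≤ t → ∀ o, ∑ d ∈ Qs, Θ (μ o) d = -(n : ℂ) := by
    intro h2 o
    simp only [hsumΘ h2]
    rw [Finset.sum_comm, ← hfib o]
    have : ∀ l ∈ Finset.univ.filter (fun l : NP A => orb A l = o),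
        ∑ d ∈ Qs, (l.1 : Ab A → ℂ) d = -1 := by
      intro l _
      have h := hrow l.1 Char.principalIrr
      rw [if_neg l.2] at h
      simp only [Char.principalIrr_apply, map_one, mul_one] at h
      rw [← Finset.add_sum_erase _ _ (Finset.mem_univ (1 : Ab A)), irr_apply_one] at h
      linear_combination h
    rw [Finset.sum_congr rfl this, Finset.sum_const, nsmul_eq_mul]
    ring
  have hS2 : 2 ≤ t → ∀ o, ∑ d ∈ Qs, Θ (μ o) d * conj (Θ (μ o) d) = (n : ℂ) * a - (n : ℂ) ^ 2 := by
    intro h2 o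
    simp only [hsumΘ h2, map_sum, Finset.sum_mul_sum]
    rw [Finset.sum_comm]
    have : ∀ l ∈ Finset.univ.filter (fun l : NP A => orb A l = o),
        ∑ d ∈ Qs, ∑ r ∈ Finset.univ.filter (fun l : NP A => orb A l = o),
          (l.1 : Ab A → ℂ) d * conj ((r.1 : Ab A → ℂ) d) = (a : ℂ) - n := by
      intro l hl
      rw [Finset.sum_comm]
      have hr : ∀ r : NP A, ∑ d ∈ Qs, (l.1 : Ab A → ℂ) d * conj ((r.1 : Ab A → ℂ) d) =
          (if l = r then (a : ℂ) else 0) - 1 := by
        intro r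
        have h := hrow l.1 r.1
        rw [← Finset.add_sum_erase _ _ (Finset.mem_univ (1 : Ab A)), irr_apply_one,
          irr_apply_one, map_one, one_mul] at h
        rw [show (if l = r then (a : ℂ) else 0) = if l.1 = r.1 then (a : ℂ) else 0 from
          if_congr Subtype.ext_iff rfl rfl]
        linear_combination h
      rw [Finset.sum_congr rfl (fun r _ => hr r), Finset.sum_sub_distrib, Finset.sum_ite_eq,
        if_pos hl, Finset.sum_const, hfib o, nsmul_eq_mul, mul_one]
    rw [Finset.sum_congr rfl this, Finset.sum_const, hfib o, nsmul_eq_mul]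
    ring
  have hε2C : (ε : ℂ) * ε = 1 := by exact_mod_cast hεε
  have hsq : ∀ φ : Cfsg.IrrCharacter G,
      ∑ q ∈ Qs, fibSum A (φ : G → ℂ) q * conj (fibSum A (φ : G → ℂ) q) =
      (k : ℂ) ^ 2 * ((n : ℂ) * t * (X φ : ℂ) ^ 2 +
        if φ ∈ E then (n : ℂ) * a - (n : ℂ) ^ 2 - 2 * (ε : ℂ) * n * (X φ : ℂ) else 0) := by
    intro φ
    rw [Finset.sum_congr rfl (fun d hd => by rw [hval φ d (Finset.mem_erase.mp hd).1])]
    by_cases hφ : φ ∈ E
    · obtain ⟨l, hl⟩ := (hmemE φ).1 hφ
      have h2 : 2 ≤ t ∧ μ (orb A l) = φ := by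
        by_contra h; simp [δ, h] at hl
      obtain ⟨h2, rfl⟩ := h2
      rw [if_pos hφ]
      have hexp' : ∀ d : Ab A, ((k : ℂ) * ((X (μ (orb A l)) : ℂ) + (ε : ℂ) * Θ (μ (orb A l)) d)) *
          conj ((k : ℂ) * ((X (μ (orb A l)) : ℂ) + (ε : ℂ) * Θ (μ (orb A l)) d)) =
          (k : ℂ) ^ 2 * ((X (μ (orb A l)) : ℂ) ^ 2 +
            (X (μ (orb A l)) : ℂ) * (ε : ℂ) * Θ (μ (orb A l)) d +
            (X (μ (orb A l)) : ℂ) * (ε : ℂ) * conj (Θ (μ (orb A l)) d) +
            Θ (μ (orb A l)) d * conj (Θ (μ (orb A l)) d)) := by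
        intro d
        rw [map_mul, map_natCast, map_add, map_mul, map_intCast, map_intCast]
        linear_combination ((k : ℂ) ^ 2 *
          (Θ (μ (orb A l)) d * conj (Θ (μ (orb A l)) d))) * hε2C
      simp only [hexp', ← Finset.mul_sum, Finset.sum_add_distrib, Finset.sum_const, nsmul_eq_mul,
        hQs, ← map_sum, hS1 h2, hS2 h2, map_neg, map_natCast]
      ring
    · rw [if_neg hφ]
      simp only [Θ, hδ0 φ hφ, Int.cast_zero, zero_mul, Finset.sum_const_zero, mul_zero, add_zero,
        map_mul, map_natCast, map_intCast, Finset.sum_const, nsmul_eq_mul, hQs]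
      ring
  have htot : ∑ φ : Cfsg.IrrCharacter G,
      ∑ q ∈ Qs, fibSum A (φ : G → ℂ) q * conj (fibSum A (φ : G → ℂ) q) =
      (k : ℂ) ^ 2 * ((n : ℂ) * t * a) := by
    rw [Finset.sum_comm, Finset.sum_congr rfl (g := fun _ => (k : ℂ) * (Nat.card A : ℂ)) ?_,
      Finset.sum_const, nsmul_eq_mul, hQs, hHka]
    · push_cast
      ring
    · intro q hq
      simp only [fibSum, map_sum, Finset.sum_mul_sum]
      rw [Finset.sum_comm]
      rw [Finset.sum_congr rfl (g := fun _ => (Nat.card A : ℂ)) ?_, Finset.sum_const, card_fib,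
        nsmul_eq_mul]
      intro u hu
      rw [Finset.sum_comm]
      exact sum_fib_column hA (Finset.mem_erase.mp hq).1 hu
  rw [Finset.sum_congr rfl (fun φ _ => hsq φ), ← Finset.mul_sum] at htot
  replace htot := mul_left_cancel₀ (pow_ne_zero 2 hkne) htot
  rw [Finset.sum_add_distrib, Finset.sum_ite_mem, Finset.univ_inter, ← Finset.mul_sum] at htot
  have htotZ : (n : ℤ) * t * (∑ φ, X φ ^ 2) +
      ∑ φ ∈ E, ((n : ℤ) * a - (n : ℤ) ^ 2 - 2 * ε * n * X φ) = (n : ℤ) * t * a := by
    exact_mod_cast htot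
  have hatZ : (a : ℤ) = n * t + 1 := by exact_mod_cast hat
  have hnpos : (0 : ℤ) < n := by
    rcases Nat.eq_zero_or_pos n with h | h
    · rw [h, zero_mul] at hn
      exact absurd hn.symm Nat.card_pos.ne'
    · exact_mod_cast h
  -- the restriction
  let Lin : Finset (Cfsg.IrrCharacter A) := Finset.univ.image pull
  let R : Cfsg.IrrCharacter G → ℕ := fun φ =>
    ∑ p ∈ Finset.univ \ Lin, M φ p * Char.degree (p : A → ℂ)
  have hdeg : ∀ φ : Cfsg.IrrCharacter G, (φ : G → ℂ) 1 =
      ((X φ + ε * (∑ l : NP A, δ φ l) + (a : ℤ) * c φ + (R φ : ℤ) : ℤ) : ℂ) := by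
    intro φ
    have h := congrFun (Char.IsCharacter.eq_sum_classInner
      (CharTwist.isCharacter_comp (Char.IsIrrCharacter.isCharacter φ.2) A.subtype)) (1 : A)
    simp only [Function.comp, map_one, Finset.sum_apply, Pi.smul_apply, smul_eq_mul] at h
    rw [h, ← Finset.sum_sdiff (Finset.subset_univ Lin)]
    have hR : ∑ p ∈ Finset.univ \ Lin,
        Cfsg.classInner (fun b : A => (φ : G → ℂ) b) (p : A → ℂ) * (p : A → ℂ) 1 = (R φ : ℂ) := by
      simp only [R, Nat.cast_sum, Nat.cast_mul]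
      exact Finset.sum_congr rfl fun p _ => by
        rw [show Cfsg.classInner (fun b : A => (φ : G → ℂ) b) (p : A → ℂ) = _ from hM φ p,
          Char.IsCharacter.degree_cast (Char.IsIrrCharacter.isCharacter p.2)]
    have hL : ∑ p ∈ Lin, Cfsg.classInner (fun b : A => (φ : G → ℂ) b) (p : A → ℂ) * (p : A → ℂ) 1 =
        ((X φ + ε * (∑ l : NP A, δ φ l) + (a : ℤ) * c φ : ℤ) : ℂ) := by
      rw [Finset.sum_image fun x _ y _ h => pull_injective h,
        Finset.sum_congr rfl (g := fun l => ((M φ (pull l) : ℤ) : ℂ)) (fun l _ => by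
          rw [show Cfsg.classInner (fun b : A => (φ : G → ℂ) b) (pull l : A → ℂ) = _ from
            hM φ (pull l), show (pull l : A → ℂ) 1 = 1 from lam_one l, mul_one, Int.cast_natCast]),
        ← Int.cast_sum, Int.cast_inj,
        ← Finset.add_sum_erase _ _ (Finset.mem_univ Char.principalIrr),
        Finset.sum_subtype (Finset.univ.erase Char.principalIrr) (p := fun l => l ≠ Char.principalIrr)
          (by simp)]
      simp only [hMl, Finset.sum_add_distrib, ← Finset.mul_sum, Finset.sum_const, Finset.card_univ,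
        hNPcard, nsmul_eq_mul]
      have : (M φ (pull Char.principalIrr) : ℤ) = c φ + X φ := by
        show (M φ one : ℤ) = _
        simp [X]
      rw [this, hatZ]
      push_cast
      ring
    rw [show (fun b : A => (φ : G → ℂ) b) = (φ : G → ℂ) ∘ A.subtype from rfl] at hR hL
    rw [hR, hL]
    push_cast
    ring
  refine ⟨{
    t := t
    E := E
    X := X
    c := c
    R := R
    ε := ε
    Y := Y
    t_pos := htpos
    card_ab := hat
    eps := hε
    card_E := hcardE
    E_empty := fun h => if_neg (by omega)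
    one_notMem := hprin
    X_one := hX1
    E_eq := ?_
    X_E := hXE
    off := hoff
    sum_E := ?_
    sq_sum := ?_
    sq_sum_one := ?_
    c_nonneg := hc0
    one_le_c := ?_
    cX_nonneg := fun φ => by simp [X]
    sum_A := fun φ => by
      have h : m φ one = ((c φ + X φ : ℤ) : ℂ) := by rw [hM]; simp [X]
      rw [← h]
      simp only [m, Cfsg.classInner]
      rw [mul_inv_cancel_left₀ (Nat.cast_ne_zero.mpr Nat.card_pos.ne')]
      refine Finset.sum_congr rfl fun b _ => ?_
      rw [show (one : A → ℂ) b = 1 from rfl, map_one, mul_one]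
    comm_of_R := fun φ hR b hb => by
      have h := fun x : A => congrFun (Char.IsCharacter.eq_sum_classInner
        (CharTwist.isCharacter_comp (Char.IsIrrCharacter.isCharacter φ.2) A.subtype)) x
      have hb' := h b
      have h1 := h 1
      simp only [Function.comp, map_one, Finset.sum_apply, Pi.smul_apply, smul_eq_mul,
        Subgroup.coe_subtype, OneMemClass.coe_one] at hb' h1
      rw [hb', h1]
      refine Finset.sum_congr rfl fun p _ => ?_
      by_cases hp : p ∈ Lin
      · obtain ⟨l, -, rfl⟩ := Finset.mem_image.1 hp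
        show _ * (l : Ab A → ℂ) (Abelianization.of b) = _ * (l : Ab A → ℂ) (Abelianization.of 1)
        rw [show Abelianization.of b = 1 from (QuotientGroup.eq_one_iff b).2 hb, map_one]
      · have h0 := Finset.sum_eq_zero_iff.1 hR p (Finset.mem_sdiff.2 ⟨Finset.mem_univ _, hp⟩)
        have hpos := Char.IsIrrCharacter.degree_pos p.2
        rw [show Cfsg.classInner ((φ : G → ℂ) ∘ Subtype.val) (p : A → ℂ) = _ from hM φ p,
          show M φ p = 0 from (Nat.mul_eq_zero.1 h0).resolve_right hpos.ne', Nat.cast_zero, zero_mul,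
          zero_mul]
    deg_off := fun φ hφ => by rw [hdeg]; simp [hδ0 φ hφ, ha]
    deg_E := fun φ hφ => by rw [hdeg, hδsum φ hφ]
    R_dvd := ?_
    eq_of_agree := ?_
    notMem_of_const := hconst }⟩
  · intro φ hφ ψ hψ z hz
    obtain ⟨l, hl⟩ := (hmemE φ).1 hφ
    obtain ⟨l', hl'⟩ := (hmemE ψ).1 hψ
    have h2 : 2 ≤ t ∧ μ (orb A l) = φ := by
      by_contra h; simp [δ, h] at hl
    have h2' : 2 ≤ t ∧ μ (orb A l') = ψ := by
      by_contra h; simp [δ, h] at hl'
    have h := congrFun (hdiff l l') z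
    have heq : Cfsg.indFun A (lam l.1) z = Cfsg.indFun A (lam l'.1) z := by
      simp only [Char.indFun_apply]
      congr 1
      refine Finset.sum_congr rfl fun y _ => ?_
      by_cases hy : y⁻¹ * z * y ∈ A
      · rw [Char.extendByZero_apply_mem A _ hy, Char.extendByZero_apply_mem A _ hy,
          show (⟨y⁻¹ * z * y, hy⟩ : A) = 1 from Subtype.ext (hz y hy), lam_one, lam_one]
      · rw [Char.extendByZero_of_notMem A _ hy, Char.extendByZero_of_notMem A _ hy]
    rw [h2.2, h2'.2, Pi.sub_apply, heq, sub_self, Pi.smul_apply, Pi.sub_apply, smul_eq_mul, eq_comm,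
      mul_eq_zero, sub_eq_zero] at h
    exact h.resolve_left (by rcases hε with h | h <;> simp [h])
  · intro h2 q hq
    rw [Finset.sum_congr rfl (fun φ _ => hval φ q hq), ← Finset.mul_sum, Finset.sum_add_distrib,
      ← Finset.mul_sum, ← Int.cast_sum, Finset.sum_congr rfl hXE, Finset.sum_const, hcardE h2]
    congr 1
    have : ∑ φ ∈ E, Θ φ q = -1 := by
      rw [hEimg h2, Finset.sum_image (fun x _ y _ h => hinj h),
        Finset.sum_congr rfl (fun o _ => hsumΘ h2 q o), Finset.sum_fiberwise, sum_np_apply hq]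
    rw [this, nsmul_eq_mul]
    push_cast
    ring
  · intro h2 inst
    rw [Finset.sum_sub_distrib, Finset.sum_const, hcardE h2, nsmul_eq_mul, ← Finset.mul_sum,
      Finset.sum_congr rfl hXE, Finset.sum_const, hcardE h2, nsmul_eq_mul] at htotZ
    have hsplit : ∑ φ, X φ ^ 2 =
        ∑ φ ∈ (Finset.univ \ E).erase Char.principalIrr, X φ ^ 2 + 1 + (t : ℤ) * Y ^ 2 := by
      rw [← Finset.sum_sdiff (Finset.subset_univ E), ← Finset.add_sum_erase _ _
        (Finset.mem_sdiff.2 ⟨Finset.mem_univ _, hprin⟩), hX1,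
        Finset.sum_congr rfl (s₁ := E) (g := fun _ => Y ^ 2) (fun φ hφ => by
          rw [hXE φ hφ, mul_pow, sq ε, hεε, one_mul]), Finset.sum_const, hcardE h2, nsmul_eq_mul]
      ring
    rw [hsplit, hatZ] at htotZ
    have h' : (n : ℤ) * t * (∑ φ ∈ (Finset.univ \ E).erase Char.principalIrr, X φ ^ 2 +
        (t : ℤ) * Y ^ 2 - 2 * Y - ((n : ℤ) - 1)) = 0 := by
      linear_combination htotZ + (2 * n * t * Y) * hεε
    have := (mul_eq_zero.1 h').resolve_left (mul_ne_zero hnpos.ne' (by exact_mod_cast htpos.ne'))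
    linarith
  · intro h1 inst
    rw [show E = ∅ from if_neg (by omega), Finset.sum_empty, add_zero,
      ← Finset.add_sum_erase _ _ (Finset.mem_univ Char.principalIrr), hX1, hatZ, h1] at htotZ
    have h' : (n : ℤ) * (∑ φ ∈ Finset.univ.erase Char.principalIrr, X φ ^ 2 - (n : ℤ)) = 0 := by
      linear_combination htotZ
    have := (mul_eq_zero.1 h').resolve_left hnpos.ne'
    linarith
  · intro he φ hφ
    obtain ⟨l, hl⟩ := (hmemE φ).1 hφ
    have := hMl φ l
    rw [hl, he] at this
    omega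
  · intro φ d hd
    refine Finset.dvd_sum fun p hp => Dvd.dvd.mul_left ?_ _
    have hp1 : (p : A → ℂ) 1 ≠ 1 := by
      intro h1
      obtain ⟨f, hf⟩ := Char.IsCharacter.exists_linear (Char.IsIrrCharacter.isCharacter p.2) h1
      refine (Finset.mem_sdiff.1 hp).2 (Finset.mem_image.2
        ⟨⟨fun q => (Abelianization.lift f q : ℂ), Char.isIrrCharacter_linear _⟩, Finset.mem_univ _,
          Subtype.ext (funext fun b => ?_)⟩)
      show (Abelianization.lift f (Abelianization.of b) : ℂ) = _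
      rw [Abelianization.lift_apply_of, hf]
    obtain ⟨i, hi⟩ := hd p hp1
    refine ⟨i, ?_⟩
    have := Char.IsCharacter.degree_cast (Char.IsIrrCharacter.isCharacter p.2)
    rw [hi] at this
    exact_mod_cast this
  · intro φ hφ ψ hag
    obtain ⟨l, hl⟩ := (hmemE φ).1 hφ
    have h2 : 2 ≤ t ∧ μ (orb A l) = φ := by
      by_contra h; simp [δ, h] at hl
    obtain ⟨o, ho⟩ : ∃ o, o ≠ orb A l := Fintype.exists_ne_of_one_lt_card (by omega) _
    obtain ⟨l', rfl⟩ := Quotient.exists_rep o
    have hl' : δ φ l' = 0 := by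
      simp only [δ, h2.1, true_and, ite_eq_right_iff]
      intro h
      exact absurd (hinj (h.trans h2.2.symm)) ho
    have hMM : ∀ p, M φ p = M ψ p := by
      intro p
      have h : m φ p = m ψ p := by
        simp only [m]
        congr 1
        funext b
        exact hag b b.2
      rw [hM, hM] at h
      exact_mod_cast h
    have h := hm ψ l l'
    rw [← hMM, ← hMM, hm φ l l', hl, hl'] at h
    have h1 : δ ψ l - δ ψ l' = 1 := by rcases hε with h' | h' <;> subst h' <;> omega
    have hψ : δ ψ l = 1 := by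
      simp only [δ] at h1 ⊢
      split_ifs at h1 ⊢ <;> omega
    have h3 : 2 ≤ t ∧ μ (orb A l) = ψ := by
      by_contra h; simp [δ, h] at hψ
    exact h2.2.symm.trans h3.2

/-- For a commutative subgroup the averaged values are the values. -/
theorem fibSum_of_comm (hc : ∀ x ∈ A, ∀ y ∈ A, x * y = y * x) (f : G → ℂ) (b : A) :
    fibSum A f (Abelianization.of b) = f b ∧ kc A = 1 := by
  classical
  have hbot : commutator A = ⊥ := by
    rw [commutator_def, Subgroup.commutator_eq_bot_iff_le_centralizer]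
    intro x _
    exact Subgroup.mem_centralizer_iff.2 fun y _ => Subtype.ext (hc y y.2 x x.2)
  have hk : kc A = 1 := by rw [kc, hbot, Subgroup.card_bot]
  refine ⟨?_, hk⟩
  obtain ⟨d, hd⟩ := Finset.card_eq_one.1 ((card_fib (Abelianization.of b)).trans hk)
  rw [fibSum, hd, Finset.sum_singleton]
  have : b ∈ fib A (Abelianization.of b) := mem_fib.2 rfl
  rw [hd, Finset.mem_singleton] at this
  rw [this]

end CfsgLib.SpecFive
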