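import Mathlib.GroupTheory.Nilpotent
import Mathlib.GroupTheory.PGroup
import Mathlib.GroupTheory.QuotientGroup.Basic

/-!
# Two-groups with an action of the symmetric group of degree three, fixed-point-freely in order three
-/

set_option autoImplicit false

namespace CfsgLib.SpecFive

universe u

/-- `c` of order three without fixed points, `a` an involution inverting it, with `(a r) ^ 4 = 1`. -/
structure TriHyp {R : Type u} [Group R] (c a : R ≃* R) : Prop where
  tri : ∀ r, c r * c (c r) * r = 1
  aa : ∀ r, a (a r) = r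
  ac : ∀ r, a (c r) = c (c (a r))
  four : ∀ r, (a r * r) ^ 2 = 1

namespace TriHyp

variable {R : Type u} [Group R] {c a : R ≃* R} (h : TriHyp c a)
include h

theorem rot (r : R) : r * c r * c (c r) = 1 :=
  calc r * c r * c (c r) = r * (c r * c (c r) * r) * r⁻¹ := by group
    _ = 1 := by rw [h.tri]; group

theorem comm (r : R) : r * c r = c r * r := by
  have h1 := h.rot r
  have h2 := congrArg (fun x => x⁻¹) (h.tri r⁻¹)
  simp only [map_inv, mul_inv_rev, inv_inv, inv_one] at h2
  have h3 : c r * c (c r) = c (c r) * c r := by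
    have : r * (c r * c (c r)) = r * (c (c r) * c r) := by rw [← mul_assoc, h1, h2]
    exact mul_left_cancel this
  apply c.injective
  rw [map_mul, map_mul]
  exact h3

theorem cube (r : R) : c (c (c r)) = r := by
  have h1 := congrArg c (h.rot r)
  simp only [map_mul, map_one] at h1
  exact mul_left_cancel (h1.trans (h.tri r).symm)

theorem sq_eq_one_of_fixed {s : R} (hs : a s = s) : s * s = 1 := by
  have h1 := h.four (c s)
  rw [h.ac, hs, pow_two] at h1
  have h2 : c (c s) * c s = s⁻¹ := by
    have h3 : c s * c (c s) = c (c s) * c s := by rw [← map_mul, h.comm, map_mul]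
    rw [← h3]
    exact eq_inv_of_mul_eq_one_left (h.tri s)
  rw [h2, ← mul_inv_rev, inv_eq_one] at h1
  exact h1

theorem comm_of_fixed {u v : R} (hu : a u = u) (hv : a v = v) : u * v = v * u := by
  have h1 := h.sq_eq_one_of_fixed (show a (u * v) = u * v by rw [map_mul, hu, hv])
  have hu2 := h.sq_eq_one_of_fixed hu
  have hv2 := h.sq_eq_one_of_fixed hv
  calc u * v = u * (u * v * (u * v)) * v := by rw [h1, mul_one]
    _ = (u * u) * (v * u) * (v * v) := by simp [mul_assoc]
    _ = v * u := by rw [hu2, hv2, one_mul, mul_one]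

/-- A fixed element commutes with the images of fixed elements. -/
theorem comm_fixed_image {u v : R} (hu : a u = u) (hv : a v = v) : u * c v = c v * u := by
  have hu2 := h.sq_eq_one_of_fixed hu
  have hv2 := h.sq_eq_one_of_fixed hv
  have huv := h.comm_of_fixed hu hv
  set A := c u with hA
  set B := c v with hB
  have hA2 : A * A = 1 := by rw [hA, ← map_mul, hu2, map_one]
  have hB2 : B * B = 1 := by rw [hB, ← map_mul, hv2, map_one]
  have huA : u * A = A * u := h.comm u
  have hvB : v * B = B * v := h.comm v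
  have hcu : c A = u * A := by
    have h1 := inv_eq_of_mul_eq_one_right (h.rot u)
    rw [← h1, mul_inv_rev, inv_eq_of_mul_eq_one_right hA2, inv_eq_of_mul_eq_one_right hu2, huA]
  have hcv : c B = v * B := by
    have h1 := inv_eq_of_mul_eq_one_right (h.rot v)
    rw [← h1, mul_inv_rev, inv_eq_of_mul_eq_one_right hB2, inv_eq_of_mul_eq_one_right hv2, hvB]
  have h1 := h.rot (u * v)
  rw [show c (u * v) = A * B from map_mul c u v] at h1
  rw [map_mul, hcu, hcv, show u * v * (A * B) = A * B * (u * v) by
    simpa [map_mul, hA, hB] using h.comm (u * v)] at h1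
  have h2 : A * (B * v) * A * (v * B) = 1 := by
    calc A * (B * v) * A * (v * B) = A * B * (u * u * v) * A * (v * B) := by
          rw [hu2, one_mul]; simp [mul_assoc]
      _ = A * B * (u * v) * u * A * (v * B) := by
          rw [show u * u * v = u * v * u by rw [mul_assoc u u v, mul_assoc u v u, huv]]
          simp [mul_assoc]
      _ = 1 := by rw [← h1]; simp [mul_assoc]
  have hC : B * v = v * B := hvB.symm
  rw [hC] at h2
  have hC2 : v * B * (v * B) = 1 := by
    calc v * B * (v * B) = v * (B * v) * B := by simp [mul_assoc]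
      _ = (v * v) * (B * B) := by rw [hC]; simp [mul_assoc]
      _ = 1 := by rw [hv2, hB2, one_mul]
  have h3 : A * c B = c B * A := by
    rw [hcv]
    calc A * (v * B) = A * (v * B) * A * (v * B) * ((v * B)⁻¹ * A⁻¹) := by group
      _ = (v * B)⁻¹ * A⁻¹ := by rw [h2, one_mul]
      _ = v * B * A := by rw [inv_eq_of_mul_eq_one_right hA2, inv_eq_of_mul_eq_one_right hC2]
  apply c.injective
  rw [map_mul, map_mul, ← hA]
  exact h3

theorem sq_eq_one_of_comm (hR : IsPGroup 2 R) (hc : ∀ r s : R, r * s = s * r) (r : R) :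
    r * r = 1 := by
  let : CommGroup R := { ‹Group R› with mul_comm := hc }
  have hinv : ∀ x : R, a (x * x) = (x * x)⁻¹ := fun x => by
    refine eq_inv_of_mul_eq_one_left ?_
    have h1 := h.four x
    rw [pow_two] at h1
    rw [map_mul]
    exact (mul_mul_mul_comm _ _ _ _).trans h1
  have h2 : a (c (r * r)) = c (c (a (r * r))) := h.ac _
  rw [map_mul c r r, hinv (c r), hinv r, map_inv, map_inv, inv_inj, ← map_mul c r r] at h2
  have h3 : c (r * r) = r * r := (c.injective h2).symm
  have h4 := h.tri (r * r)
  rw [h3, h3] at h4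
  obtain ⟨k, hk⟩ := hR (r * r)
  have h5 : (r * r) ^ 3 = 1 := by rw [pow_succ, pow_two]; exact h4
  have h6 := pow_gcd_eq_one.2 ⟨h5, hk⟩
  rw [show Nat.gcd 3 (2 ^ k) = 1 from (Nat.Coprime.pow_right k (by norm_num)), pow_one] at h6
  exact h6

/-- The automorphisms act on the center. -/
theorem center : TriHyp (Subgroup.centerCongr c) (Subgroup.centerCongr a) where
  tri r := Subtype.ext (h.tri r)
  aa r := Subtype.ext (h.aa r)
  ac r := Subtype.ext (h.ac r)
  four r := Subtype.ext (h.four r)

omit h in
theorem map_center (e : R ≃* R) : (Subgroup.center R).map (e : R →* R) = Subgroup.center R :=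
  (Subgroup.characteristic_iff_map_eq).1 inferInstance e

/-- The automorphisms act on the quotient by the center. -/
theorem quotient :
    TriHyp (QuotientGroup.congr (Subgroup.center R) (Subgroup.center R) c (map_center c))
      (QuotientGroup.congr (Subgroup.center R) (Subgroup.center R) a (map_center a)) where
  tri r := by
    induction r using QuotientGroup.induction_on with
    | H r => exact congrArg (QuotientGroup.mk' (Subgroup.center R)) (h.tri r)
  aa r := by
    induction r using QuotientGroup.induction_on with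
    | H r => exact congrArg (QuotientGroup.mk' (Subgroup.center R)) (h.aa r)
  ac r := by
    induction r using QuotientGroup.induction_on with
    | H r => exact congrArg (QuotientGroup.mk' (Subgroup.center R)) (h.ac r)
  four r := by
    induction r using QuotientGroup.induction_on with
    | H r => exact congrArg (QuotientGroup.mk' (Subgroup.center R)) (h.four r)

end TriHyp

/-- Such a finite two-group is elementary abelian. -/
theorem TriHyp.elementary : ∀ (n : ℕ) {R : Type u} [Group R] [Finite R] {c a : R ≃* R},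
    TriHyp c a → IsPGroup 2 R → Nat.card R = n → (∀ r s : R, r * s = s * r) ∧ ∀ r : R, r * r = 1 := by
  intro n
  induction n using Nat.strong_induction_on with
  | _ n ih =>
  intro R _ _ c a h hR hn
  rcases subsingleton_or_nontrivial R with hs | hs
  · exact ⟨fun r s => Subsingleton.elim _ _, fun r => Subsingleton.elim _ _⟩
  have hZcomm : ∀ r s : Subgroup.center R, r * s = s * r := fun r s =>
    Subtype.ext (Subgroup.mem_center_iff.1 s.2 r.1)
  have hZ2 : ∀ z : R, z ∈ Subgroup.center R → z * z = 1 := fun z hz =>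
    congrArg Subtype.val (h.center.sq_eq_one_of_comm (hR.to_subgroup _) hZcomm ⟨z, hz⟩)
  have : Fact (Nat.Prime 2) := ⟨Nat.prime_two⟩
  have hnt : Nontrivial (Subgroup.center R) := hR.center_nontrivial
  have hlt : Nat.card (R ⧸ Subgroup.center R) < n := by
    rw [← hn, Subgroup.card_eq_card_quotient_mul_card_subgroup (Subgroup.center R)]
    exact lt_mul_of_one_lt_right Nat.card_pos Finite.one_lt_card
  obtain ⟨hqc, hq2⟩ := ih _ hlt h.quotient (hR.to_quotient _) rfl
  set Z := Subgroup.center R
  -- an element fixed modulo the center agrees with a fixed element modulo the center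
  have hlift : ∀ u : R, u⁻¹ * a u ∈ Z → ∃ u', a u' = u' ∧ u⁻¹ * u' ∈ Z := by
    intro u hu
    obtain ⟨ζ, hζ, hau⟩ : ∃ ζ ∈ Z, a u = u * ζ := ⟨_, hu, (mul_inv_cancel_left u (a u)).symm⟩
    have haζ : ζ * a ζ = 1 := by
      have h1 := h.aa u
      rw [hau, map_mul, hau, mul_assoc] at h1
      exact mul_eq_left.1 h1
    have haζ' : a ζ = ζ := by
      rw [← inv_eq_of_mul_eq_one_right haζ, inv_eq_of_mul_eq_one_right (hZ2 ζ hζ)]
    have hcZ : c ζ ∈ Z := by
      have h1 : c ζ ∈ (Subgroup.center R).map (c : R →* R) := ⟨ζ, hζ, rfl⟩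
      rwa [TriHyp.map_center c] at h1
    refine ⟨u * c ζ, ?_, by rw [inv_mul_cancel_left]; exact hcZ⟩
    rw [map_mul, hau, h.ac, haζ', mul_assoc]
    congr 1
    rw [← inv_eq_of_mul_eq_one_right (h.rot ζ)]
    have h2 : (ζ * c ζ)⁻¹ = ζ * c ζ := by
      rw [mul_inv_rev, inv_eq_of_mul_eq_one_right (hZ2 _ hcZ),
        inv_eq_of_mul_eq_one_right (hZ2 _ hζ), h.comm]
    rw [h2, ← mul_assoc, hZ2 ζ hζ, one_mul]
  let π : R →* R ⧸ Z := QuotientGroup.mk' Z
  have hπ : ∀ x y : R, x⁻¹ * y ∈ Z ↔ π x = π y := fun x y => QuotientGroup.eq.symm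
  have hdec : ∀ r : R, ∃ u v z : R, a u = u ∧ a v = v ∧ z ∈ Z ∧ r = u * c v * z := by
    intro r
    have hA : ∀ x y : R, π x = π y → π (a x) = π (a y) := fun x y hxy =>
      congrArg (QuotientGroup.congr Z Z a (TriHyp.map_center a)) hxy
    have hC : ∀ x y : R, π x = π y → π (c x) = π (c y) := fun x y hxy =>
      congrArg (QuotientGroup.congr Z Z c (TriHyp.map_center c)) hxy
    obtain ⟨v, hv, hv'⟩ := hlift (a r * r) (by
      rw [hπ, map_mul a, h.aa, map_mul, map_mul]
      exact hqc _ _)
    rw [hπ] at hv'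
    obtain ⟨u, hu, hu'⟩ := hlift (r * (c v)⁻¹) (by
      rw [hπ, map_mul a, map_inv a, h.ac, hv, map_mul, map_mul, map_inv, map_inv]
      have h1 : π (c (c v)) = (π v * π (c v))⁻¹ := by
        rw [← map_mul, ← map_inv, ← inv_eq_of_mul_eq_one_right (h.rot v)]
      rw [h1, inv_inv, ← hv', map_mul, ← mul_assoc, ← mul_assoc, hq2, one_mul,
        inv_eq_of_mul_eq_one_right (hq2 (π (c v)))])
    refine ⟨u, v, (u * c v)⁻¹ * r, hu, hv, ?_, (mul_inv_cancel_left _ _).symm⟩
    rw [hπ] at hu' ⊢
    rw [map_mul, ← hu', map_mul, map_inv, inv_mul_cancel_right]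
  have hc' : ∀ r s : R, r * s = s * r := by
    intro r s
    obtain ⟨u, v, z, hu, hv, hz, rfl⟩ := hdec r
    obtain ⟨u', v', z', hu', hv', hz', rfl⟩ := hdec s
    have hzc : ∀ x, Commute z x := fun x => (Subgroup.mem_center_iff.1 hz x).symm
    have hzc' : ∀ x, Commute z' x := fun x => (Subgroup.mem_center_iff.1 hz' x).symm
    have e1 : Commute u (u' * c v') :=
      Commute.mul_right (h.comm_of_fixed hu hu') (h.comm_fixed_image hu hv')
    have e2 : Commute (c v) (u' * c v') :=
      Commute.mul_right (h.comm_fixed_image hu' hv).symm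
        (Commute.map (h.comm_of_fixed hv hv') c)
    exact ((e1.mul_left e2).mul_left (hzc _)).mul_right (hzc' _).symm
  exact ⟨hc', h.sq_eq_one_of_comm hR hc'⟩

end CfsgLib.SpecFive
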