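import Cfsg.Agent.Lib.SpecFive.Local
import Cfsg.Agent.Lib.SpecFive.Radical
import Mathlib.GroupTheory.Transfer

/-!
# Radicals under the simple groups of order 60 and 360
-/

set_option autoImplicit false
set_option linter.style.haveILetI false
set_option linter.unusedSectionVars false

namespace CfsgLib.SpecFive

open Subgroup

universe u

variable {G : Type u} [Group G] [Finite G]

theorem radical_two (hs : Small G) (R : Subgroup G) [R.Normal] [IsSimpleGroup (G ⧸ R)]
    (hne : ¬ IsMulCommutative (G ⧸ R)) {p : ℕ} (hp : p.Prime) (hR : IsPGroup p R) (h2 : 2 ∣ Nat.card (G ⧸ R))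
    (hR1 : R ≠ ⊥) : p = 2 := by
  by_contra hp2
  haveI := Fact.mk hp
  haveI := Fact.mk Nat.prime_two
  obtain ⟨⟨x₀, hx₀⟩, hx₀1⟩ := ne_bot_iff_exists_ne_one.1 hR1
  obtain ⟨m, hl⟩ : ∃ m, Pair35 p m := by
    have hd : p ∣ Nat.card G := by
      obtain ⟨k, hk⟩ := hR.exists_card_eq
      have hk0 : k ≠ 0 := fun h => hR1 (card_eq_one.1 (by rw [hk, h, pow_zero]))
      exact ((dvd_pow_self p hk0).trans (hk ▸ dvd_refl _)).trans (card_subgroup_dvd_card R)
    obtain ⟨y, hy⟩ := exists_prime_orderOf_dvd_card' p hd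
    have h5 := hs y
    rw [hy] at h5
    have h2' := hp.two_le
    rcases (show p = 3 ∨ p = 4 ∨ p = 5 by omega) with rfl | rfl | rfl
    · exact ⟨5, Or.inl ⟨rfl, rfl⟩⟩
    · exact absurd hp (by norm_num)
    · exact ⟨3, Or.inr ⟨rfl, rfl⟩⟩
  set π := QuotientGroup.mk' R with hπ
  have hπs : Function.Surjective π := QuotientGroup.mk'_surjective R
  have hCp : IsPGroup p (centralizer (R : Set G)) := isPGroup_centralizer_sub hs hl hR hR1
  have hCR : centralizer (R : Set G) ≤ R := by
    haveI : ((centralizer (R : Set G)).map π).Normal :=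
      (inferInstance : (centralizer (R : Set G)).Normal).map π hπs
    rcases (inferInstance : ((centralizer (R : Set G)).map π).Normal).eq_bot_or_eq_top with h | h
    · rwa [Subgroup.map_eq_bot_iff, hπ, QuotientGroup.ker_mk'] at h
    · exfalso
      have hQ : IsPGroup p (G ⧸ R) := (h ▸ hCp.map π).of_equiv Subgroup.topEquiv
      obtain ⟨k, hk⟩ := hQ.exists_card_eq
      exact hp2 ((Nat.prime_dvd_prime_iff_eq Nat.prime_two hp).1
        (Nat.prime_two.dvd_of_dvd_pow (hk ▸ h2))).symm
  obtain ⟨u, hu⟩ := exists_prime_orderOf_dvd_card' (G := G) 2 (h2.trans (card_quotient_dvd_card R))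
  have huR : u ∉ R := fun h => by
    have h1 := orderOf_eq_of_mem hs hl hR h (Invol.ne_one_of_invol hu)
    rw [hu] at h1
    exact hp2 h1.symm
  have hxo := orderOf_eq_of_mem hs hl hR hx₀ fun h => hx₀1 (Subtype.ext h)
  have hcen : π u ∈ center (G ⧸ R) := by
    refine mem_center_iff.2 fun q => ?_
    obtain ⟨g, rfl⟩ := hπs q
    set v := g * u * g⁻¹ with hv
    have hvo : orderOf v = 2 := by rw [hv, Invol.orderOf_conj, hu]
    have hn : ∀ w : G, w ∈ normalizer (R : Set G) := fun w => by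
      rw [normalizer_eq_top R]; trivial
    have h1 := (inverts hs hl hR hu (hn u)).1
    have h3 := (inverts hs hl hR hvo (hn v)).1
    have hvu : v * u ∈ R := hCR (mem_centralizer_iff.2 fun y hy => by
      refine (mul_inv_eq_iff_eq_mul.1 ?_).symm
      calc v * u * y * (v * u)⁻¹ = v * (u * y * u⁻¹) * v⁻¹ := by group
        _ = y := by rw [h1 y hy, h3 _ (inv_mem hy), inv_inv])
    have h4 : π v * π u = 1 := by rw [← map_mul]; exact (QuotientGroup.eq_one_iff _).2 hvu
    have h5 : π u * π u = 1 := by rw [← map_mul, Invol.mul_self_eq_one hu, map_one]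
    have h6 : π g * π u * (π g)⁻¹ = π u := by
      rw [← map_inv, ← map_mul, ← map_mul]
      exact (eq_inv_of_mul_eq_one_left h4).trans (inv_eq_of_mul_eq_one_right h5)
    exact mul_inv_eq_iff_eq_mul.1 h6
  rw [SmallOrder.center_eq_bot_of_not_comm hne, mem_bot, hπ] at hcen
  exact huR ((QuotientGroup.eq_one_iff u).1 hcen)

theorem radical_eq_bot (hs : Small G) (R : Subgroup G) [R.Normal] (hR : IsPGroup 2 R)
    (h : Nat.card (G ⧸ R) = 360) : R = ⊥ := by
  by_contra hR1
  haveI := Fact.mk Nat.prime_three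
  haveI := Fact.mk Nat.prime_two
  obtain ⟨S⟩ : Nonempty (Sylow 3 G) := inferInstance
  obtain ⟨k, hk⟩ := hR.exists_card_eq
  have hG : Nat.card G = 3 ^ 2 * (40 * 2 ^ k) := by
    rw [card_eq_card_quotient_mul_card_subgroup R, h, hk]; ring
  have h40 : ¬ 3 ∣ 40 * 2 ^ k := by
    intro h'
    rcases (Nat.Prime.dvd_mul Nat.prime_three).1 h' with h' | h'
    · norm_num at h'
    · exact absurd (Nat.prime_three.dvd_of_dvd_pow h') (by norm_num)
  have hS := SmallOrder.card_sylow_eq hG h40 S
  haveI : Nontrivial R := (nontrivial_iff_ne_bot R).2 hR1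
  haveI := hR.center_nontrivial
  set V := (center R).map R.subtype with hV
  haveI hVc : IsMulCommutative V := ⟨⟨by
    rintro ⟨a, a', ha', rfl⟩ ⟨b, b', hb', rfl⟩
    exact Subtype.ext (show (a' : G) * b' = b' * a' from
      congrArg Subtype.val (mem_center_iff.1 hb' a'))⟩⟩
  have hV1 : V ≠ ⊥ := by
    rw [hV, Ne, map_eq_bot_iff_of_injective _ R.subtype_injective]
    exact (nontrivial_iff_ne_bot _).1 inferInstance
  refine hV1 (Frobenius.eq_bot_of_elementary_fpf (A := (S : Subgroup G)) (V := V) ?_ ?_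
    Nat.prime_three hS ?_)
  · rw [hV, normalizer_eq_top]; exact le_top
  · intro a ha ha1
    rw [eq_bot_iff]
    rintro v ⟨hv, hva⟩
    rw [mem_bot]
    by_contra hv1
    have ha3 := orderOf_eq_of_mem hs (Or.inl ⟨rfl, rfl⟩ : Pair35 3 5) S.2 ha ha1
    have hvR : v ∈ R := map_subtype_le _ hv
    have hv3 := pow_eq_one_of_commute hs (Or.inl ⟨rfl, rfl⟩ : Pair35 3 5) ha3
      (mem_centralizer_singleton_iff.1 hva)
    obtain ⟨j, hj⟩ := hR ⟨v, hvR⟩
    have hj' : v ^ 2 ^ j = 1 := congrArg Subtype.val hj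
    have h4 := pow_gcd_eq_one.2 ⟨hv3, hj'⟩
    rw [show Nat.gcd 3 (2 ^ j) = 1 from Nat.Coprime.pow_right j (by norm_num), pow_one] at h4
    exact hv1 h4
  · exact fun a ha => pow_eq_one_of_isPGroup hs (Or.inl ⟨rfl, rfl⟩ : Pair35 3 5) S.2 ha

/-- An involution outside the radical inverts an element of order three outside it. -/
theorem exists_inverted_three (hs : Small G) (R : Subgroup G) [R.Normal] [IsSimpleGroup (G ⧸ R)]
    (hR : IsPGroup 2 R) (h : Nat.card (G ⧸ R) = 60) :
    ∃ y t : G, orderOf y = 3 ∧ orderOf t = 2 ∧ t * y * t⁻¹ = y⁻¹ ∧ y ∉ R ∧ t ∉ R := by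
  classical
  haveI := Fact.mk Nat.prime_three
  haveI := Fact.mk Nat.prime_two
  have h35 : Pair35 3 5 := Or.inl ⟨rfl, rfl⟩
  obtain ⟨S⟩ : Nonempty (Sylow 3 G) := inferInstance
  obtain ⟨k, hk⟩ := hR.exists_card_eq
  have hG : Nat.card G = 3 ^ 1 * (20 * 2 ^ k) := by
    rw [card_eq_card_quotient_mul_card_subgroup R, h, hk]; ring
  have h20 : ¬ 3 ∣ 20 * 2 ^ k := by
    intro h'
    rcases (Nat.Prime.dvd_mul Nat.prime_three).1 h' with h' | h'
    · norm_num at h'
    · exact absurd (Nat.prime_three.dvd_of_dvd_pow h') (by norm_num)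
  have hS : Nat.card (S : Subgroup G) = 3 := (SmallOrder.card_sylow_eq hG h20 S).trans (pow_one 3)
  obtain ⟨a, hdiv, hadvd⟩ := normalizer_dvd hs h35 hS
  have ha1 : a ≤ 1 := by
    by_contra h'
    have h9 : 3 * 3 ∣ 3 * (20 * 2 ^ k) := by
      have := (pow_dvd_pow 3 (show 2 ≤ a by omega)).trans hadvd
      rw [hG] at this
      exact this
    exact h20 (Nat.dvd_of_mul_dvd_mul_left (by norm_num) h9)
  have heven : 2 ∣ Nat.card (normalizer ((S : Subgroup G) : Set G)) := by
    by_contra hodd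
    have h3 : Nat.card (normalizer ((S : Subgroup G) : Set G)) ∣ 3 := by
      have h6 : Nat.card (normalizer ((S : Subgroup G) : Set G)) ∣ 2 * 3 :=
        hdiv.trans (by interval_cases a <;> norm_num)
      exact ((Nat.prime_two.coprime_iff_not_dvd).2 hodd).symm.dvd_of_dvd_mul_left h6
    have heq : (S : Subgroup G) = normalizer ((S : Subgroup G) : Set G) :=
      eq_of_le_of_card_ge le_normalizer (by rw [hS]; exact Nat.le_of_dvd (by norm_num) h3)
    haveI : IsCyclic (S : Subgroup G) := isCyclic_of_prime_card hS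
    have hNC : normalizer ((S : Subgroup G) : Set G) ≤ centralizer ((S : Subgroup G) : Set G) :=
      heq ▸ fun x hx => mem_centralizer_iff.2 fun y hy =>
        congrArg Subtype.val (IsCyclic.isMulCommutative.is_comm.comm (⟨y, hy⟩ : (S : Subgroup G)) ⟨x, hx⟩)
    set K := (MonoidHom.transferSylow S hNC).ker with hK
    have hcompl := MonoidHom.ker_transferSylow_isComplement' S hNC
    have hKc : Nat.card K * 3 = Nat.card G := hS ▸ hcompl.card_mul_card
    have hRK : R ≤ K := by
      intro r hr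
      obtain ⟨j, hj⟩ := hR ⟨r, hr⟩
      have hj' : r ^ 2 ^ j = 1 := congrArg Subtype.val hj
      have h1 : MonoidHom.transferSylow S hNC r ^ 3 = 1 := by
        have h0 := pow_card_eq_one' (x := MonoidHom.transferSylow S hNC r)
        rwa [hS] at h0
      have h2 : MonoidHom.transferSylow S hNC r ^ 2 ^ j = 1 := by rw [← map_pow, hj', map_one]
      have h4 := pow_gcd_eq_one.2 ⟨h1, h2⟩
      rw [show Nat.gcd 3 (2 ^ j) = 1 from Nat.Coprime.pow_right j (by norm_num), pow_one] at h4
      exact h4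
    have hindex : (K.map (QuotientGroup.mk' R)).index = 3 := by
      rw [index_map_eq _ (QuotientGroup.mk'_surjective R) (by rwa [QuotientGroup.ker_mk'])]
      have := card_mul_index K
      rw [← hKc] at this
      exact Nat.eq_of_mul_eq_mul_left Nat.card_pos this
    haveI hKn : (K.map (QuotientGroup.mk' R)).Normal :=
      (MonoidHom.normal_ker _).map _ (QuotientGroup.mk'_surjective R)
    rcases hKn.eq_bot_or_eq_top with h' | h'
    · rw [h', index_bot, h] at hindex; omega
    · rw [h', index_top] at hindex; omega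
  obtain ⟨⟨t, htN⟩, ht⟩ := exists_prime_orderOf_dvd_card' 2 heven
  rw [← Subgroup.orderOf_coe] at ht
  change orderOf t = 2 at ht
  have htt : t * t = 1 := Invol.mul_self_eq_one ht
  obtain ⟨⟨y, hy⟩, hy1⟩ := ne_bot_iff_exists_ne_one.1 (show (S : Subgroup G) ≠ ⊥ from fun h' => by
    rw [h', card_bot] at hS; omega)
  have hyo := orderOf_eq_of_mem hs h35 S.2 hy fun h' => hy1 (Subtype.ext h')
  have hinv := (inverts hs h35 S.2 ht htN).1 y hy
  have hy3 : y * y * y = 1 := by
    have := pow_orderOf_eq_one y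
    rwa [hyo, pow_succ, pow_two] at this
  have hyR : y ∉ R := fun hyR => by
    obtain ⟨j, hj⟩ := hR ⟨y, hyR⟩
    have hj' : y ^ 2 ^ j = 1 := congrArg Subtype.val hj
    have h' := orderOf_dvd_of_pow_eq_one hj'
    rw [hyo] at h'
    exact absurd (Nat.prime_three.dvd_of_dvd_pow h') (by norm_num)
  have htR : t ∉ R := fun htR => hyR (by
    have h1 : t * (y * t⁻¹ * y⁻¹) ∈ R :=
      mul_mem htR (Normal.conj_mem ‹R.Normal› _ (inv_mem htR) y)
    rw [← mul_assoc, ← mul_assoc, hinv] at h1
    have h2 : y⁻¹ * y⁻¹ = y := by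
      rw [← mul_inv_rev]; exact inv_eq_of_mul_eq_one_right hy3
    rwa [h2] at h1)
  exact ⟨y, t, hyo, ht, hinv, hyR, htR⟩

theorem radical_elementary (hs : Small G) (R : Subgroup G) [R.Normal] [IsSimpleGroup (G ⧸ R)]
    (hR : IsPGroup 2 R) (h : Nat.card (G ⧸ R) = 60) :
    (∀ a ∈ R, ∀ b ∈ R, a * b = b * a) ∧ ∀ a ∈ R, a * a = 1 := by
  haveI := Fact.mk Nat.prime_three
  obtain ⟨y, t, hyo, ht, hinv, hyR, htR⟩ := exists_inverted_three hs R hR h
  have htt : t * t = 1 := Invol.mul_self_eq_one ht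
  have hy3 : y * y * y = 1 := by
    have := pow_orderOf_eq_one y
    rwa [hyo, pow_succ, pow_two] at this
  have hπy : orderOf (QuotientGroup.mk' R y) = 3 := orderOf_eq_prime
    (by rw [← map_pow, ← hyo, pow_orderOf_eq_one, map_one])
    fun h' => hyR ((QuotientGroup.eq_one_iff y).1 h')
  have hπt : orderOf (QuotientGroup.mk' R t) = 2 := Invol.orderOf_eq_two
    (fun h' => htR ((QuotientGroup.eq_one_iff t).1 h')) (by rw [← map_mul, htt, map_one])
  let c : R ≃* R := MulAut.conjNormal y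
  let b : R ≃* R := MulAut.conjNormal t
  have hc : ∀ r : R, (c r : G) = y * r * y⁻¹ := fun r => MulAut.conjNormal_apply y r
  have hb : ∀ r : R, (b r : G) = t * r * t⁻¹ := fun r => MulAut.conjNormal_apply t r
  have htri : TriHyp c b := by
    refine ⟨fun r => Subtype.ext ?_, fun r => Subtype.ext ?_, fun r => Subtype.ext ?_,
      fun r => Subtype.ext ?_⟩
    · have h3 : 3 ∣ orderOf (y * (r : G)) := by
        have hd := orderOf_map_dvd (QuotientGroup.mk' R) (y * (r : G))
        rwa [map_mul, show QuotientGroup.mk' R (r : G) = 1 from (QuotientGroup.eq_one_iff _).2 r.2,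
          mul_one, hπy] at hd
      have h4 : (y * (r : G)) ^ 3 = 1 := by
        have h5 := hs (y * (r : G))
        have h6 : orderOf (y * (r : G)) = 3 := by
          have := orderOf_pos (y * (r : G))
          omega
        exact h6 ▸ pow_orderOf_eq_one _
      push_cast [hc]
      calc y * (r : G) * y⁻¹ * (y * (y * r * y⁻¹) * y⁻¹) * r
          = y * r * (y * r) * (y⁻¹ * y⁻¹ * r) := by group
        _ = y * r * (y * r) * (y * r) := by
          rw [show y⁻¹ * y⁻¹ = y by rw [← mul_inv_rev]; exact inv_eq_of_mul_eq_one_right hy3]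
        _ = 1 := by rw [← pow_two, ← pow_succ]; exact h4
    · simp only [hb]
      rw [show t * (t * (r : G) * t⁻¹) * t⁻¹ = t * t * r * (t * t)⁻¹ by group, htt]
      simp
    · simp only [hb, hc]
      have h2 : y * y = y⁻¹ := eq_inv_of_mul_eq_one_left hy3
      calc t * (y * (r : G) * y⁻¹) * t⁻¹ = t * y * t⁻¹ * (t * r * t⁻¹) * (t * y * t⁻¹)⁻¹ := by group
        _ = y * y * (t * r * t⁻¹) * (y * y)⁻¹ := by rw [hinv, h2]
        _ = _ := by group
    · have h2 : 2 ∣ orderOf (t * (r : G)) := by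
        have hd := orderOf_map_dvd (QuotientGroup.mk' R) (t * (r : G))
        rwa [map_mul, show QuotientGroup.mk' R (r : G) = 1 from (QuotientGroup.eq_one_iff _).2 r.2,
          mul_one, hπt] at hd
      have h4 : (t * (r : G)) ^ 4 = 1 := by
        rw [← orderOf_dvd_iff_pow_eq_one]
        rcases hs.cases (t * (r : G)) with h5 | h5 | h5 | h5 | h5 <;> rw [h5] at h2 ⊢ <;>
          revert h2 <;> norm_num
      push_cast [hb]
      rw [Invol.inv_eq_self ht, ← h4]
      simp only [pow_succ, pow_zero, one_mul, mul_assoc]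
  obtain ⟨h1, h2⟩ := TriHyp.elementary _ htri hR rfl
  exact ⟨fun x hx y' hy' => congrArg Subtype.val (h1 ⟨x, hx⟩ ⟨y', hy'⟩),
    fun x hx => congrArg Subtype.val (h2 ⟨x, hx⟩)⟩

end CfsgLib.SpecFive
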