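import Cfsg.Agent.Lib.SpecFive.Sylow
import Cfsg.Agent.Lib.SmallOrder.Basic
import Cfsg.Agent.Lib.Recog.OrderThreeSixty

/-!
# Normalizers of small Sylow subgroups
-/

set_option autoImplicit false
set_option linter.style.haveILetI false
set_option linter.unusedSectionVars false

namespace CfsgLib.SpecFive

open Subgroup

universe u

variable {G : Type u} [Group G] [Finite G]

theorem isPGroup_centralizer_two (hs : Small G) {z : G} (hz : orderOf z = 2) :
    IsPGroup 2 (centralizer ({z} : Set G)) := by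
  rintro ⟨g, hg⟩
  refine ⟨2, Subtype.ext ?_⟩
  show g ^ 2 ^ 2 = 1
  have hcomm := (mem_centralizer_singleton_iff.1 hg).symm
  rcases hs.cases g with h | h | h | h | h
  · rw [orderOf_eq_one_iff.1 h, one_pow]
  · exact orderOf_dvd_iff_pow_eq_one.1 (by rw [h]; norm_num)
  · exact absurd hcomm (not_commute_two hs (Or.inl ⟨rfl, rfl⟩) hz h)
  · exact orderOf_dvd_iff_pow_eq_one.1 (by rw [h]; norm_num)
  · exact absurd hcomm (not_commute_two hs (Or.inr ⟨rfl, rfl⟩) hz h)

theorem isPGroup_centralizer_sub (hs : Small G) {l m : ℕ} (hl : Pair35 l m) {P : Subgroup G}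
    (hP : IsPGroup l P) (hP1 : P ≠ ⊥) : IsPGroup l (centralizer (P : Set G)) := by
  obtain ⟨⟨d, hd⟩, hd1⟩ := ne_bot_iff_exists_ne_one.1 hP1
  exact (isPGroup_centralizer hs hl (orderOf_eq_of_mem hs hl hP hd fun h => hd1 (Subtype.ext h))).to_le
    (centralizer_le (by simpa using hd))

/-- The normalizer of a subgroup of prime order. -/
theorem normalizer_dvd (hs : Small G) {l m : ℕ} (hl : Pair35 l m) {P : Subgroup G}
    (hP : Nat.card P = l) :
    ∃ a, Nat.card (normalizer (P : Set G)) ∣ (l - 1) * l ^ a ∧ l ^ a ∣ Nat.card G := by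
  haveI := Fact.mk hl.prime
  have hPp : IsPGroup l P := IsPGroup.of_card (n := 1) (by rw [hP, pow_one])
  have hP1 : P ≠ ⊥ := fun h => by
    rw [h, card_bot] at hP
    exact hl.prime.ne_one hP.symm
  obtain ⟨a, ha⟩ := (isPGroup_centralizer_sub hs hl hPp hP1).exists_card_eq
  refine ⟨a, ?_, ha ▸ card_subgroup_dvd_card _⟩
  haveI : IsCyclic P := isCyclic_of_prime_card hP
  have haut : Nat.card (MulAut P) = l - 1 := by
    rw [IsCyclic.card_mulAut, hP, Nat.totient_prime hl.prime]
  rw [← card_mul_index P.normalizerMonoidHom.ker, index_ker, mul_comm]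
  refine mul_dvd_mul (haut ▸ card_subgroup_dvd_card _) ?_
  rw [← ha, normalizerMonoidHom_ker]
  exact (Nat.card_congr (subgroupOfEquivOfLe (centralizer_le_normalizer _)).toEquiv).dvd

/-- No element of order five normalizes a subgroup of order three or nine. -/
theorem five_not_dvd_normalizer (hs : Small G) {P : Subgroup G}
    (hP : Nat.card P = 3 ∨ Nat.card P = 9) : ¬ 5 ∣ Nat.card (normalizer (P : Set G)) := by
  intro h5
  haveI : Fact (Nat.Prime 5) := ⟨by norm_num⟩
  have hPp : IsPGroup 3 P := by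
    rcases hP with h | h
    · exact IsPGroup.of_card (n := 1) (by rw [h, pow_one])
    · exact IsPGroup.of_card (n := 2) (by rw [h]; norm_num)
  obtain ⟨x, hx⟩ := exists_prime_orderOf_dvd_card' 5 h5
  letI : MulAction (zpowers x) P :=
    MulAction.compHom P (P.normalizerMonoidHom.comp (zpowers x).subtype)
  have hZ : IsPGroup 5 (zpowers x) := IsPGroup.of_card (n := 1) (by rw [Nat.card_zpowers, hx, pow_one])
  have hmod := hZ.card_modEq_card_fixedPoints P
  have hgt : 1 < Nat.card (MulAction.fixedPoints (zpowers x) P) := by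
    unfold Nat.ModEq at hmod
    rcases hP with h | h <;> rw [h] at hmod <;> omega
  haveI : Finite (MulAction.fixedPoints (zpowers x) P) := Subtype.finite
  haveI := Finite.one_lt_card_iff_nontrivial.1 hgt
  obtain ⟨a, ha⟩ := exists_ne (⟨1, fun z => by
    show P.normalizerMonoidHom (z : normalizer (P : Set G)) 1 = 1
    exact map_one _⟩ : MulAction.fixedPoints (zpowers x) P)
  have hfix : (x : G) * (a : P) * (x : G)⁻¹ = (a : P) :=
    congrArg (Subtype.val : P → G) (a.2 ⟨x, mem_zpowers x⟩)
  exact not_commute_other hs (Or.inl ⟨rfl, rfl⟩ : Pair35 3 5) (by rw [orderOf_coe, hx])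
    (orderOf_eq_of_mem hs (Or.inl ⟨rfl, rfl⟩) hPp (a : P).2
      fun h => ha (Subtype.ext (Subtype.ext h)))
    (mul_inv_eq_iff_eq_mul.1 hfix)

variable [IsSimpleGroup G]

theorem local_five (hs : Small G) (hc : Nat.card G = 60 ∨ Nat.card G = 360) (P : Sylow 5 G) :
    Nat.card (P : Subgroup G) = 5 ∧ Nat.card (normalizer ((P : Subgroup G) : Set G)) = 10 := by
  haveI : Fact (Nat.Prime 5) := ⟨by norm_num⟩
  have h5 : Nat.card (P : Subgroup G) = 5 := by
    rcases hc with h | h
    · exact SmallOrder.card_sylow_eq (e := 1) (m := 12) (by rw [h]; norm_num) (by norm_num) P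
    · exact SmallOrder.card_sylow_eq (e := 1) (m := 72) (by rw [h]; norm_num) (by norm_num) P
  refine ⟨h5, ?_⟩
  obtain ⟨a, ha, hadvd⟩ := normalizer_dvd hs (Or.inr ⟨rfl, rfl⟩ : Pair35 5 3) h5
  have ha1 : a ≤ 1 := by
    by_contra h
    have : 25 ∣ Nat.card G := (pow_dvd_pow 5 (show 2 ≤ a by omega)).trans hadvd
    omega
  have h20 : Nat.card (normalizer ((P : Subgroup G) : Set G)) ∣ 20 :=
    ha.trans (by interval_cases a <;> norm_num)
  have hmul := SmallOrder.card_normalizer_mul P
  have hmod : Nat.card (Sylow 5 G) % 5 = 1 := card_sylow_modEq_one 5 G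
  have hne : normalizer ((P : Subgroup G) : Set G) ≠ ⊤ := fun h => by
    have := congrArg (fun H : Subgroup G => Nat.card H) h
    simp only [card_top] at this
    have := Nat.le_of_dvd (by norm_num) h20
    omega
  have hle := Nat.le_of_dvd (by norm_num) h20
  generalize Nat.card (normalizer ((P : Subgroup G) : Set G)) = N at *
  generalize Nat.card (Sylow 5 G) = k at *
  interval_cases N <;> omega

theorem local_three_sixty (hs : Small G) (hc : Nat.card G = 60) (P : Sylow 3 G) :
    Nat.card (P : Subgroup G) = 3 ∧ Nat.card (normalizer ((P : Subgroup G) : Set G)) = 6 := by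
  haveI := Fact.mk Nat.prime_three
  have h3 : Nat.card (P : Subgroup G) = 3 :=
    SmallOrder.card_sylow_eq (e := 1) (m := 20) (by rw [hc]; norm_num) (by norm_num) P
  refine ⟨h3, ?_⟩
  have h5 := five_not_dvd_normalizer hs (Or.inl h3)
  obtain ⟨a, ha, hadvd⟩ := normalizer_dvd hs (Or.inl ⟨rfl, rfl⟩ : Pair35 3 5) h3
  have ha1 : a ≤ 1 := by
    by_contra h
    have : 9 ∣ Nat.card G := (pow_dvd_pow 3 (show 2 ≤ a by omega)).trans hadvd
    omega
  have h20 : Nat.card (normalizer ((P : Subgroup G) : Set G)) ∣ 6 :=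
    ha.trans (by interval_cases a <;> norm_num)
  have hmul := SmallOrder.card_normalizer_mul P
  have hmod : Nat.card (Sylow 3 G) % 3 = 1 := card_sylow_modEq_one 3 G
  have hle := Nat.le_of_dvd (by norm_num) h20
  rw [hc] at hmul
  generalize Nat.card (normalizer ((P : Subgroup G) : Set G)) = N at *
  generalize Nat.card (Sylow 3 G) = k at *
  interval_cases N <;> omega

end CfsgLib.SpecFive
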