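import Cfsg.Agent.Lib.SpecFive.Sides

/-!
# Index three at five and even index at three
-/

set_option autoImplicit false
set_option linter.style.haveILetI false
set_option linter.unusedSectionVars false
set_option linter.unnecessarySeqFocus false

namespace CfsgLib.SpecFive

universe u

namespace Arith

theorem two_pow_mod_fortyfive (x : ℕ) : 2 ^ x % 45 = 2 ^ (x % 12) % 45 := by
  conv_lhs => rw [← Nat.div_add_mod x 12, pow_add, pow_mul, Nat.mul_mod, Nat.pow_mod]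
  norm_num

theorem nine_pow_mod_eighty (b : ℕ) : 9 ^ b % 80 = 1 ∨ 9 ^ b % 80 = 9 := by
  induction b with
  | zero => left; rfl
  | succ b ih => rw [pow_succ]; omega

theorem mixedA_pos {i b j M P : ℕ} {ε : ℤ} (hP80 : P % 80 = 1) (hi : 1 ≤ i)
    (hε : ε = 1 ∨ ε = -1) (h5ε : (5 : ℤ) ∣ ε * ((2 : ℤ) ^ i * P) - 3)
    (heq : 1 + (P : ℤ) - M - ε * ((2 : ℤ) ^ i * P) = 0) (h16 : M % 16 = 0)
    (hM : 64 ^ (2 * j + 1) = M) (hP : 9 ^ b = P) : False := by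
  have hi1 : i = 1 := by
    by_contra hne
    obtain ⟨i', rfl⟩ : ∃ i', i = i' + 2 := ⟨i - 2, by omega⟩
    rw [pow_add] at heq
    generalize (2 : ℤ) ^ i' = w at heq
    have h4 : (4 : ℤ) ∣ ε * (w * 2 ^ 2 * (P : ℤ)) := ⟨ε * w * P, by ring⟩
    clear hM hP h5ε hε
    omega
  subst hi1
  rw [pow_one] at heq h5ε
  have hε' : ε = -1 := by
    rcases hε with rfl | rfl
    · omega
    · rfl
  subst hε'
  have h7 : 7 ∣ M - 1 := by
    rw [← hM]
    exact (show 7 ∣ 64 - 1 by norm_num).trans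
      (by simpa using Nat.sub_dvd_pow_sub_pow 64 1 (2 * j + 1))
  have h3p : M - 1 = 3 * P := by omega
  rw [h3p, ← hP] at h7
  rcases (Nat.Prime.dvd_mul (by norm_num : Nat.Prime 7)).1 h7 with h | h
  · norm_num at h
  · have := (by norm_num : Nat.Prime 7).dvd_of_dvd_pow h
    norm_num at this

theorem eight_pow_odd_mod (j : ℕ) : (8 ^ (2 * j + 1) - 1) % 3 = 1 := by
  have h : 8 ^ (2 * j + 1) % 3 = 2 := by
    rw [pow_succ, pow_mul, Nat.mul_mod, Nat.pow_mod]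
    norm_num
  generalize 8 ^ (2 * j + 1) = N at h ⊢
  omega

theorem mixedA_neg {β i b j M P : ℕ} {ε : ℤ} (hP80 : P % 80 = 9) (hi : 1 ≤ i)
    (hε : ε = 1 ∨ ε = -1) (h5ε : (5 : ℤ) ∣ ε * ((2 : ℤ) ^ i * P) - 3)
    (heq : 1 - (P : ℤ) - M - ε * ((2 : ℤ) ^ i * P) = 0) (h16 : M % 16 = 0)
    (hM : 64 ^ (2 * j + 1) = M) (hP : 9 ^ b = P) (hβ : β = b + b) : β = 2 := by
  have hi3 : i = 3 := by
    by_contra hne
    rcases (show i = 1 ∨ i = 2 ∨ 4 ≤ i by omega) with rfl | rfl | h4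
    · norm_num at heq
      rcases hε with rfl | rfl <;> omega
    · norm_num at heq
      rcases hε with rfl | rfl <;> omega
    · obtain ⟨i', rfl⟩ : ∃ i', i = i' + 4 := ⟨i - 4, by omega⟩
      rw [pow_add] at heq
      generalize (2 : ℤ) ^ i' = w at heq
      have h : (16 : ℤ) ∣ ε * (w * 2 ^ 4 * (P : ℤ)) := ⟨ε * w * P, by ring⟩
      clear hM hP h5ε hε
      omega
  subst hi3
  norm_num at heq h5ε
  have hε' : ε = -1 := by
    rcases hε with rfl | rfl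
    · omega
    · rfl
  subst hε'
  have h7p : M - 1 = 7 * P := by omega
  have hdiv : 8 ^ (2 * j + 1) - 1 ∣ 7 * P := by
    rw [← h7p, ← hM, show (64 : ℕ) = 8 * 8 by norm_num, mul_pow]
    generalize hN : 8 ^ (2 * j + 1) = N
    refine ⟨N + 1, ?_⟩
    have h8 : 1 ≤ N := hN ▸ Nat.one_le_pow _ _ (by norm_num)
    have h88 : 1 ≤ N * N := Nat.one_le_iff_ne_zero.2 (by positivity)
    zify [h8, h88]
    ring
  have h83 := eight_pow_odd_mod j
  have h3 : Nat.Coprime 3 (8 ^ (2 * j + 1) - 1) :=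
    (Nat.Prime.coprime_iff_not_dvd Nat.prime_three).2 (by omega)
  have h9 : Nat.Coprime (8 ^ (2 * j + 1) - 1) 9 := (Nat.Coprime.mul_left h3 h3).symm
  have hcop : Nat.Coprime (8 ^ (2 * j + 1) - 1) (9 ^ b) := h9.pow_right _
  rw [← hP] at hdiv
  have h7 := Nat.le_of_dvd (by norm_num) (hcop.dvd_of_dvd_mul_right hdiv)
  have hj0 : j = 0 := by
    by_contra hj
    have : 8 ^ 2 ≤ 8 ^ (2 * j + 1) := Nat.pow_le_pow_right (by norm_num) (by omega)
    omega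
  subst hj0
  norm_num at hM
  have hb1 : 9 ^ b = 9 ^ 1 := by omega
  have := Nat.pow_right_injective (by norm_num) hb1
  omega

/-- The equation of the first mixed case. -/
theorem mixedA {β x i : ℕ} {σ τ ε : ℤ} (hβ : Even β) (hβ2 : 2 ≤ β) (hσ : σ = 1 ∨ σ = -1)
    (hτ : τ = 1 ∨ τ = -1) (hε : ε = 1 ∨ ε = -1) (hi : 1 ≤ i)
    (h5σ : (5 : ℤ) ∣ σ * (3 : ℤ) ^ β - 1) (h5τ : (5 : ℤ) ∣ τ * (2 : ℤ) ^ x - 1)
    (h5ε : (5 : ℤ) ∣ ε * ((2 : ℤ) ^ i * (3 : ℤ) ^ β) - 3)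
    (heq : 1 + σ * (3 : ℤ) ^ β + τ * (2 : ℤ) ^ x - ε * ((2 : ℤ) ^ i * (3 : ℤ) ^ β) = 0) :
    β = 2 ∧ σ = -1 := by
  obtain ⟨b, hb⟩ := hβ
  have hb9 : (3 : ℤ) ^ β = ((9 ^ b : ℕ) : ℤ) := by
    subst hb
    push_cast
    rw [show (9 : ℤ) = 3 ^ 2 by norm_num, ← pow_mul, two_mul]
  have h9 : (9 : ℤ) ∣ τ * (2 : ℤ) ^ x + 1 := by
    have h3 : (9 : ℤ) ∣ (3 : ℤ) ^ β := (show (9 : ℤ) = 3 ^ 2 by norm_num) ▸ pow_dvd_pow 3 hβ2
    have h4 : τ * (2 : ℤ) ^ x + 1 = (ε * 2 ^ i - σ) * (3 : ℤ) ^ β := by linear_combination heq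
    rw [h4]
    exact h3.mul_left _
  have hx45 := two_pow_mod_fortyfive x
  have hx : x % 12 = 6 ∧ τ = -1 := by
    have hcast : (2 : ℤ) ^ x = ((2 ^ x : ℕ) : ℤ) := by push_cast; rfl
    rw [hcast] at h5τ h9
    have hlt : x % 12 < 12 := Nat.mod_lt _ (by norm_num)
    generalize hr : x % 12 = r at hx45 hlt ⊢
    generalize 2 ^ x = N at *
    rcases hτ with rfl | rfl <;> interval_cases r <;> norm_num at hx45 ⊢ <;> omega
  obtain ⟨hx12, rfl⟩ := hx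
  obtain ⟨j, rfl⟩ : ∃ j, x = 6 * (2 * j + 1) := ⟨x / 12, by omega⟩
  have hp80 := nine_pow_mod_eighty b
  set m := 2 * j + 1 with hm
  have h64 : (2 : ℤ) ^ (6 * m) = ((64 ^ m : ℕ) : ℤ) := by
    push_cast
    rw [pow_mul]
    norm_num
  have h16 : (64 ^ m) % 16 = 0 := Nat.mod_eq_zero_of_dvd
    ((show 16 ∣ 64 by norm_num).trans (dvd_pow_self 64 (by omega)))
  rw [h64] at heq h5τ
  rw [hb9] at heq h5σ h5ε
  generalize hP : 9 ^ b = P at *
  generalize hM : 64 ^ m = M at *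
  rcases hσ with rfl | rfl
  · exfalso
    exact mixedA_pos (by omega) hi hε h5ε (by linear_combination heq) (by omega) hM hP
  · exact ⟨mixedA_neg (j := j) (by omega) hi hε h5ε (by linear_combination heq) (by omega) hM hP
      (by omega), rfl⟩

end Arith

variable {G : Type u} [Group G] [Fintype G]

theorem Fam.card_ab_pow {A : Subgroup G} [Fintype A] {n l k : ℕ} (F : Fam A n) (hl : l.Prime)
    (hA : Nat.card A = l ^ k) : ∃ j, n * F.t + 1 = l ^ j := by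
  have hd : Nat.card (CN.Ab A) ∣ l ^ k :=
    hA ▸ Dvd.intro_left _ (CN.card_eq_kc_mul A).symm
  obtain ⟨j, -, hj⟩ := (Nat.dvd_prime_pow hl).1 hd
  exact ⟨j, F.card_ab ▸ hj⟩

/-- Exceptional members for one prime are not exceptional for the other. -/
theorem notMem_other (hs : Small G) {l m n n' : ℕ} (hl : Pair35 l m) (A : Sylow l G) (B : Sylow m G)
    [Fintype (A : Subgroup G)] [Fintype (B : Subgroup G)] (F : Fam (A : Subgroup G) n)
    (F' : Fam (B : Subgroup G) n') : ∀ φ ∈ F.E, φ ∉ F'.E := by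
  intro φ hφ hφ'
  have h2 := F.t_of_mem hφ
  obtain ⟨χ, hχ, hne⟩ := Finset.exists_mem_ne (by rw [F.card_E h2]; omega) φ
  refine hne (F'.eq_of_agree φ hφ' χ fun b hb => F.E_eq φ hφ χ hχ b fun y hy => ?_).symm
  by_contra hne'
  exact not_conj_sylow hs hl A B _ hy hne' b hb (isConj_iff.2 ⟨y, by simp [mul_assoc]⟩)

/-- Exceptional members for one prime have one value on the other side. -/
theorem other_apply (hs : Small G) {l m n : ℕ} (hl : Pair35 l m) (A : Sylow l G) (B : Sylow m G)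
    [Fintype (A : Subgroup G)] (F : Fam (A : Subgroup G) n) {φ ψ : Cfsg.IrrCharacter G}
    (hφ : φ ∈ F.E) (hψ : ψ ∈ F.E) {b : G} (hb : b ∈ (B : Subgroup G)) :
    (φ : G → ℂ) b = (ψ : G → ℂ) b :=
  F.E_eq φ hφ ψ hψ b fun y hy => by
    by_contra hne'
    exact not_conj_sylow hs hl A B _ hy hne' b hb (isConj_iff.2 ⟨y, by simp [mul_assoc]⟩)

/-- A large exceptional set vanishes on the commutative other side. -/
theorem other_vanish (hs : Small G) {l m n n' : ℕ} (hl : Pair35 l m) (A : Sylow l G) (B : Sylow m G)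
    [Fintype (A : Subgroup G)] [Fintype (B : Subgroup G)] (F : Fam (A : Subgroup G) n)
    (F' : Fam (B : Subgroup G) n')
    (hc : ∀ x ∈ (B : Subgroup G), ∀ y ∈ (B : Subgroup G), x * y = y * x)
    (hn' : n' = 4 ∨ n' = 8) (ht : 8 ≤ F.t) :
    ∀ φ ∈ F.E, ∀ b ∈ (B : Subgroup G), b ≠ 1 → (φ : G → ℂ) b = 0 := by
  classical
  intro φ hφ b hb hb1
  have hnot := notMem_other hs hl A B F F'
  have hn0 : 0 < n' := by omega
  set w := F'.X φ with hw
  have hXw : ∀ χ ∈ F.E, F'.X χ = w := by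
    intro χ hχ
    have h1 := F'.off_apply hc (hnot χ hχ) hb hb1
    rw [other_apply hs hl A B F hχ hφ hb, F'.off_apply hc (hnot φ hφ) hb hb1] at h1
    exact_mod_cast h1.symm
  suffices hw0 : w = 0 by
    rw [F'.off_apply hc (hnot φ hφ) hb hb1, ← hw, hw0, Int.cast_zero]
  by_contra hw0
  have hsub : F.E ⊆ F'.rest := fun χ hχ =>
    F'.mem_rest.2 ⟨fun h => F.one_notMem (h ▸ hχ), hnot χ hχ⟩
  have h2 := F.t_of_mem hφ
  have hsum : ∑ χ ∈ F.E, F'.X χ ^ 2 = (F.t : ℤ) * w ^ 2 := by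
    rw [Finset.sum_congr rfl fun χ hχ => by rw [hXw χ hχ], Finset.sum_const, F.card_E h2,
      nsmul_eq_mul]
  have hsplit := Finset.sum_sdiff (f := fun χ => F'.X χ ^ 2) hsub
  rw [hsum] at hsplit
  have hnn : 0 ≤ ∑ χ ∈ F'.rest \ F.E, F'.X χ ^ 2 := Finset.sum_nonneg fun _ _ => sq_nonneg _
  have hw1 : 1 ≤ w ^ 2 := by nlinarith [Int.one_le_abs hw0, sq_abs w]
  have htw : (F.t : ℤ) ≤ (F.t : ℤ) * w ^ 2 := le_mul_of_one_le_right (Int.natCast_nonneg _) hw1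
  rcases F'.t_cases with h1 | h1
  · have htot := F'.sum_sq_one' h1
    have hn8 : n' = 8 := by omega
    have ht8 : (F.t : ℤ) * w ^ 2 = 8 := by omega
    have ht8' : F.t = 8 := by omega
    have hzero : ∑ χ ∈ F'.rest \ F.E, F'.X χ ^ 2 = 0 := by omega
    have horth := F'.orth_one hn0 h1
    rw [← Finset.sum_sdiff hsub] at horth
    have hz : ∑ χ ∈ F'.rest \ F.E, F'.X χ * (Char.degree (χ : G → ℂ) : ℤ) = 0 :=
      Finset.sum_eq_zero fun χ hχ => by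
        rw [pow_eq_zero_iff two_ne_zero |>.1
          ((Finset.sum_eq_zero_iff_of_nonneg fun _ _ => sq_nonneg _).1 hzero χ hχ), zero_mul]
    have hdeg : ∀ χ ∈ F.E, (Char.degree (χ : G → ℂ) : ℤ) = (Char.degree (φ : G → ℂ) : ℤ) := by
      intro χ hχ
      have h' := F.E_eq χ hχ φ hφ 1 fun y _ => by simp
      rw [← Char.IsCharacter.degree_cast (Char.IsIrrCharacter.isCharacter χ.2),
        ← Char.IsCharacter.degree_cast (Char.IsIrrCharacter.isCharacter φ.2)] at h'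
      exact_mod_cast h'
    rw [hz, Finset.sum_congr rfl fun χ hχ => by rw [hXw χ hχ, hdeg χ hχ], Finset.sum_const,
      F.card_E h2, ht8', nsmul_eq_mul] at horth
    push_cast at horth
    omega
  · have htot := (F'.sum_sq_le).2 h1
    omega

variable [IsSimpleGroup G]

theorem not_mixedA (h : Ctx G) (S : Sylow 2 G) (P : Sylow 3 G) (Q : Sylow 5 G)
    [Fintype (P : Subgroup G)] [Fintype (Q : Subgroup G)]
    (hcP : ∀ x ∈ (P : Subgroup G), ∀ y ∈ (P : Subgroup G), x * y = y * x)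
    {n : ℕ} (hn : n = 4 ∨ n = 8) (FP : Fam (P : Subgroup G) n) (FQ : Fam (Q : Subgroup G) 3) :
    False := by
  classical
  haveI := Fact.mk Nat.prime_three
  haveI : Fact (Nat.Prime 5) := ⟨by norm_num⟩
  obtain ⟨β, hβ⟩ := P.2.exists_card_eq
  obtain ⟨γ, hγ⟩ := Q.2.exists_card_eq
  have hP := FP.card_comm hcP
  rw [hβ] at hP
  have hPt : 4 ≤ n * FP.t := le_trans (by omega) (Nat.mul_le_mul_left n FP.t_pos)
  have hβe : Even β := by
    by_contra hodd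
    have h8 := Arith.three_pow_mod_eight β
    rw [if_neg hodd] at h8
    rcases hn with rfl | rfl <;> omega
  have hβ2 : 2 ≤ β := by
    by_contra hlt
    obtain ⟨b, rfl⟩ := hβe
    rw [show b + b = 0 by omega] at hP
    omega
  -- the size of the exceptional set
  obtain ⟨k, hk⟩ := FQ.card_ab_pow (by norm_num : Nat.Prime 5) hγ
  have hk2 : 2 ≤ k := by
    have h24 := Arith.five_pow_mod_twentyfour k
    have htpos := FQ.t_pos
    by_contra hlt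
    interval_cases k <;> norm_num at hk <;> omega
  have h25 : 25 ≤ 3 * FQ.t + 1 := by
    rw [hk]
    exact (show 25 = 5 ^ 2 by norm_num) ▸ Nat.pow_le_pow_right (by norm_num) hk2
  have ht : 8 ≤ FQ.t := by omega
  have h2 : 2 ≤ FQ.t := by omega
  have hsq := FQ.sum_sq_two h2
  have hY : FQ.Y = 0 := by
    by_contra hY
    have hnn : 0 ≤ ∑ φ ∈ FQ.rest, FQ.X φ ^ 2 := Finset.sum_nonneg fun _ _ => sq_nonneg _
    have ht' : (8 : ℤ) ≤ (FQ.t : ℤ) := by exact_mod_cast ht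
    have hY1 : 1 ≤ FQ.Y ^ 2 := by nlinarith [Int.one_le_abs hY, sq_abs FQ.Y]
    push_cast at hsq
    nlinarith [mul_le_mul_of_nonneg_right ht' (sq_nonneg FQ.Y), sq_nonneg (FQ.Y - 1)]
  rw [hY] at hsq
  obtain ⟨φ₁, h₁, φ₂, h₂, hne, hX₁, hX₂, hrest⟩ :=
    exists_pair FQ.rest FQ.X (by push_cast at hsq; linarith)
  obtain ⟨ψ, hψ⟩ := FQ.exists_mem h2
  have ha5 : (5 : ℤ) ∣ (Nat.card (CN.Ab (Q : Subgroup G)) : ℤ) := by
    rw [FQ.card_ab, hk]
    exact_mod_cast dvd_pow_self 5 (by omega : k ≠ 0)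
  have hR5 : ∀ φ, (5 : ℤ) ∣ (FQ.R φ : ℤ) := fun φ => by
    exact_mod_cast FQ.dvd_R (by norm_num : Nat.Prime 5) Q.2 φ
  -- congruences
  have hF : ∀ φ ∈ FQ.rest, FQ.X φ ^ 2 = 1 →
      (5 : ℤ) ∣ FQ.X φ * (Char.degree (φ : G → ℂ) : ℤ) - 1 := by
    intro φ hφ hX
    rw [FQ.degZ_off (FQ.mem_rest.1 hφ).2, show FQ.X φ * (FQ.X φ +
      (Nat.card (CN.Ab (Q : Subgroup G)) : ℤ) * FQ.c φ + (FQ.R φ : ℤ)) - 1 =
      FQ.X φ * ((Nat.card (CN.Ab (Q : Subgroup G)) : ℤ) * FQ.c φ + (FQ.R φ : ℤ)) +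
        (FQ.X φ ^ 2 - 1) by ring, hX, sub_self, add_zero]
    exact (dvd_add (ha5.mul_right _) (hR5 φ)).mul_left _
  have hεε : FQ.ε * FQ.ε = 1 := by rcases FQ.eps with h' | h' <;> simp [h']
  have hD : (5 : ℤ) ∣ FQ.ε * (Char.degree (ψ : G → ℂ) : ℤ) - 3 := by
    rw [FQ.degZ_E hψ, hY, show FQ.ε * (FQ.ε * 0 + FQ.ε * ((3 : ℕ) : ℤ) +
      (Nat.card (CN.Ab (Q : Subgroup G)) : ℤ) * FQ.c ψ + (FQ.R ψ : ℤ)) - 3 =
      FQ.ε * ((Nat.card (CN.Ab (Q : Subgroup G)) : ℤ) * FQ.c ψ + (FQ.R ψ : ℤ)) +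
        3 * (FQ.ε * FQ.ε - 1) by push_cast; ring, hεε, sub_self, mul_zero, add_zero]
    exact (dvd_add (ha5.mul_right _) (hR5 ψ)).mul_left _
  have hshape : ∀ φ : Cfsg.IrrCharacter G, ¬ 5 ∣ Char.degree (φ : G → ℂ) →
      ∃ x y, y ≤ β ∧ Char.degree (φ : G → ℂ) = 2 ^ x * 3 ^ y := by
    intro φ h5
    obtain ⟨x, y, z, hd, hy, -⟩ := degree_shape h.small S P Q φ
    have hz : z = 0 := by
      by_contra hz
      exact h5 (by rw [hd]; exact (dvd_pow_self 5 hz).mul_left _)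
    rw [hz, pow_zero, mul_one] at hd
    rw [hβ] at hy
    exact ⟨x, y, (Nat.pow_dvd_pow_iff_le_right (by norm_num)).1 hy, hd⟩
  have h3p : ∀ φ : Cfsg.IrrCharacter G, φ ≠ Char.principalIrr → 3 ∣ Char.degree (φ : G → ℂ) →
      3 ^ β ∣ Char.degree (φ : G → ℂ) := fun φ hφ hd =>
    hβ ▸ card_dvd_degree φ (FP.vanish hcP (Or.inl rfl) hβ hn hφ hd).2.2
  have hψ5 : ¬ 5 ∣ Char.degree (ψ : G → ℂ) := by
    intro hd
    have hd' : (5 : ℤ) ∣ (Char.degree (ψ : G → ℂ) : ℤ) := by exact_mod_cast hd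
    have := dvd_sub (hd'.mul_left FQ.ε) hD
    norm_num at this
  have hpψ : 3 ^ β ∣ Char.degree (ψ : G → ℂ) := hβ ▸ card_dvd_degree ψ
    (other_vanish h.small (Or.inr ⟨rfl, rfl⟩) Q P FQ FP hcP hn ht ψ hψ)
  obtain ⟨i, yi, hyi, hDshape⟩ := hshape ψ hψ5
  have hyi' : yi = β := by
    refine le_antisymm hyi ?_
    have h' : 3 ^ β ∣ 3 ^ yi := (Nat.Coprime.pow _ _ (by norm_num : Nat.Coprime 3 2)).dvd_of_dvd_mul_left
      (hDshape ▸ hpψ)
    exact (Nat.pow_dvd_pow_iff_le_right (by norm_num)).1 h'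
  rw [hyi'] at hDshape hyi
  have hi : 1 ≤ i := by
    by_contra hi0
    rw [Nat.lt_one_iff.1 (not_le.1 hi0), pow_zero, one_mul] at hDshape
    obtain ⟨b, rfl⟩ := hβe
    have h80 := Arith.nine_pow_mod_eighty b
    rw [show (9 : ℕ) = 3 ^ 2 by norm_num, ← pow_mul, two_mul] at h80
    rw [hDshape] at hD
    generalize 3 ^ (b + b) = P at *
    rcases FQ.eps with h' | h' <;> rw [h'] at hD <;> omega
  -- the equation
  have horth := FQ.orth_two (by norm_num) hψ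
  rw [← Finset.sum_subset (s₁ := {φ₁, φ₂}) (fun χ hχ => by
      simp only [Finset.mem_insert, Finset.mem_singleton] at hχ
      rcases hχ with rfl | rfl <;> assumption) (fun χ hχ hχ' => by
      simp only [Finset.mem_insert, Finset.mem_singleton, not_or] at hχ'
      rw [hrest χ hχ hχ'.1 hχ'.2, zero_mul]), Finset.sum_pair hne.symm, Fam.δ, hY] at horth
  have heven : Even (Char.degree (ψ : G → ℂ)) := by
    rw [hDshape]; exact ((Nat.even_pow.2 ⟨even_two, by omega⟩).mul_right _)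
  obtain ⟨φ, hφ, φ', hφ', hX, hX', hodd, horth'⟩ : ∃ φ ∈ FQ.rest, ∃ φ' ∈ FQ.rest,
      FQ.X φ ^ 2 = 1 ∧ FQ.X φ' ^ 2 = 1 ∧ Odd (Char.degree (φ : G → ℂ)) ∧
      1 + FQ.X φ * (Char.degree (φ : G → ℂ) : ℤ) + FQ.X φ' * (Char.degree (φ' : G → ℂ) : ℤ) -
        FQ.ε * (Char.degree (ψ : G → ℂ) : ℤ) = 0 := by
    rcases Nat.even_or_odd (Char.degree (φ₁ : G → ℂ)) with he | ho
    · rcases Nat.even_or_odd (Char.degree (φ₂ : G → ℂ)) with he' | ho'
      · exfalso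
        obtain ⟨u₁, hu₁⟩ := he
        obtain ⟨u₂, hu₂⟩ := he'
        obtain ⟨u₃, hu₃⟩ := heven
        rw [hu₁, hu₂, hu₃] at horth
        rcases unit_cases hX₁ with a₁ | a₁ <;> rcases unit_cases hX₂ with a₂ | a₂ <;>
          rcases FQ.eps with a₃ | a₃ <;> rw [a₁, a₂, a₃] at horth <;> push_cast at horth <;> omega
      · exact ⟨φ₂, h₂, φ₁, h₁, hX₂, hX₁, ho', by linear_combination horth⟩
    · exact ⟨φ₁, h₁, φ₂, h₂, hX₁, hX₂, ho, by linear_combination horth⟩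
  have h5φ : ∀ χ ∈ FQ.rest, FQ.X χ ^ 2 = 1 → ¬ 5 ∣ Char.degree (χ : G → ℂ) := by
    intro χ hχ hXχ hd
    have hd' : (5 : ℤ) ∣ (Char.degree (χ : G → ℂ) : ℤ) := by exact_mod_cast hd
    have := dvd_sub (hd'.mul_left (FQ.X χ)) (hF χ hχ hXχ)
    norm_num at this
  obtain ⟨x₀, y₀, hy₀, hfs⟩ := hshape φ (h5φ φ hφ hX)
  have hx₀ : x₀ = 0 := by
    by_contra hx
    refine Nat.not_even_iff_odd.2 hodd ?_
    rw [hfs]
    exact (Nat.even_pow.2 ⟨even_two, hx⟩).mul_right _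
  subst hx₀
  rw [pow_zero, one_mul] at hfs
  have hy₀0 : y₀ ≠ 0 := fun h0 => by
    have := two_le_degree h.ne (FQ.mem_rest.1 hφ).1
    rw [hfs, h0, pow_zero] at this
    omega
  have hfp : Char.degree (φ : G → ℂ) = 3 ^ β :=
    Nat.dvd_antisymm (hfs ▸ pow_dvd_pow 3 hy₀)
      (h3p φ (FQ.mem_rest.1 hφ).1 (hfs ▸ dvd_pow_self 3 hy₀0))
  obtain ⟨x, y, -, hfs'⟩ := hshape φ' (h5φ φ' hφ' hX')
  have hy : y = 0 := by
    by_contra hy
    have hd := h3p φ' (FQ.mem_rest.1 hφ').1 (hfs' ▸ (dvd_pow_self 3 hy).mul_left _)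
    obtain ⟨e, he⟩ := hd
    rw [hfp, he, hDshape] at horth'
    have : (3 : ℤ) ^ β ∣ 1 := ⟨-(FQ.X φ + FQ.X φ' * e - FQ.ε * 2 ^ i), by
      push_cast at horth'
      linear_combination horth'⟩
    have h1 := Int.le_of_dvd one_pos this
    have h9 : (3 : ℤ) ^ 2 ≤ 3 ^ β := pow_le_pow_right₀ (by norm_num) hβ2
    omega
  subst hy
  rw [pow_zero, mul_one] at hfs'
  have hF1 := hF φ hφ hX
  have hF2 := hF φ' hφ' hX'
  rw [hfp] at hF1 horth'
  rw [hfs'] at hF2 horth'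
  rw [hDshape] at hD horth'
  push_cast at hF1 hF2 hD horth'
  obtain ⟨rfl, hσ⟩ := Arith.mixedA hβe hβ2 (unit_cases hX) (unit_cases hX') FQ.eps hi hF1 hF2 hD
    horth'
  have hdeg := FQ.degZ_off (FQ.mem_rest.1 hφ).2
  rw [hfp, hσ, FQ.card_ab, hk] at hdeg
  have hc1 : 1 ≤ FQ.c φ := by
    have := FQ.cX_nonneg φ
    rw [hσ] at this
    omega
  have hk25 : (25 : ℤ) ≤ ((5 ^ k : ℕ) : ℤ) := by exact_mod_cast hk ▸ h25
  have := mul_le_mul hk25 hc1 (by norm_num) (by positivity)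
  have hR0 : (0 : ℤ) ≤ (FQ.R φ : ℤ) := Int.natCast_nonneg _
  norm_num at hdeg this
  linarith

end CfsgLib.SpecFive
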