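import Cfsg.Agent.Lib.SpecFive.MixedA

/-!
# Index five at three and even index at five
-/

set_option autoImplicit false
set_option linter.style.haveILetI false
set_option linter.unusedSectionVars false
set_option linter.unnecessarySeqFocus false

open scoped ComplexConjugate

namespace CfsgLib.SpecFive

universe u

variable {G : Type u} [Group G] [Fintype G]

/-- A degree divisible by five forces the fixed space on `P` to have dimension divisible by five. -/
theorem five_dvd_fixed (hs : Small G) (P : Sylow 3 G) (Q : Sylow 5 G)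
    [Fintype (P : Subgroup G)] [Fintype (Q : Subgroup G)]
    (FP : Fam (P : Subgroup G) 5)
    (hNP : 5 * Nat.card (P : Subgroup G) =
      Nat.card (Subgroup.normalizer ((P : Subgroup G) : Set G)))
    (hinv : ∀ u ∈ Subgroup.normalizer ((P : Subgroup G) : Set G), orderOf u ≠ 2)
    (φ : Cfsg.IrrCharacter G)
    (hv : ∀ b ∈ (Q : Subgroup G), b ≠ 1 → (φ : G → ℂ) b = 0) :
    (5 : ℤ) ∣ FP.c φ + FP.X φ := by
  classical
  haveI := Fact.mk Nat.prime_three
  haveI : Fact (Nat.Prime 5) := ⟨by norm_num⟩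
  set N : Subgroup G := Subgroup.normalizer ((P : Subgroup G) : Set G) with hN
  obtain ⟨k, hk⟩ := Char.IsCharacter.exists_nat_classInner
    (CharTwist.isCharacter_comp (Char.IsIrrCharacter.isCharacter φ.2) N.subtype)
    (Char.principalIrr : Cfsg.IrrCharacter N).2
  have hzero : ∀ g : N, (g : G) ∉ (P : Subgroup G) → (φ : G → ℂ) g = 0 := by
    intro g hg
    have h5 : orderOf (g : G) = 5 := by
      rcases hs.cases (g : G) with h | h | h | h | h
      · exact absurd (orderOf_eq_one_iff.1 h ▸ one_mem (P : Subgroup G)) hg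
      · exact absurd h (hinv g g.2)
      · exact absurd (mem_of_normalizer_pow (Or.inl ⟨rfl, rfl⟩ : Pair35 3 5) P g.2
          (h ▸ pow_orderOf_eq_one _)) hg
      · refine absurd ?_ (hinv ((g : G) ^ 2) (pow_mem g.2 2))
        rw [orderOf_pow, h]
        rfl
      · exact h
    obtain ⟨R, hR⟩ := (IsPGroup.of_card (n := 1) (G := Subgroup.zpowers (g : G))
      (by rw [Nat.card_zpowers, h5, pow_one])).exists_le_sylow
    obtain ⟨x, hx⟩ := MulAction.exists_smul_eq G R Q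
    have hmem : x * g * x⁻¹ ∈ (Q : Subgroup G) := by
      rw [← hx]
      exact ⟨g, hR (Subgroup.mem_zpowers _), rfl⟩
    have hne : x * g * x⁻¹ ≠ 1 := fun h => by
      rw [conj_eq_one_iff] at h
      rw [h, orderOf_one] at h5
      omega
    rw [← Char.IsIrrCharacter.isClassFunction φ.2 g x]
    exact hv _ hmem hne
  have hsum : ∑ g : N, (φ : G → ℂ) g = ∑ b : (P : Subgroup G), (φ : G → ℂ) b := by
    rw [← Finset.sum_subset (Finset.subset_univ (Finset.univ.filter fun g : N => (g : G) ∈ (P : Subgroup G)))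
      (fun g _ hg => hzero g (by simpa using hg))]
    refine Finset.sum_bij (fun g hg => ⟨(g : G), (Finset.mem_filter.1 hg).2⟩) ?_ ?_ ?_ (fun _ _ => rfl)
    · exact fun _ _ => Finset.mem_univ _
    · exact fun a _ b _ h => Subtype.ext (by simpa using h)
    · exact fun b _ => ⟨⟨b, Subgroup.le_normalizer b.2⟩, Finset.mem_filter.2 ⟨Finset.mem_univ _, b.2⟩,
        Subtype.ext rfl⟩
  simp only [Cfsg.classInner, Function.comp, Char.principalIrr_apply, map_one, mul_one,
    Subgroup.coe_subtype] at hk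
  rw [hsum, FP.sum_A, ← hNP, inv_mul_eq_iff_eq_mul₀
    (Nat.cast_ne_zero.2 (mul_ne_zero (by norm_num) Nat.card_pos.ne')), Nat.cast_mul,
    mul_comm ((5 : ℕ) : ℂ), mul_assoc] at hk
  have h := mul_left_cancel₀ (Nat.cast_ne_zero.2 Nat.card_pos.ne') hk
  exact ⟨k, by exact_mod_cast h⟩

variable [IsSimpleGroup G]

set_option maxHeartbeats 2000000 in
theorem not_mixedB (h : Ctx G) (S : Sylow 2 G) (P : Sylow 3 G) (Q : Sylow 5 G)
    [Fintype (P : Subgroup G)] [Fintype (Q : Subgroup G)]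
    (hcQ : ∀ x ∈ (Q : Subgroup G), ∀ y ∈ (Q : Subgroup G), x * y = y * x)
    {n : ℕ} (hn : n = 4 ∨ n = 8) (FP : Fam (P : Subgroup G) 5) (FQ : Fam (Q : Subgroup G) n)
    (hNP : 5 * Nat.card (P : Subgroup G) =
      Nat.card (Subgroup.normalizer ((P : Subgroup G) : Set G)))
    (hinv : ∀ u ∈ Subgroup.normalizer ((P : Subgroup G) : Set G), orderOf u ≠ 2) : False := by
  classical
  haveI := Fact.mk Nat.prime_three
  haveI : Fact (Nat.Prime 5) := ⟨by norm_num⟩
  obtain ⟨β, hβ⟩ := P.2.exists_card_eq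
  obtain ⟨γ, hγ⟩ := Q.2.exists_card_eq
  have hQ := FQ.card_comm hcQ
  rw [hγ] at hQ
  have hQt : 4 ≤ n * FQ.t := le_trans (by omega) (Nat.mul_le_mul_left n FQ.t_pos)
  have hγ1 : 1 ≤ γ := by
    by_contra h'
    rw [Nat.lt_one_iff.1 (not_le.1 h')] at hQ
    omega
  obtain ⟨y, hyQ, hy1⟩ : ∃ y ∈ (Q : Subgroup G), y ≠ 1 := by
    obtain ⟨⟨y, hy⟩, hy1⟩ := Subgroup.ne_bot_iff_exists_ne_one.1 (Q.ne_bot_of_dvd_card h.h5)
    exact ⟨y, hy, fun he => hy1 (Subtype.ext he)⟩
  -- the exceptional set at three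
  obtain ⟨k, hk⟩ := FP.card_ab_pow Nat.prime_three hβ
  have hk4 : 4 ≤ k := by
    have htpos := FP.t_pos
    by_contra hlt
    interval_cases k <;> norm_num at hk <;> omega
  have h81 : 81 ≤ 5 * FP.t + 1 := by
    rw [hk]
    exact (show 81 = 3 ^ 4 by norm_num) ▸ Nat.pow_le_pow_right (by norm_num) hk4
  have ht : 16 ≤ FP.t := by omega
  have h2 : 2 ≤ FP.t := by omega
  have ha81 : (81 : ℤ) ≤ (Nat.card (CN.Ab (P : Subgroup G)) : ℤ) := by
    rw [FP.card_ab]; exact_mod_cast h81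
  have hsq := FP.sum_sq_two h2
  have hY : FP.Y = 0 := by
    by_contra hY
    have hnn : 0 ≤ ∑ φ ∈ FP.rest, FP.X φ ^ 2 := Finset.sum_nonneg fun _ _ => sq_nonneg _
    have ht' : (16 : ℤ) ≤ (FP.t : ℤ) := by exact_mod_cast ht
    have hY1 : 1 ≤ FP.Y ^ 2 := by nlinarith [Int.one_le_abs hY, sq_abs FP.Y]
    push_cast at hsq
    nlinarith [mul_le_mul_of_nonneg_right ht' (sq_nonneg FP.Y), sq_nonneg (FP.Y - 1)]
  rw [hY] at hsq
  have hsum4 : ∑ φ ∈ FP.rest, FP.X φ ^ 2 = 4 := by push_cast at hsq; linarith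
  obtain ⟨ψ, hψ⟩ := FP.exists_mem h2
  have hψv : ∀ b ∈ (Q : Subgroup G), b ≠ 1 → (ψ : G → ℂ) b = 0 :=
    other_vanish h.small (Or.inl ⟨rfl, rfl⟩) P Q FP FQ hcQ hn (by omega) ψ hψ
  have huy : ∀ b ∈ (P : Subgroup G), b ≠ 1 → ¬ IsConj b y := fun b hb hb1 =>
    not_conj_sylow h.small (Or.inl ⟨rfl, rfl⟩) P Q b hb hb1 y hyQ
  have hcoly := FP.col_two (by norm_num) hψ huy
  rw [hψv y hyQ hy1, map_zero, mul_zero, add_zero] at hcoly
  set T := FP.rest.filter fun φ => FP.X φ ≠ 0 with hT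
  have hTsum : ∀ f : Cfsg.IrrCharacter G → ℂ,
      ∑ φ ∈ FP.rest, (FP.X φ : ℂ) * f φ = ∑ φ ∈ T, (FP.X φ : ℂ) * f φ := fun f =>
    (Finset.sum_subset (Finset.filter_subset _ _) fun φ hφ hφ' => by
      have : FP.X φ = 0 := by simpa [T, hφ] using hφ'
      rw [this, Int.cast_zero, zero_mul]).symm
  rw [hTsum] at hcoly
  have hT4 : ∀ φ ∈ T, FP.X φ ^ 2 = 1 := by
    intro φ hφ
    obtain ⟨hφr, hX0⟩ := Finset.mem_filter.1 hφ
    by_contra h1
    have hle := Finset.single_le_sum (f := fun χ => FP.X χ ^ 2) (fun _ _ => sq_nonneg _) hφr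
    rw [hsum4] at hle
    have hb : -2 ≤ FP.X φ ∧ FP.X φ ≤ 2 := by constructor <;> nlinarith
    have hX4 : FP.X φ = 2 ∨ FP.X φ = -2 := by
      obtain ⟨hb1, hb2⟩ := hb
      interval_cases hx : FP.X φ <;> simp_all
    have hsing : T = {φ} := by
      refine Finset.eq_singleton_iff_unique_mem.2 ⟨hφ, fun χ hχ => ?_⟩
      by_contra hne
      obtain ⟨hχr, hχ0⟩ := Finset.mem_filter.1 hχ
      have h2' := Finset.sum_le_sum_of_subset_of_nonneg (f := fun χ => FP.X χ ^ 2)
        (show ({φ, χ} : Finset _) ⊆ FP.rest by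
          simp [Finset.insert_subset_iff, hφr, hχr]) (fun _ _ _ => sq_nonneg _)
      rw [Finset.sum_pair (Ne.symm hne), hsum4] at h2'
      have : 0 < FP.X χ ^ 2 := by positivity
      rcases hX4 with h' | h' <;> rw [h'] at h2' <;> norm_num at h2' <;> omega
    rw [hsing, Finset.sum_singleton] at hcoly
    obtain ⟨m, ρ, -, hρ⟩ := φ.2
    have hint : IsIntegral ℤ (conj ((φ : G → ℂ) y)) := by
      rw [← Char.IsIrrCharacter.apply_inv φ.2, ← hρ]
      exact Char.isIntegral_character ρ _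
    have hhalf : IsIntegral ℤ (((1 : ℕ) : ℂ) / ((2 : ℕ) : ℂ)) := by
      have hval : conj ((φ : G → ℂ) y) = -1 / (FP.X φ : ℂ) := by
        rw [eq_div_iff (by exact_mod_cast hX0)]
        linear_combination hcoly
      rcases hX4 with h' | h' <;> rw [hval, h'] at hint
      · have := hint.neg
        norm_num at this ⊢
        exact this
      · norm_num at hint ⊢
        exact hint
    have := Char.dvd_of_isIntegral_natCast_div (by norm_num) hhalf
    norm_num at this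
  have hTcard : T.card = 4 := by
    have h' : ∑ φ ∈ T, FP.X φ ^ 2 = 4 := by
      rw [← hsum4]
      exact Finset.sum_subset (Finset.filter_subset _ _) fun φ hφ hφ' => by
        have : FP.X φ = 0 := by simpa [T, hφ] using hφ'
        rw [this]; ring
    rw [Finset.sum_congr rfl hT4, Finset.sum_const, nsmul_eq_mul, mul_one] at h'
    exact_mod_cast h'
  -- degrees
  have hTrest : ∀ φ ∈ T, φ ∈ FP.rest := fun φ hφ => (Finset.mem_filter.1 hφ).1
  have ha3 : (3 : ℤ) ∣ (Nat.card (CN.Ab (P : Subgroup G)) : ℤ) := by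
    rw [FP.card_ab, hk]
    exact_mod_cast dvd_pow_self 3 (by omega : k ≠ 0)
  have hR3 : ∀ φ, (3 : ℤ) ∣ (FP.R φ : ℤ) := fun φ => by
    exact_mod_cast FP.dvd_R Nat.prime_three P.2 φ
  have hεε : FP.ε * FP.ε = 1 := by rcases FP.eps with h' | h' <;> simp [h']
  have hF : ∀ φ ∈ T, (3 : ℤ) ∣ FP.X φ * (Char.degree (φ : G → ℂ) : ℤ) - 1 := by
    intro φ hφ
    rw [FP.degZ_off (FP.mem_rest.1 (hTrest φ hφ)).2, show FP.X φ * (FP.X φ +
      (Nat.card (CN.Ab (P : Subgroup G)) : ℤ) * FP.c φ + (FP.R φ : ℤ)) - 1 =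
      FP.X φ * ((Nat.card (CN.Ab (P : Subgroup G)) : ℤ) * FP.c φ + (FP.R φ : ℤ)) +
        (FP.X φ ^ 2 - 1) by ring, hT4 φ hφ, sub_self, add_zero]
    exact (dvd_add (ha3.mul_right _) (hR3 φ)).mul_left _
  have hψ3 : ¬ 3 ∣ Char.degree (ψ : G → ℂ) := by
    intro hd
    have hd' : (3 : ℤ) ∣ (Char.degree (ψ : G → ℂ) : ℤ) := by exact_mod_cast hd
    rw [FP.degZ_E hψ, hY, dvd_add_left (hR3 ψ), dvd_add_left (ha3.mul_right _), mul_zero,
      zero_add] at hd'
    rcases FP.eps with h' | h' <;> rw [h'] at hd' <;> norm_num at hd'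
  have hT3 : ∀ φ ∈ T, ¬ 3 ∣ Char.degree (φ : G → ℂ) := by
    intro φ hφ hd
    have hd' : (3 : ℤ) ∣ (Char.degree (φ : G → ℂ) : ℤ) := by exact_mod_cast hd
    have := dvd_sub (hd'.mul_left (FP.X φ)) (hF φ hφ)
    norm_num at this
  have hshape : ∀ φ : Cfsg.IrrCharacter G, ¬ 3 ∣ Char.degree (φ : G → ℂ) →
      ∃ x z, z ≤ γ ∧ Char.degree (φ : G → ℂ) = 2 ^ x * 5 ^ z := by
    intro φ h3
    obtain ⟨x, y', z, hd, -, hz⟩ := degree_shape h.small S P Q φ
    have hy' : y' = 0 := by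
      by_contra hy'
      exact h3 (by rw [hd]; exact ((dvd_pow_self 3 hy').mul_left _).mul_right _)
    rw [hy', pow_zero, mul_one] at hd
    rw [hγ] at hz
    exact ⟨x, z, (Nat.pow_dvd_pow_iff_le_right (by norm_num)).1 hz, hd⟩
  have h5v : ∀ φ : Cfsg.IrrCharacter G, φ ≠ Char.principalIrr → 5 ∣ Char.degree (φ : G → ℂ) →
      ∀ b ∈ (Q : Subgroup G), b ≠ 1 → (φ : G → ℂ) b = 0 := fun φ hφ hd =>
    (FQ.vanish hcQ (Or.inr rfl) hγ hn hφ hd).2.2
  have h5q : ∀ φ : Cfsg.IrrCharacter G, φ ≠ Char.principalIrr → ¬ 3 ∣ Char.degree (φ : G → ℂ) →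
      5 ∣ Char.degree (φ : G → ℂ) → ∃ x, Char.degree (φ : G → ℂ) = 5 ^ γ * 2 ^ x := by
    intro φ hφ h3 hd
    obtain ⟨x, z, hz, hsh⟩ := hshape φ h3
    refine ⟨x, ?_⟩
    have hq : 5 ^ γ ∣ 2 ^ x * 5 ^ z := hsh ▸ hγ ▸ card_dvd_degree φ (h5v φ hφ hd)
    have hz' : γ ≤ z := (Nat.pow_dvd_pow_iff_le_right (by norm_num)).1
      ((Nat.Coprime.pow _ _ (by norm_num : Nat.Coprime 5 2)).dvd_of_dvd_mul_left hq)
    rw [hsh, show z = γ by omega, mul_comm]
  have horth := FP.orth_two (by norm_num) hψ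
  rw [← Finset.sum_subset (Finset.filter_subset (fun φ => FP.X φ ≠ 0) FP.rest)
    (fun φ hφ hφ' => by
      have : FP.X φ = 0 := by simpa [hφ] using hφ'
      rw [this, zero_mul]), ← hT, Fam.δ, hY, mul_zero, zero_sub, mul_neg_one] at horth
  have hψ1 : ψ ≠ Char.principalIrr := fun h' => FP.one_notMem (h' ▸ hψ)
  -- the five part is at least `5 ^ 3`
  have hγ3 : 3 ≤ γ := by
    by_contra hlt
    have hq25 : 5 ^ γ ≤ 25 :=
      (show 25 = 5 ^ 2 by norm_num) ▸ Nat.pow_le_pow_right (by norm_num) (by omega)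
    obtain ⟨φ, hφT, hodd⟩ | hoddψ : (∃ φ ∈ T, Odd (Char.degree (φ : G → ℂ))) ∨
        Odd (Char.degree (ψ : G → ℂ)) := by
      by_contra hcon
      push Not at hcon
      have h2s : (2 : ℤ) ∣ ∑ φ ∈ T, FP.X φ * (Char.degree (φ : G → ℂ) : ℤ) :=
        Finset.dvd_sum fun φ hφ => (Int.natCast_dvd_natCast.2
          (Nat.not_odd_iff_even.1 (hcon.1 φ hφ)).two_dvd).mul_left _
      have h2d : (2 : ℤ) ∣ -FP.ε * (Char.degree (ψ : G → ℂ) : ℤ) :=
        (Int.natCast_dvd_natCast.2 (Nat.not_odd_iff_even.1 hcon.2).two_dvd).mul_left _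
      omega
    · obtain ⟨x, z, hz, hsh⟩ := hshape φ (hT3 φ hφT)
      have hne1 := (FP.mem_rest.1 (hTrest φ hφT)).1
      have hf2 := two_le_degree h.ne hne1
      have hx : x = 0 := by
        by_contra hx
        exact Nat.not_even_iff_odd.2 hodd (hsh ▸ (Nat.even_pow.2 ⟨even_two, hx⟩).mul_right _)
      subst hx
      rw [pow_zero, one_mul] at hsh
      have hz0 : z ≠ 0 := fun h0 => by rw [hsh, h0, pow_zero] at hf2; omega
      have hm := five_dvd_fixed h.small P Q FP hNP hinv φ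
        (h5v φ hne1 (hsh ▸ dvd_pow_self 5 hz0))
      have hle : Char.degree (φ : G → ℂ) ≤ 25 :=
        hsh ▸ (Nat.pow_le_pow_right (by norm_num) hz).trans hq25
      have hdeg := FP.degZ_off (FP.mem_rest.1 (hTrest φ hφT)).2
      have hR0 : (0 : ℤ) ≤ (FP.R φ : ℤ) := Int.natCast_nonneg _
      have hcX := FP.cX_nonneg φ
      have hc0 := FP.c_nonneg φ
      rcases le_or_gt (FP.c φ) 0 with hc | hc
      · rcases unit_cases (hT4 φ hφT) with h' | h' <;> rw [h'] at hm hcX <;> omega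
      · have := mul_le_mul ha81 (show 1 ≤ FP.c φ by omega) zero_le_one (by positivity)
        rcases unit_cases (hT4 φ hφT) with h' | h' <;> rw [h'] at hdeg <;> omega
    · obtain ⟨x, z, hz, hsh⟩ := hshape ψ hψ3
      have hf2 := two_le_degree h.ne hψ1
      have hx : x = 0 := by
        by_contra hx
        exact Nat.not_even_iff_odd.2 hoddψ (hsh ▸ (Nat.even_pow.2 ⟨even_two, hx⟩).mul_right _)
      subst hx
      rw [pow_zero, one_mul] at hsh
      have hz0 : z ≠ 0 := fun h0 => by rw [hsh, h0, pow_zero] at hf2; omega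
      have hz2 : z = 1 ∨ z = 2 := by omega
      have hm := five_dvd_fixed h.small P Q FP hNP hinv ψ hψv
      rw [FP.X_E ψ hψ, hY, mul_zero, add_zero] at hm
      have hdeg := FP.degZ_E hψ
      rw [hY, mul_zero, zero_add, hsh] at hdeg
      have hc0 := FP.c_nonneg ψ
      have hR0 : (0 : ℤ) ≤ (FP.R ψ : ℤ) := Int.natCast_nonneg _
      have hcz : FP.c ψ = 0 := by
        by_contra hc
        have := mul_le_mul ha81 (show 5 ≤ FP.c ψ by omega) (by norm_num) (by positivity)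
        rcases FP.eps with h' | h' <;> rw [h'] at hdeg <;> rcases hz2 with rfl | rfl <;>
          norm_num at hdeg this <;> omega
      have hε : FP.ε = 1 := by
        rcases FP.eps with h' | h'
        · exact h'
        · have := FP.one_le_c h' ψ hψ; omega
      rw [hcz, hε, mul_zero, add_zero, one_mul] at hdeg
      have hR := hR3 ψ
      obtain rfl : z = 1 := by
        rcases hz2 with rfl | rfl
        · rfl
        · norm_num at hdeg; omega
      have hR0' : FP.R ψ = 0 := by norm_num at hdeg; omega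
      have hc : ∀ a ∈ (P : Subgroup G), ∀ b ∈ (P : Subgroup G), a * b = b * a := by
        intro a ha b hb
        open commutatorElement in
        have hcm : ⁅(⟨a, ha⟩ : (P : Subgroup G)), ⟨b, hb⟩⁆ ∈ commutator (P : Subgroup G) := by
          rw [commutator_def]
          exact Subgroup.commutator_mem_commutator (Subgroup.mem_top _) (Subgroup.mem_top _)
        have hv := FP.comm_of_R ψ hR0' _ hcm
        by_contra hne
        open commutatorElement in
        refine norm_apply_ne h.ne hψ1 (g := ((⁅(⟨a, ha⟩ : (P : Subgroup G)), ⟨b, hb⟩⁆ :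
          (P : Subgroup G)) : G)) (fun he => hne ?_) ?_
        · open commutatorElement in
          have he' : a * b * a⁻¹ * b⁻¹ = 1 := by simpa [commutatorElement_def] using he
          calc a * b = a * b * a⁻¹ * b⁻¹ * (b * a) := by group
            _ = b * a := by rw [he', one_mul]
        · rw [hv, ← Char.IsCharacter.degree_cast (Char.IsIrrCharacter.isCharacter ψ.2),
            Complex.norm_natCast]
      have h81d : (81 : ℤ) ∣ (Nat.card (P : Subgroup G) : ℤ) := by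
        rw [FP.card_comm hc, hk]
        exact_mod_cast (show 81 = 3 ^ 4 by norm_num) ▸ pow_dvd_pow 3 hk4
      have h8 : (8 : ℤ) ∣ ∑ φ ∈ T, FP.X φ * (Char.degree (φ : G → ℂ) : ℤ) := by
        refine Finset.dvd_sum fun φ hφ => Dvd.dvd.mul_left ?_ _
        obtain ⟨x, z, hz, hsh'⟩ := hshape φ (hT3 φ hφ)
        rcases le_or_gt 3 x with hx | hx
        · exact Int.natCast_dvd_natCast.2
            (hsh' ▸ ((show 8 = 2 ^ 3 by norm_num) ▸ pow_dvd_pow 2 hx).mul_right _)
        · exfalso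
          have hdd : (81 : ℤ) ∣ (Char.degree (φ : G → ℂ) : ℤ) - FP.X φ := by
            rw [FP.degC_off hc (FP.mem_rest.1 (hTrest φ hφ)).2, add_sub_cancel_left]
            exact h81d.mul_right _
          have hle : Char.degree (φ : G → ℂ) ≤ 100 := by
            rw [hsh']
            exact Nat.mul_le_mul (Nat.pow_le_pow_right (by norm_num) (show x ≤ 2 by omega))
              ((Nat.pow_le_pow_right (by norm_num) hz).trans hq25)
          have hf2' := two_le_degree h.ne (FP.mem_rest.1 (hTrest φ hφ)).1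
          rw [hsh'] at hdd hle hf2'
          have hz2' : z ≤ 2 := by omega
          rcases unit_cases (hT4 φ hφ) with h' | h' <;> rw [h'] at hdd <;> interval_cases x <;>
            interval_cases z <;> revert hdd hf2' <;> norm_num
      rw [hsh, hε] at horth
      norm_num at horth
      omega
  -- the shared characters
  set H := 2 * 5 ^ (γ - 1) with hH
  have hshared : ∀ φ ∈ T, ¬ 5 ∣ Char.degree (φ : G → ℂ) →
      (2 : ℤ) ^ H ∣ (Char.degree (φ : G → ℂ) : ℤ) := by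
    intro φ hφ h5
    obtain ⟨hφ1, hφE⟩ := FP.mem_rest.1 (hTrest φ hφ)
    obtain ⟨x, z, -, hsh⟩ := hshape φ (hT3 φ hφ)
    have hz : z = 0 := by
      by_contra hz
      exact h5 (hsh ▸ (dvd_pow_self 5 hz).mul_left _)
    subst hz
    rw [pow_zero, mul_one] at hsh
    have hq125 : 125 ≤ 5 ^ γ :=
      (show 125 = 5 ^ 3 by norm_num) ▸ Nat.pow_le_pow_right (by norm_num) hγ3
    have hnotEQ : φ ∉ FQ.E := by
      intro hEQ
      have hsub : FQ.E ⊆ T := by
        intro χ hχ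
        have hχE := notMem_other h.small (Or.inr ⟨rfl, rfl⟩) Q P FQ FP χ hχ
        refine Finset.mem_filter.2 ⟨FP.mem_rest.2 ⟨fun he => FQ.one_notMem (he ▸ hχ), hχE⟩, ?_⟩
        obtain ⟨q, hq⟩ := FP.exists_ab_ne_one (by norm_num)
        have hsame : CN.fibSum (P : Subgroup G) (χ : G → ℂ) q =
            CN.fibSum (P : Subgroup G) (φ : G → ℂ) q := Finset.sum_congr rfl fun b _ =>
          other_apply h.small (Or.inr ⟨rfl, rfl⟩) Q P FQ hχ hEQ b.2
        rw [FP.off χ hχE q hq, FP.off φ hφE q hq] at hsame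
        have hXeq : FP.X χ = FP.X φ := by
          exact_mod_cast mul_left_cancel₀ (Nat.cast_ne_zero.2
            (Nat.card_pos (α := commutator (P : Subgroup G))).ne') hsame
        rw [hXeq]
        exact (Finset.mem_filter.1 hφ).2
      have hle := Finset.card_le_card hsub
      rw [hTcard, FQ.card_E (FQ.t_of_mem hEQ)] at hle
      have : n * FQ.t ≤ 8 * 4 := Nat.mul_le_mul (by omega) hle
      omega
    have hX2 : FQ.X φ ^ 2 ≤ 8 := (FQ.X_sq_le (FQ.mem_rest.2 ⟨hφ1, hnotEQ⟩)).trans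
      (by rcases hn with rfl | rfl <;> norm_num)
    have hb : -2 ≤ FQ.X φ ∧ FQ.X φ ≤ 2 := by constructor <;> nlinarith
    have hdeg := FQ.degC_off hcQ hnotEQ
    rw [hsh, hγ] at hdeg
    push_cast at hdeg
    have hdvd : (5 : ℤ) ^ γ ∣ (2 : ℤ) ^ x - FQ.X φ := ⟨FQ.c φ, by linear_combination hdeg⟩
    have hX0 : FQ.X φ ≠ 0 := by
      intro h0
      rw [h0, sub_zero] at hdvd
      have h5' : (5 : ℤ) ∣ (2 : ℤ) ^ x := (dvd_pow_self 5 (by omega : γ ≠ 0)).trans hdvd
      exact h5 (hsh ▸ by exact_mod_cast h5')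
    obtain ⟨γ', rfl⟩ : ∃ γ', γ = γ' + 1 := ⟨γ - 1, by omega⟩
    have hx1 : x ≠ 1 ∧ x ≠ 0 := by
      constructor <;> rintro rfl
      · have hd2 := hF φ hφ
        rw [hsh] at hd2
        have hσ : FP.X φ = -1 := by
          rcases unit_cases (hT4 φ hφ) with h' | h'
          · rw [h'] at hd2; norm_num at hd2
          · exact h'
        have hd3 := FP.degZ_off hφE
        rw [hsh, hσ] at hd3
        have hc1 : 1 ≤ FP.c φ := by
          have := FP.cX_nonneg φ
          rw [hσ] at this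
          omega
        have := mul_le_mul ha81 hc1 zero_le_one (by positivity)
        have hR0 : (0 : ℤ) ≤ (FP.R φ : ℤ) := Int.natCast_nonneg _
        norm_num at hd3 this
        omega
      · have := two_le_degree h.ne hφ1
        rw [hsh, pow_zero] at this
        omega
    have hsq4 : ∀ j : ℕ, ∀ σ : ℤ, σ = 1 ∨ σ = -1 → (5 : ℤ) ^ (γ' + 1) ∣ (2 : ℤ) ^ j - σ →
        2 * 5 ^ γ' ∣ j := by
      intro j σ hσ hd
      refine Arith.dvd_of_four_pow γ' j ?_
      have : (4 : ℤ) ^ j - 1 = ((2 : ℤ) ^ j - σ) * ((2 : ℤ) ^ j + σ) := by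
        rw [show (4 : ℤ) = 2 * 2 by norm_num, mul_pow]
        rcases hσ with rfl | rfl <;> ring
      rw [this]
      exact hd.mul_right _
    have hle : H ≤ x := by
      rw [hH, Nat.add_sub_cancel]
      obtain ⟨hb1, hb2⟩ := hb
      have hcop : IsCoprime ((5 : ℤ) ^ (γ' + 1)) 2 := IsCoprime.pow_left ⟨1, -2, by norm_num⟩
      have hcase : FQ.X φ = 1 ∨ FQ.X φ = -1 ∨ FQ.X φ = 2 ∨ FQ.X φ = -2 := by omega
      have hx' : (2 : ℤ) ^ x = 2 * 2 ^ (x - 1) := by
        rw [← pow_succ', show x - 1 + 1 = x by omega]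
      rcases hcase with h' | h' | h' | h' <;> rw [h'] at hdvd
      · exact Nat.le_of_dvd (by omega) (hsq4 x 1 (Or.inl rfl) hdvd)
      · exact Nat.le_of_dvd (by omega) (hsq4 x (-1) (Or.inr rfl) hdvd)
      · rw [hx', show (2 : ℤ) * 2 ^ (x - 1) - 2 = 2 * (2 ^ (x - 1) - 1) by ring] at hdvd
        exact (Nat.le_of_dvd (by omega) (hsq4 (x - 1) 1 (Or.inl rfl)
          (hcop.dvd_of_dvd_mul_left hdvd))).trans (Nat.sub_le _ _)
      · rw [hx', show (2 : ℤ) * 2 ^ (x - 1) - -2 = 2 * (2 ^ (x - 1) - -1) by ring] at hdvd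
        exact (Nat.le_of_dvd (by omega) (hsq4 (x - 1) (-1) (Or.inr rfl)
          (hcop.dvd_of_dvd_mul_left hdvd))).trans (Nat.sub_le _ _)
    rw [hsh]
    push_cast
    exact pow_dvd_pow 2 hle
  obtain ⟨φ₀, hφ₀, hφ₀5⟩ : ∃ φ ∈ T, ¬ 5 ∣ Char.degree (φ : G → ℂ) := by
    by_contra hcon
    push Not at hcon
    rw [Finset.sum_eq_zero fun φ hφ => by
      rw [h5v φ (FP.mem_rest.1 (hTrest φ hφ)).1 (hcon φ hφ) y hyQ hy1, map_zero, mul_zero],
      add_zero] at hcoly
    exact one_ne_zero hcoly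
  -- the final equation
  set U := T.filter fun φ : Cfsg.IrrCharacter G => 5 ∣ Char.degree (φ : G → ℂ) with hU
  have hψ5 : 5 ∣ Char.degree (ψ : G → ℂ) :=
    (dvd_pow_self 5 (by omega : γ ≠ 0)).trans (hγ ▸ card_dvd_degree ψ hψv)
  have hψU : ψ ∉ U := fun hm =>
    (FP.mem_rest.1 (hTrest ψ (Finset.mem_filter.1 hm).1)).2 hψ
  let e : Cfsg.IrrCharacter G → ℕ := fun φ =>
    if hφ : ∃ x, Char.degree (φ : G → ℂ) = 5 ^ γ * 2 ^ x then hφ.choose else 0
  have he : ∀ φ : Cfsg.IrrCharacter G, φ ≠ Char.principalIrr → ¬ 3 ∣ Char.degree (φ : G → ℂ) →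
      5 ∣ Char.degree (φ : G → ℂ) →
      (Char.degree (φ : G → ℂ) : ℤ) = (5 : ℤ) ^ γ * 2 ^ e φ := by
    intro φ h1 h3 h5
    have hex := h5q φ h1 h3 h5
    simp only [e, dif_pos hex]
    exact_mod_cast hex.choose_spec
  let σ : Cfsg.IrrCharacter G → ℤ := fun φ => if φ = ψ then -FP.ε else FP.X φ
  have hsumU : ((5 ^ γ : ℕ) : ℤ) * ∑ φ ∈ insert ψ U, σ φ * 2 ^ e φ =
      -FP.ε * (Char.degree (ψ : G → ℂ) : ℤ) +
        ∑ φ ∈ U, FP.X φ * (Char.degree (φ : G → ℂ) : ℤ) := by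
    rw [Finset.sum_insert hψU, mul_add, Finset.mul_sum, he ψ hψ1 hψ3 hψ5]
    push_cast
    congr 1
    · simp only [σ, if_true]; ring
    · refine Finset.sum_congr rfl fun φ hφ => ?_
      obtain ⟨hφT, hφ5⟩ := Finset.mem_filter.1 hφ
      simp only [σ, if_neg (show φ ≠ ψ from fun he' => hψU (he' ▸ hφ))]
      rw [he φ (FP.mem_rest.1 (hTrest φ hφT)).1 (hT3 φ hφT) hφ5]
      ring
  have hdvd : (2 : ℤ) ^ H ∣ 1 + ((5 ^ γ : ℕ) : ℤ) * ∑ φ ∈ insert ψ U, σ φ * 2 ^ e φ := by
    have hrest : (2 : ℤ) ^ H ∣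
        ∑ φ ∈ T.filter (fun φ : Cfsg.IrrCharacter G => ¬ 5 ∣ Char.degree (φ : G → ℂ)),
          FP.X φ * (Char.degree (φ : G → ℂ) : ℤ) :=
      Finset.dvd_sum fun φ hφ =>
        (hshared φ (Finset.mem_filter.1 hφ).1 (Finset.mem_filter.1 hφ).2).mul_left _
    have hsplit := Finset.sum_filter_add_sum_filter_not T
      (fun φ : Cfsg.IrrCharacter G => 5 ∣ Char.degree (φ : G → ℂ)) (fun φ => FP.X φ * (Char.degree (φ : G → ℂ) : ℤ))
    rw [← hU] at hsplit
    rw [hsumU, show 1 + (-FP.ε * (Char.degree (ψ : G → ℂ) : ℤ) +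
      ∑ φ ∈ U, FP.X φ * (Char.degree (φ : G → ℂ) : ℤ)) =
      -∑ φ ∈ T.filter (fun φ : Cfsg.IrrCharacter G => ¬ 5 ∣ Char.degree (φ : G → ℂ)),
        FP.X φ * (Char.degree (φ : G → ℂ) : ℤ) by linarith [hsplit, horth]]
    exact hrest.neg_right
  have hcard : (insert ψ U).card ≤ 4 := by
    have hlt : U.card < T.card := Finset.card_lt_card
      ((Finset.ssubset_iff_of_subset (Finset.filter_subset _ _)).2
        ⟨φ₀, hφ₀, fun hm => hφ₀5 (Finset.mem_filter.1 hm).2⟩)
    rw [Finset.card_insert_of_notMem hψU]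
    omega
  have hbig := Arith.two_pow_le_of_dvd (insert ψ U) e σ (5 ^ γ)
    (le_trans (by norm_num : 2 ≤ 5 ^ 1) (Nat.pow_le_pow_right (by norm_num) hγ1))
    (fun φ hφ => by
      by_cases hφψ : φ = ψ
      · simp only [σ, if_pos hφψ, abs_neg]
        rcases FP.eps with h' | h' <;> simp [h']
      · simp only [σ, if_neg hφψ]
        have hφU := (Finset.mem_insert.1 hφ).resolve_left hφψ
        rcases unit_cases (hT4 φ (Finset.mem_filter.1 hφU).1) with h' | h' <;> simp [h'])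
    H 1 (fun hd => by
      have h1 := Int.le_of_dvd one_pos hd
      have h5 : 5 ^ 1 ≤ 5 ^ γ := Nat.pow_le_pow_right (by norm_num) hγ1
      omega) hdvd
  rw [abs_one, one_mul] at hbig
  obtain ⟨γ', rfl⟩ : ∃ γ', γ = γ' + 3 := ⟨γ - 3, by omega⟩
  have hbig' : 2 ^ H ≤ (1 + 5 ^ (γ' + 3)) ^ (insert ψ U).card := by exact_mod_cast hbig
  have hmono : (1 + 5 ^ (γ' + 3)) ^ (insert ψ U).card ≤ 2 ^ (12 * (γ' + 3)) := by
    refine (Nat.pow_le_pow_right (by omega) hcard).trans ?_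
    refine (Nat.pow_le_pow_left (show 1 + 5 ^ (γ' + 3) ≤ 8 ^ (γ' + 3) by
      have := Arith.five_pow_succ_le (γ' + 2)
      rw [show γ' + 3 = (γ' + 2) + 1 by omega, pow_succ, pow_succ]
      rw [pow_succ, pow_succ] at *
      omega) 4).trans_eq ?_
    rw [show (8 : ℕ) = 2 ^ 3 by norm_num, ← pow_mul, ← pow_mul]
    congr 1
    ring
  have hexp : H ≤ 12 * (γ' + 3) :=
    (Nat.pow_le_pow_iff_right (by norm_num)).1 (hbig'.trans hmono)
  have := Arith.growth γ'
  rw [hH, show γ' + 3 - 1 = γ' + 2 by omega] at hexp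
  omega

end CfsgLib.SpecFive
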