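import Cfsg.Agent.Lib.SpecFive.Sides
import Cfsg.Agent.Lib.CharDeep.ClassSum

/-!
# A Sylow subgroup of index two in its normalizer
-/

set_option autoImplicit false
set_option linter.style.haveILetI false
set_option linter.unusedSectionVars false

open scoped ComplexConjugate

namespace CfsgLib.SpecFive

universe u

variable {G : Type u} [Group G] [Fintype G]

/-- The pairs of conjugates of an involution with product in `A`. -/
theorem card_pairs_eq [DecidableEq G] (hs : Small G) {l m : ℕ} (hl : Pair35 l m) (A : Sylow l G)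
    (hA : CA.SelfCent (A : Subgroup G))
    (hn : 2 * Nat.card (A : Subgroup G) =
      Nat.card (Subgroup.normalizer ((A : Subgroup G) : Set G)))
    {z : G} (hz : orderOf z = 2) [DecidablePred (IsConj z)] {b : G} (hb : b ∈ (A : Subgroup G))
    (hb1 : b ≠ 1) :
    ((Finset.univ.filter (IsConj z) ×ˢ Finset.univ.filter (IsConj z)).filter
      (fun p => p.1 * p.2 = b)).card = 0 ∨
    ((Finset.univ.filter (IsConj z) ×ˢ Finset.univ.filter (IsConj z)).filter
      (fun p => p.1 * p.2 = b)).card = Nat.card (A : Subgroup G) := by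
  classical
  have hinvol : ∀ {u : G}, IsConj z u → orderOf u = 2 := fun {u} h => by
    obtain ⟨g, rfl⟩ := isConj_iff.1 h
    rw [Invol.orderOf_conj, hz]
  have hinv : ∀ {u v : G}, IsConj z u → IsConj z v → u * v = b →
      u ∈ Subgroup.normalizer ((A : Subgroup G) : Set G) := by
    intro u v hu hv h
    refine hA.mem_normalizer_of_conj_mem hb hb1 ?_
    rw [← h, Invol.conj_prod (Invol.mul_self_eq_one (hinvol hu)) (Invol.mul_self_eq_one (hinvol hv)),
      h]
    exact inv_mem hb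
  rcases Finset.eq_empty_or_nonempty ((Finset.univ.filter (IsConj z) ×ˢ
      Finset.univ.filter (IsConj z)).filter (fun p => p.1 * p.2 = b)) with he | ⟨⟨u, v⟩, huv⟩
  · exact Or.inl (by rw [he, Finset.card_empty])
  right
  simp only [Finset.mem_filter, Finset.mem_product, Finset.mem_univ, true_and] at huv
  obtain ⟨⟨hu, hv⟩, huv⟩ := huv
  have huN := hinv hu hv huv
  have hu2 := hinvol hu
  obtain ⟨hinverts, -⟩ := inverts hs hl A.2 hu2 huN
  set N : Subgroup G := Subgroup.normalizer ((A : Subgroup G) : Set G) with hN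
  have hidx : ((A : Subgroup G).subgroupOf N).index = 2 := by
    have h := Subgroup.card_mul_index ((A : Subgroup G).subgroupOf N)
    rw [Nat.card_congr (Subgroup.subgroupOfEquivOfLe (H := (A : Subgroup G)) (K := N)
      Subgroup.le_normalizer).toEquiv, ← hn, mul_comm] at h
    exact Nat.eq_of_mul_eq_mul_right Nat.card_pos h
  have hout : ∀ {w : G}, orderOf w = 2 → w ∉ (A : Subgroup G) := fun {w} hw hwA => by
    have := orderOf_eq_of_mem hs hl A.2 hwA (Invol.ne_one_of_invol hw)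
    rw [hw] at this
    rcases hl with ⟨rfl, -⟩ | ⟨rfl, -⟩ <;> omega
  have hcoset : ∀ {w : G}, orderOf w = 2 → w ∈ N → w * u ∈ (A : Subgroup G) := by
    intro w hw hwN
    have h := Subgroup.mul_mem_iff_of_index_two hidx (a := ⟨w, hwN⟩) (b := ⟨u, huN⟩)
    simp only [Subgroup.mem_subgroupOf, Subgroup.coe_mul] at h
    exact h.2 ⟨fun h' => absurd h' (hout hw), fun h' => absurd h' (hout hu2)⟩
  obtain ⟨e, he⟩ : ∃ e, l = 2 * e + 1 := by
    rcases hl with ⟨rfl, -⟩ | ⟨rfl, -⟩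
    · exact ⟨1, rfl⟩
    · exact ⟨2, rfl⟩
  have hconj : ∀ a : (A : Subgroup G), IsConj z ((a : G) * u) := by
    intro a
    refine hu.trans (isConj_iff.2 ⟨(a : G) ^ (e + 1), ?_⟩)
    have hal : (a : G) ^ l = 1 := pow_eq_one_of_isPGroup hs hl A.2 a.2
    have hk : u * ((a : G) ^ (e + 1))⁻¹ * u⁻¹ = (a : G) ^ (e + 1) := by
      rw [hinverts _ (inv_mem (pow_mem a.2 _)), inv_inv]
    calc (a : G) ^ (e + 1) * u * ((a : G) ^ (e + 1))⁻¹
        = (a : G) ^ (e + 1) * (u * ((a : G) ^ (e + 1))⁻¹ * u⁻¹) * u := by group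
      _ = (a : G) * u := by
        rw [hk, ← pow_add, show e + 1 + (e + 1) = l + 1 by omega, pow_succ, hal, one_mul]
  rw [Nat.card_eq_fintype_card, ← Finset.card_univ]
  symm
  refine Finset.card_bij (fun a _ => ((a : G) * u, (a : G) * u * b)) ?_ ?_ ?_
  · intro a _
    simp only [Finset.mem_filter, Finset.mem_product, Finset.mem_univ, true_and]
    refine ⟨⟨hconj a, ?_⟩, ?_⟩
    · have hub : u * b = b⁻¹ * u := mul_inv_eq_iff_eq_mul.1 (hinverts b hb)
      rw [mul_assoc, hub, ← mul_assoc]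
      exact hconj ⟨(a : G) * b⁻¹, mul_mem a.2 (inv_mem hb)⟩
    · rw [← mul_assoc, Invol.mul_self_eq_one (hinvol (hconj a)), one_mul]
  · intro a _ a' _ h
    exact Subtype.ext (mul_right_cancel (congrArg Prod.fst h))
  · rintro ⟨u', v'⟩ hp
    simp only [Finset.mem_filter, Finset.mem_product, Finset.mem_univ, true_and] at hp
    obtain ⟨⟨hu', hv'⟩, h⟩ := hp
    refine ⟨⟨u' * u, hcoset (hinvol hu') (hinv hu' hv' h)⟩, Finset.mem_univ _, ?_⟩
    have h1 : u' * u * u = u' := by rw [mul_assoc, Invol.mul_self_eq_one hu2, mul_one]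
    simp only [h1]
    refine Prod.ext rfl ?_
    rw [← h, ← mul_assoc, Invol.mul_self_eq_one (hinvol hu'), one_mul]

variable [IsSimpleGroup G]

/-- The values of the characters on a Sylow subgroup of index two in its normalizer. -/
theorem two_data (hl : ∃ l m, Pair35 l m) {A : Subgroup G} [Fintype A]
    (hc : ∀ x ∈ A, ∀ y ∈ A, x * y = y * x) {l k : ℕ} (hlk : Nat.card A = l ^ k)
    (hl35 : l = 3 ∨ l = 5) (F : Fam A 2) :
    ∃ (φ ψ : Cfsg.IrrCharacter G) (Ψ : Finset (Cfsg.IrrCharacter G)) (X δ : ℤ),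
      φ ≠ Char.principalIrr ∧ ψ ≠ Char.principalIrr ∧ φ ∉ Ψ ∧ Char.principalIrr ∉ Ψ ∧ ψ ∈ Ψ ∧
      X ^ 2 = 1 ∧ δ ^ 2 = 1 ∧
      ((Nat.card A : ℤ) ∣ X * (Char.degree (φ : G → ℂ) : ℤ) - 1) ∧
      (∀ b ∈ A, b ≠ 1 → (φ : G → ℂ) b = (X : ℂ) ∧ ∑ χ ∈ Ψ, (χ : G → ℂ) b = (δ : ℂ) ∧
        ∀ χ : Cfsg.IrrCharacter G, χ ≠ Char.principalIrr → χ ≠ φ → χ ∉ Ψ →
          (χ : G → ℂ) b = 0) ∧
      ∀ χ ∈ Ψ, ∀ u : G, (∀ b ∈ A, b ≠ 1 → ¬ IsConj b u) → (χ : G → ℂ) u = (ψ : G → ℂ) u := by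
  classical
  have hcard := F.card_comm hc
  rcases F.t_cases with h1 | h2
  · have hsum := F.sum_sq_one' h1
    obtain ⟨φ, hφ, ψ, hψ, hne, hX, hX', hrest⟩ := exists_pair F.rest F.X (by simpa using hsum)
    have hE : ∀ χ : Cfsg.IrrCharacter G, χ ∉ F.E := fun χ => by rw [F.E_empty h1]; simp
    refine ⟨φ, ψ, {ψ}, F.X φ, F.X ψ, (F.mem_rest.1 hφ).1, (F.mem_rest.1 hψ).1,
      by simpa using hne.symm, by simpa using (F.mem_rest.1 hψ).1.symm, by simp, hX, hX', ?_, ?_, ?_⟩
    · rw [F.degC_off hc (hE φ), mul_add, ← sq, hX, add_sub_cancel_left]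
      exact Dvd.dvd.mul_left (dvd_mul_right _ _) _
    · intro b hb hb1
      refine ⟨F.off_apply hc (hE φ) hb hb1, ?_, fun χ hχ1 hχφ hχψ => ?_⟩
      · rw [Finset.sum_singleton, F.off_apply hc (hE ψ) hb hb1]
      · rw [F.off_apply hc (hE χ) hb hb1, hrest χ (F.mem_rest.2 ⟨hχ1, hE χ⟩) hχφ (by simpa using hχψ),
          Int.cast_zero]
    · intro χ hχ u _
      rw [Finset.mem_singleton.1 hχ]
  · have hsq := F.sum_sq_two h2
    have hnn : 0 ≤ ∑ χ ∈ F.rest, F.X χ ^ 2 := Finset.sum_nonneg fun _ _ => sq_nonneg _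
    have hge := tY_nonneg h2 F.Y
    have hzero : (F.t : ℤ) * F.Y ^ 2 - 2 * F.Y = 0 := by
      by_contra hne
      have h1 : (F.t : ℤ) * F.Y ^ 2 - 2 * F.Y = 1 := by push_cast at hsq; omega
      have ht : (2 : ℤ) ≤ (F.t : ℤ) := by exact_mod_cast h2
      have hY : F.Y = 1 ∨ F.Y = -1 := Int.isUnit_iff.1
        (isUnit_of_dvd_one ⟨(F.t : ℤ) * F.Y - 2, by linear_combination -h1⟩)
      rcases hY with hY | hY <;> rw [hY] at h1
      · have ht3 : F.t = 3 := by
          have : (F.t : ℤ) = 3 := by linarith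
          exact_mod_cast this
        rw [ht3, hlk] at hcard
        rcases k with _ | k
        · norm_num at hcard
        · have : l ∣ 7 := ⟨l ^ k, by rw [← pow_succ']; omega⟩
          rcases hl35 with rfl | rfl <;> norm_num at this
      · linarith
    obtain ⟨φ, hφ, hX, hrest⟩ := exists_single F.rest F.X (by push_cast at hsq; omega)
    obtain ⟨ψ, hψ⟩ := F.exists_mem h2
    have hφE := (F.mem_rest.1 hφ).2
    have hδ : F.δ ^ 2 = 1 := by
      have : ((F.t : ℤ) * F.Y - 1) ^ 2 = 1 := by linear_combination (F.t : ℤ) * hzero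
      rw [Fam.δ, mul_pow, this, mul_one]
      rcases F.eps with h | h <;> rw [h] <;> rfl
    refine ⟨φ, ψ, F.E, F.X φ, F.δ, (F.mem_rest.1 hφ).1, fun h => F.one_notMem (h ▸ hψ), hφE,
      F.one_notMem, hψ, hX, hδ, ?_, ?_, ?_⟩
    · rw [F.degC_off hc hφE, mul_add, ← sq, hX, add_sub_cancel_left]
      exact Dvd.dvd.mul_left (dvd_mul_right _ _) _
    · intro b hb hb1
      refine ⟨F.off_apply hc hφE hb hb1, F.sum_E_apply hc h2 hb hb1, fun χ hχ1 hχφ hχE => ?_⟩
      rw [F.off_apply hc hχE hb hb1, hrest χ (F.mem_rest.2 ⟨hχ1, hχE⟩) hχφ, Int.cast_zero]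
    · intro χ hχ u hu
      exact F.E_eq χ hχ ψ hψ u fun y hy => by
        by_contra hne
        exact hu _ hy hne (isConj_iff.2 ⟨y, by simp [mul_assoc]⟩)

/-- The order when some Sylow subgroup for an odd prime has index two in its normalizer. -/
theorem card_of_two (h : Ctx G) {l m : ℕ} (hl : Pair35 l m) (A : Sylow l G) (B : Sylow m G)
    (S : Sylow 2 G) (hA : CA.SelfCent (A : Subgroup G))
    (hcard : Nat.card G =
      Nat.card (S : Subgroup G) * Nat.card (A : Subgroup G) * Nat.card (B : Subgroup G))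
    (hn : 2 * Nat.card (A : Subgroup G) =
      Nat.card (Subgroup.normalizer ((A : Subgroup G) : Set G)))
    (hdA : l ∣ Nat.card G) (hdB : m ∣ Nat.card G) :
    Nat.card G = 60 ∨ Nat.card G = 360 := by
  classical
  haveI := Fact.mk Nat.prime_two
  haveI := Fact.mk hl.prime
  haveI := Fact.mk hl.symm.prime
  haveI := Fintype.ofFinite (CN.Ab (A : Subgroup G))
  obtain ⟨F⟩ := exists_fam (nilCent h.small hl A hdA) hn
  have hc : ∀ x ∈ (A : Subgroup G), ∀ y ∈ (A : Subgroup G), x * y = y * x :=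
    fun x hx y hy => hA.comm hx hy
  obtain ⟨k, hk⟩ := A.2.exists_card_eq
  obtain ⟨j, hj⟩ := B.2.exists_card_eq
  obtain ⟨w, hw⟩ := S.2.exists_card_eq
  have hl35 : l = 3 ∨ l = 5 := by
    rcases hl with h' | h'
    · exact Or.inl h'.1
    · exact Or.inr h'.1
  obtain ⟨φ, ψ, Ψ, X, δ, hφ1, hψ1, hφΨ, hoΨ, hψΨ, hX, hδ, hmod, hval, hequal⟩ :=
    two_data ⟨l, m, hl⟩ hc hk hl35 F
  obtain ⟨b, hb, hb1⟩ := hA.exists_ne_one
  set f := Char.degree (φ : G → ℂ) with hf
  set D := Char.degree (ψ : G → ℂ) with hD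
  have hcol : ∀ u : G, (∀ b ∈ (A : Subgroup G), b ≠ 1 → ¬ IsConj b u) →
      1 + (X : ℂ) * conj ((φ : G → ℂ) u) + (δ : ℂ) * conj ((ψ : G → ℂ) u) = 0 := by
    intro u hu
    obtain ⟨h1, h2, h3⟩ := hval b hb hb1
    have hsum := Char.sum_mul_conj b u
    rw [if_neg (hu b hb hb1)] at hsum
    rw [← Finset.sum_subset (Finset.subset_univ (insert Char.principalIrr (insert φ Ψ))) ?_,
      Finset.sum_insert (by simp [hφ1.symm, hoΨ]), Finset.sum_insert hφΨ,
      Char.principalIrr_apply, Char.principalIrr_apply, map_one, one_mul, h1,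
      Finset.sum_congr rfl (fun χ hχ => by rw [hequal χ hχ u hu]), ← Finset.sum_mul, h2,
      ← add_assoc] at hsum
    · exact hsum
    · intro χ _ hχ
      simp only [Finset.mem_insert, not_or] at hχ
      rw [h3 χ hχ.1 hχ.2.1 hχ.2.2, zero_mul]
  have hcast : ∀ χ : Cfsg.IrrCharacter G, (χ : G → ℂ) 1 = (Char.degree (χ : G → ℂ) : ℂ) :=
    fun χ => (Char.IsCharacter.degree_cast (Char.IsIrrCharacter.isCharacter χ.2)).symm
  have horth : 1 + X * (f : ℤ) + δ * (D : ℤ) = 0 := by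
    have h1 := hcol 1 fun b' _ hb' hc' => hb' (isConj_one_left.1 hc')
    rw [hcast, hcast, map_natCast, map_natCast] at h1
    exact_mod_cast h1
  set Fv : ℤ := X * (f : ℤ) with hFv
  have habsF : Fv.natAbs = f := by
    rcases unit_cases hX with h' | h' <;> simp [hFv, h']
  have habsD : (Fv + 1).natAbs = D := by
    rw [show Fv + 1 = -(δ * (D : ℤ)) by rw [hFv]; linarith]
    rcases unit_cases hδ with h' | h' <;> simp [h']
  -- the primes of the two degrees
  have hlA : (l : ℤ) ∣ (Nat.card (A : Subgroup G) : ℤ) := by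
    obtain ⟨a, ha, ha1⟩ := hA.exists_ne_one
    have h1 := Subgroup.orderOf_dvd_natCard (A : Subgroup G) ha
    rw [orderOf_eq_of_mem h.small hl A.2 ha ha1] at h1
    exact_mod_cast h1
  have hnot : ¬ (l : ℤ) ∣ Fv ∧ ¬ (l : ℤ) ∣ Fv + 1 := by
    have h1 : (l : ℤ) ∣ Fv - 1 := hlA.trans hmod
    constructor <;> intro h2
    · have := dvd_sub h2 h1
      simp at this
      rcases hl35 with rfl | rfl <;> norm_num at this
    · have := dvd_sub h2 h1
      simp at this
      rcases hl35 with rfl | rfl <;> norm_num at this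
  have hsup : ∀ χ : Cfsg.IrrCharacter G, ¬ l ∣ Char.degree (χ : G → ℂ) →
      ∀ r, r.Prime → r ∣ Char.degree (χ : G → ℂ) → r = 2 ∨ r = m := by
    intro χ hχ r hr hrd
    have hrl : r ≠ l := fun h' => hχ (h' ▸ hrd)
    rcases hl with ⟨rfl, rfl⟩ | ⟨rfl, rfl⟩ <;>
      rcases prime_cases h.small hr (hrd.trans (CharTools.degree_dvd_card χ)) with h' | h' | h' <;>
      omega
  have hlf : ¬ l ∣ f := fun h' => hnot.1 (Int.natCast_dvd.2 (by rw [habsF]; exact h'))
  have hlD : ¬ l ∣ D := fun h' => hnot.2 (Int.natCast_dvd.2 (by rw [habsD]; exact h'))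
  have hf2 : 2 ≤ f := two_le_degree h.ne hφ1
  have hD2 : 2 ≤ D := two_le_degree h.ne hψ1
  have hm35 : m = 3 ∨ m = 5 := by
    rcases hl with h' | h'
    · exact Or.inr h'.2
    · exact Or.inl h'.2
  have hcons : ∃ u : ℕ, (m = 3 ∧ (u = 2 ∨ u = 3 ∨ u = 8) ∨ m = 5 ∧ u = 4) ∧
      (Fv = (u : ℤ) ∨ Fv = -((u : ℤ) + 1)) := by
    rcases le_or_gt 0 Fv with hpos | hneg
    · refine ⟨f, Arith.consecutive hm35 hf2 (hsup φ hlf) ?_, Or.inl (by omega)⟩
      rw [show f + 1 = D by omega]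
      exact hsup ψ hlD
    · refine ⟨D, Arith.consecutive hm35 hD2 (hsup ψ hlD) ?_, Or.inr (by omega)⟩
      rw [show D + 1 = f by omega]
      exact hsup φ hlf
  -- the possibilities
  have hk1 : 1 ≤ k := by
    by_contra hk'
    rw [hk, Nat.lt_one_iff.1 (by omega : k < 1), pow_zero] at hlA
    rcases hl35 with rfl | rfl <;> norm_num at hlA
  have hposs : k = 1 ∧ (l = 5 ∧ (Fv = -4 ∨ Fv = -9) ∨ l = 3 ∧ (Fv = 4 ∨ Fv = -5)) := by
    obtain ⟨u, hu, hFu⟩ := hcons
    have h1 : (l : ℤ) ^ k ∣ Fv - 1 := by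
      rw [hk] at hmod
      exact_mod_cast hmod
    have hl1 : (l : ℤ) ∣ Fv - 1 := (dvd_pow_self _ (by omega : k ≠ 0)).trans h1
    have hk2 : k < 2 := by
      by_contra hk'
      push Not at hk'
      have h2 : (l : ℤ) ^ 2 ∣ Fv - 1 := (pow_dvd_pow _ hk').trans h1
      rcases hl with ⟨rfl, rfl⟩ | ⟨rfl, rfl⟩ <;> push_cast at hl1 h2 <;> omega
    refine ⟨by omega, ?_⟩
    rcases hl with ⟨rfl, rfl⟩ | ⟨rfl, rfl⟩ <;> push_cast at hl1 <;> omega
  obtain ⟨hk', hposs⟩ := hposs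
  subst hk'
  rw [pow_one] at hk
  -- the involution
  obtain ⟨z, hz, hzW⟩ := exists_invol h.small h.h2 S
  have hnc : ∀ b' ∈ (A : Subgroup G), b' ≠ 1 → ¬ IsConj b' z := by
    intro b' hb' hb'1 hcj
    obtain ⟨g, hg⟩ := isConj_iff.1 hcj
    have h1 := orderOf_eq_of_mem h.small hl A.2 hb' hb'1
    rw [← Invol.orderOf_conj g b', hg, hz] at h1
    rcases hl35 with rfl | rfl <;> omega
  obtain ⟨φz, hφz⟩ := exists_int_apply φ (Invol.mul_self_eq_one hz)
  obtain ⟨ψz, hψz⟩ := exists_int_apply ψ (Invol.mul_self_eq_one hz)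
  set s : ℤ := X * φz with hs'
  have hcolz : δ * ψz = -1 - s := by
    have h1 := hcol z hnc
    rw [hφz, hψz, map_intCast, map_intCast] at h1
    have h2 : (1 : ℤ) + X * φz + δ * ψz = 0 := by exact_mod_cast h1
    rw [hs']
    linarith
  have hzne : z ≠ 1 := Invol.ne_one_of_invol hz
  have hstrict : φz.natAbs < f := by
    have h1 := Char.IsCharacter.norm_apply_le (Char.IsIrrCharacter.isCharacter φ.2) z
    have h2 := norm_apply_ne h.ne hφ1 hzne
    have h3 := lt_of_le_of_ne h1 h2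
    rw [hφz, Complex.norm_intCast] at h3
    have h4 : ((φz.natAbs : ℤ) : ℝ) < ((f : ℤ) : ℝ) := by
      rw [Int.natCast_natAbs]
      push_cast
      exact h3
    exact_mod_cast h4
  have hsabs : s.natAbs < Fv.natAbs := by
    rw [habsF, hs']
    rcases unit_cases hX with h' | h' <;> simpa [h'] using hstrict
  have hbound : 1 + s ^ 2 + (1 + s) ^ 2 ≤ (Nat.card (S : Subgroup G) : ℤ) := by
    have hsum := Char.sum_mul_conj z z
    rw [if_pos (IsConj.refl z), hzW] at hsum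
    have hsum' : ∑ χ : Cfsg.IrrCharacter G, ‖(χ : G → ℂ) z‖ ^ 2 =
        (Nat.card (S : Subgroup G) : ℝ) := by
      have : ((∑ χ : Cfsg.IrrCharacter G, ‖(χ : G → ℂ) z‖ ^ 2 : ℝ) : ℂ) =
          ((Nat.card (S : Subgroup G) : ℝ) : ℂ) := by
        push_cast
        rw [← hsum]
        exact Finset.sum_congr rfl fun χ _ => (Complex.mul_conj' _).symm
      exact_mod_cast this
    have hle := Finset.sum_le_sum_of_subset_of_nonneg
      (Finset.subset_univ ({Char.principalIrr, φ, ψ} : Finset (Cfsg.IrrCharacter G)))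
      (f := fun χ : Cfsg.IrrCharacter G => ‖(χ : G → ℂ) z‖ ^ 2) (fun _ _ _ => sq_nonneg _)
    rw [hsum', Finset.sum_insert (by simp [hφ1.symm, hψ1.symm]),
      Finset.sum_insert (by simp only [Finset.mem_singleton]; exact fun h' => hφΨ (h' ▸ hψΨ)),
      Finset.sum_singleton, Char.principalIrr_apply, norm_one, one_pow, hφz, hψz,
      Complex.norm_intCast, Complex.norm_intCast, sq_abs, sq_abs] at hle
    have hle' : 1 + (φz ^ 2 + ψz ^ 2) ≤ (Nat.card (S : Subgroup G) : ℤ) := by exact_mod_cast hle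
    have e1 : s ^ 2 = φz ^ 2 := by rw [hs', mul_pow, hX, one_mul]
    have e2 : (1 + s) ^ 2 = ψz ^ 2 := by
      rw [show 1 + s = -(δ * ψz) by omega, neg_sq, mul_pow, hδ, one_mul]
    rw [e1, e2]
    linarith
  -- the class multiplication formula
  have heq : (Nat.card (S : Subgroup G) : ℤ) * (Fv * (Fv + 1)) =
      (Nat.card (B : Subgroup G) : ℤ) * (Fv - s) ^ 2 := by
    obtain ⟨h1, h2, h3⟩ := hval b hb hb1
    have hpairs := CharDeep.ClassSum.card_pairs z z b
    set K := (Finset.univ.filter (IsConj z)).card with hK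
    have hKW : K * Nat.card (S : Subgroup G) = Nat.card G := by
      have h' := Char.card_isConj_mul_card_centralizer z
      rwa [hzW, Nat.card_eq_fintype_card (α := {x : G // IsConj z x}), Fintype.card_subtype] at h'
    have hS : ∑ χ : Cfsg.IrrCharacter G,
        (χ : G → ℂ) z * (χ : G → ℂ) z * conj ((χ : G → ℂ) b) / (χ : G → ℂ) 1 =
        1 + (φz : ℂ) ^ 2 * (X : ℂ) / (f : ℂ) + (ψz : ℂ) ^ 2 * (δ : ℂ) / (D : ℂ) := by
      rw [← Finset.sum_subset (Finset.subset_univ (insert Char.principalIrr (insert φ Ψ))) ?_,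
        Finset.sum_insert (by simp [hφ1.symm, hoΨ]), Finset.sum_insert hφΨ]
      · have hone : ∀ χ ∈ Ψ, (χ : G → ℂ) z = (ψz : ℂ) ∧ (χ : G → ℂ) 1 = (D : ℂ) := fun χ hχ =>
          ⟨(hequal χ hχ z hnc).trans hψz,
            (hequal χ hχ 1 fun b' _ hb' hc' => hb' (isConj_one_left.1 hc')).trans (hcast ψ)⟩
        rw [Finset.sum_congr rfl (s₁ := Ψ) (fun χ hχ => by rw [(hone χ hχ).1, (hone χ hχ).2]),
          ← Finset.sum_div, ← Finset.mul_sum, ← map_sum, h2, h1, hφz, hcast φ,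
          Char.principalIrr_apply, Char.principalIrr_apply, Char.principalIrr_apply, map_one,
          map_intCast, map_intCast]
        ring
      · intro χ _ hχ
        simp only [Finset.mem_insert, not_or] at hχ
        rw [h3 χ hχ.1 hχ.2.1 hχ.2.2, map_zero, mul_zero, zero_div]
    have hXc : (X : ℂ) ^ 2 = 1 := by exact_mod_cast hX
    have hδc : (δ : ℂ) ^ 2 = 1 := by exact_mod_cast hδ
    have hFne : Fv ≠ 0 := by omega
    have hF1ne : Fv + 1 ≠ 0 := by omega
    have hfc : (f : ℂ) ≠ 0 := by exact_mod_cast (by omega : f ≠ 0)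
    have hDc : (D : ℂ) ≠ 0 := by exact_mod_cast (by omega : D ≠ 0)
    have horthC : (1 : ℂ) + X * f + δ * D = 0 := by exact_mod_cast horth
    have hcolC : (δ : ℂ) * ψz = -1 - X * φz := by exact_mod_cast hcolz
    have hFc : (Fv : ℂ) = (X : ℂ) * f := by rw [hFv]; push_cast; ring
    have hsc : (s : ℂ) = (X : ℂ) * φz := by rw [hs']; push_cast; ring
    have hS' : (1 + (φz : ℂ) ^ 2 * (X : ℂ) / (f : ℂ) + (ψz : ℂ) ^ 2 * (δ : ℂ) / (D : ℂ)) *
        ((Fv * (Fv + 1) : ℤ) : ℂ) = (((Fv - s) ^ 2 : ℤ) : ℂ) := by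
      have e1 : (φz : ℂ) ^ 2 * (X : ℂ) / (f : ℂ) * ((X : ℂ) * f) = ((X : ℂ) * φz) ^ 2 := by
        rw [div_mul_eq_mul_div, div_eq_iff hfc]
        ring
      have e2 : (ψz : ℂ) ^ 2 * (δ : ℂ) / (D : ℂ) * ((X : ℂ) * f + 1) = -(1 + (X : ℂ) * φz) ^ 2 := by
        rw [show (X : ℂ) * f + 1 = -((δ : ℂ) * D) by linear_combination horthC, div_mul_eq_mul_div,
          div_eq_iff hDc]
        linear_combination ((D : ℂ) * (1 + (X : ℂ) * φz - (δ : ℂ) * ψz)) * hcolC
      push_cast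
      rw [hFc, hsc]
      linear_combination ((X : ℂ) * f + 1) * e1 + ((X : ℂ) * f) * e2
    rcases card_pairs_eq h.small hl A hA hn hz hb hb1 with h0 | ha
    · exfalso
      rw [h0, Nat.cast_zero, hS] at hpairs
      have hGne : (Nat.card G : ℂ) ≠ 0 := Nat.cast_ne_zero.2 Nat.card_pos.ne'
      have hKne : (K : ℂ) ≠ 0 := by
        refine Nat.cast_ne_zero.2 fun h' => ?_
        rw [h', zero_mul] at hKW
        exact Nat.card_pos.ne hKW
      rw [(mul_eq_zero.1 hpairs.symm).resolve_left (div_ne_zero (mul_ne_zero hKne hKne) hGne),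
        zero_mul] at hS'
      have h' : (Fv - s) ^ 2 = 0 := by exact_mod_cast hS'.symm
      rw [pow_eq_zero_iff two_ne_zero, sub_eq_zero] at h'
      rw [h'] at hsabs
      exact lt_irrefl _ hsabs
    · rw [ha, hS] at hpairs
      have hGne : (Nat.card G : ℂ) ≠ 0 := Nat.cast_ne_zero.2 Nat.card_pos.ne'
      have hmain : ((Nat.card (A : Subgroup G) : ℤ) : ℂ) * (Nat.card G : ℂ) *
          ((Fv * (Fv + 1) : ℤ) : ℂ) = (K : ℂ) * K * (((Fv - s) ^ 2 : ℤ) : ℂ) := by
        rw [← hS', Int.cast_natCast, hpairs]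
        field_simp
      have hmainZ : (Nat.card (A : Subgroup G) : ℤ) * (Nat.card G : ℤ) * (Fv * (Fv + 1)) =
          (K : ℤ) * K * (Fv - s) ^ 2 := by exact_mod_cast hmain
      have hKab : (K : ℤ) = (Nat.card (A : Subgroup G) : ℤ) * Nat.card (B : Subgroup G) := by
        have : K = Nat.card (A : Subgroup G) * Nat.card (B : Subgroup G) :=
          Nat.eq_of_mul_eq_mul_right Nat.card_pos (hKW.trans (by rw [hcard]; ring))
        exact_mod_cast this
      have hGz : (Nat.card G : ℤ) = (Nat.card (S : Subgroup G) : ℤ) * Nat.card (A : Subgroup G) *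
          Nat.card (B : Subgroup G) := by exact_mod_cast hcard
      rw [hKab, hGz] at hmainZ
      refine mul_left_cancel₀ (mul_ne_zero (mul_ne_zero
        (Int.natCast_ne_zero.2 (Nat.card_pos (α := (A : Subgroup G))).ne')
        (Int.natCast_ne_zero.2 (Nat.card_pos (α := (A : Subgroup G))).ne'))
        (Int.natCast_ne_zero.2 (Nat.card_pos (α := (B : Subgroup G))).ne')) ?_
      linear_combination hmainZ
  -- enumeration
  rw [hcard, hk]
  have hWpos : 0 < Nat.card (S : Subgroup G) := Nat.card_pos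
  have hj1 : 1 ≤ j := by
    by_contra hj'
    have h1 : m ∣ Nat.card (B : Subgroup G) := B.dvd_card_of_dvd_card hdB
    rw [hj, Nat.lt_one_iff.1 (by omega : j < 1), pow_zero] at h1
    exact hl.symm.prime.not_dvd_one h1
  have hoW : Nat.Coprime (Nat.card (B : Subgroup G)) (Nat.card (S : Subgroup G)) := by
    rw [hj, hw]
    refine Nat.Coprime.pow _ _ ?_
    rcases hm35 with rfl | rfl <;> norm_num
  have hodvd : Nat.card (B : Subgroup G) ∣ (Fv * (Fv + 1)).natAbs := by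
    have h1 : (Nat.card (B : Subgroup G) : ℤ) ∣
        (Nat.card (S : Subgroup G) : ℤ) * (Fv * (Fv + 1)) := heq ▸ dvd_mul_right _ _
    rw [Int.natCast_dvd, Int.natAbs_mul, Int.natAbs_natCast] at h1
    exact hoW.dvd_of_dvd_mul_left h1
  rw [hw] at heq hbound ⊢
  rw [hj] at heq hodvd ⊢
  push_cast at heq hbound
  rcases hposs with ⟨hl5, hF | hF⟩ | ⟨hl3, hF | hF⟩ <;> rw [hF] at heq hsabs hodvd <;>
    rcases hl with ⟨rfl, rfl⟩ | ⟨rfl, rfl⟩ <;> first | omega | norm_num at heq hsabs hodvd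
  · obtain ⟨rfl, rfl⟩ := Arith.solve_five_four hsabs hj1 hodvd heq hbound
    norm_num
  · obtain ⟨rfl, rfl⟩ := Arith.solve_five_nine hsabs hj1 hodvd heq hbound
    norm_num
  · obtain ⟨rfl, rfl⟩ := Arith.solve_three_four hsabs hj1 hodvd heq hbound
    norm_num
  · obtain ⟨rfl, rfl⟩ := Arith.solve_three_five hsabs hj1 hodvd heq hbound
    norm_num

end CfsgLib.SpecFive
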