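import Cfsg.Agent.Lib.SpecFive.Affine

/-!
# The natural module
-/

set_option autoImplicit false
set_option linter.style.haveILetI false
set_option linter.unusedSectionVars false

namespace CfsgLib.SpecFive

open Matrix

universe u

section Field

variable {F : Type} [Field F]

/-- The action of a matrix of determinant one on vectors. -/
def act (g : SpecialLinearGroup (Fin 2) F) (a : Fin 2 → F) : Fin 2 → F :=
  (g : Matrix (Fin 2) (Fin 2) F) *ᵥ a

theorem act_mul (g h : SpecialLinearGroup (Fin 2) F) (a : Fin 2 → F) :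
    act (g * h) a = act g (act h a) := by
  show (g.1 * h.1) *ᵥ a = g.1 *ᵥ (h.1 *ᵥ a)
  rw [mulVec_mulVec]

theorem act_one (a : Fin 2 → F) : act (1 : SpecialLinearGroup (Fin 2) F) a = a := one_mulVec a

theorem act_add (g : SpecialLinearGroup (Fin 2) F) (a b : Fin 2 → F) :
    act g (a + b) = act g a + act g b := mulVec_add _ _ _

theorem act_zero (g : SpecialLinearGroup (Fin 2) F) : act g 0 = 0 := mulVec_zero _

theorem act_inv_self (g : SpecialLinearGroup (Fin 2) F) (a : Fin 2 → F) :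
    act g⁻¹ (act g a) = a := by
  rw [← act_mul, inv_mul_cancel, act_one]

theorem act_apply (g : SpecialLinearGroup (Fin 2) F) (a : Fin 2 → F) (i : Fin 2) :
    act g a i = g.1 i 0 * a 0 + g.1 i 1 * a 1 := by
  simp [act, Matrix.mulVec, dotProduct, Fin.sum_univ_two]

variable [Fintype F]

theorem two_eq_zero (hF : Fintype.card F = 4) : (2 : F) = 0 := by
  have h : ((Fintype.card F : ℕ) : F) = 0 := Nat.cast_card_eq_zero F
  rw [hF] at h
  have h2 : (2 : F) * 2 = 0 := by norm_num at h ⊢; exact h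
  exact (mul_self_eq_zero.1 h2)

theorem cube_root (hF : Fintype.card F = 4) {μ : F} (h0 : μ ≠ 0) (h1 : μ ≠ 1) :
    1 + μ + μ ^ 2 = 0 := by
  have h := FiniteField.pow_card_sub_one_eq_one μ h0
  rw [hF] at h
  have h' : (μ - 1) * (1 + μ + μ ^ 2) = 0 := by linear_combination h
  exact (mul_eq_zero.1 h').resolve_left (sub_ne_zero.2 h1)

theorem exists_col (a : Fin 2 → F) (ha : a ≠ 0) :
    ∃ g : SpecialLinearGroup (Fin 2) F, act g ![1, 0] = a := by
  by_cases h : a 0 = 0
  · have h1 : a 1 ≠ 0 := fun h1 => ha (funext fun i => by fin_cases i <;> assumption)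
    refine ⟨⟨!![0, -(a 1)⁻¹; a 1, 0], by simp [det_fin_two, h1]⟩, funext fun i => ?_⟩
    fin_cases i <;> simp [act, Matrix.mulVec, dotProduct, Fin.sum_univ_two, h]
  · refine ⟨⟨!![a 0, 0; a 1, (a 0)⁻¹], by simp [det_fin_two, h]⟩, funext fun i => ?_⟩
    fin_cases i <;> simp [act, Matrix.mulVec, dotProduct, Fin.sum_univ_two]

/-- An element of order three carrying `e₁` to `b` and `b` to `e₁ + b`. -/
theorem exists_three (hF : Fintype.card F = 4) (b : Fin 2 → F) (hb : b ≠ 0) (hb1 : b ≠ ![1, 0]) :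
    ∃ X : SpecialLinearGroup (Fin 2) F, X ^ 3 = 1 ∧ X ≠ 1 ∧
      act X ![1, 0] = b ∧ act X b = ![1, 0] + b := by
  have h2 := two_eq_zero hF
  obtain ⟨d, hd⟩ : ∃ d, b 1 * d = 1 + b 0 + b 0 ^ 2 := by
    by_cases hc : b 1 = 0
    · refine ⟨0, ?_⟩
      rw [mul_zero, eq_comm]
      refine cube_root hF (fun h => hb (funext fun i => ?_)) fun h => hb1 (funext fun i => ?_) <;>
        fin_cases i <;> simp [h, hc]
    · exact ⟨(b 1)⁻¹ * (1 + b 0 + b 0 ^ 2), by field_simp⟩
  let X : SpecialLinearGroup (Fin 2) F := ⟨!![b 0, d; b 1, 1 + b 0], by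
    rw [det_fin_two]
    simp only [of_apply, cons_val', cons_val_zero, cons_val_one, empty_val', cons_val_fin_one]
    linear_combination -hd - h2⟩
  refine ⟨X, ?_, ?_, ?_, ?_⟩
  · rw [pow_succ, pow_two]
    refine Subtype.ext (Matrix.ext fun i j => ?_)
    show (X.1 * X.1 * X.1) i j = (1 : Matrix (Fin 2) (Fin 2) F) i j
    fin_cases i <;> fin_cases j <;>
      simp [X, Matrix.mul_apply, Fin.sum_univ_two] <;>
      grind
  · intro hX
    apply hb1
    have h00 := congrFun (congrFun (congrArg Subtype.val hX) 0) 0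
    have h10 := congrFun (congrFun (congrArg Subtype.val hX) 1) 0
    simp [X] at h00 h10
    funext i
    fin_cases i <;> simp [h00, h10]
  · funext i
    fin_cases i <;> simp [X, act, Matrix.mulVec, dotProduct, Fin.sum_univ_two]
  · funext i
    fin_cases i <;> simp [X, act, Matrix.mulVec, dotProduct, Fin.sum_univ_two] <;> grind

end Field

variable {G : Type u} [Group G] [Finite G]

/-- The natural module inside the radical. -/
theorem exists_natural (hs : Small G) (R : Subgroup G) [R.Normal]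
    (hR : Cfsg.IsElementaryAbelian 2 R) (hR1 : R ≠ ⊥) {F : Type} [Field F] [Fintype F]
    (hF : Fintype.card F = 4) (σ : SpecialLinearGroup (Fin 2) F →* G)
    (hσ : ∀ g, σ g ∈ R → g = 1) :
    ∃ φ : Multiplicative (Fin 2 → F) →* G, Function.Injective φ ∧ (∀ a, φ a ∈ R) ∧
      ∀ g a, σ g * φ (Multiplicative.ofAdd a) * (σ g)⁻¹ =
        φ (Multiplicative.ofAdd ((g : Matrix (Fin 2) (Fin 2) F) *ᵥ a)) := by
  classical
  have h2 := two_eq_zero hF
  haveI : Fact (Nat.Prime 2) := ⟨Nat.prime_two⟩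
  have hcomm : ∀ a ∈ R, ∀ b ∈ R, a * b = b * a := fun a ha b hb =>
    congrArg Subtype.val (hR.1.is_comm.comm ⟨a, ha⟩ ⟨b, hb⟩)
  have hsq : ∀ a ∈ R, a * a = 1 := fun a ha => (pow_two a).symm.trans (hR.2 a ha)
  let e1 : Fin 2 → F := ![1, 0]
  -- a vector fixed by the stabilizer of `e1`
  let U : Subgroup (SpecialLinearGroup (Fin 2) F) :=
    { carrier := {g | act g e1 = e1}
      one_mem' := act_one e1
      mul_mem' := fun {a b} (ha : act a e1 = e1) (hb : act b e1 = e1) =>
        show act (a * b) e1 = e1 by rw [act_mul, hb, ha]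
      inv_mem' := fun {a} (ha : act a e1 = e1) => show act a⁻¹ e1 = e1 by
        conv_lhs => rw [← ha]
        exact act_inv_self a e1 }
  have hU2 : IsPGroup 2 U := by
    rintro ⟨g, hg⟩
    refine ⟨1, Subtype.ext ?_⟩
    show g ^ 2 ^ 1 = 1
    have hg' : act g e1 = e1 := hg
    have h00 : g.1 0 0 = 1 := by simpa [e1, act_apply] using congrFun hg' 0
    have h10 : g.1 1 0 = 0 := by simpa [e1, act_apply] using congrFun hg' 1
    have hdet : g.1.det = 1 := g.2
    rw [det_fin_two, h00, h10, one_mul, mul_zero, sub_zero] at hdet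
    rw [pow_one, pow_two]
    refine Subtype.ext (Matrix.ext fun i j => ?_)
    show (g.1 * g.1) i j = (1 : Matrix (Fin 2) (Fin 2) F) i j
    fin_cases i <;> fin_cases j <;> simp [Matrix.mul_apply, Fin.sum_univ_two, h00, h10, hdet]
    linear_combination (g.1 0 1) * h2
  letI : MulAction U R := MulAction.compHom R (((MulAut.conjNormal : G →* MulAut R).comp σ).comp U.subtype)
  have hmod := hU2.card_modEq_card_fixedPoints R
  have hgt : 1 < Nat.card (MulAction.fixedPoints U R) := by
    have hRp : IsPGroup 2 R := fun r => ⟨1, Subtype.ext (by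
      show (r : G) ^ 2 ^ 1 = 1
      rw [pow_one]; exact hR.2 _ r.2)⟩
    haveI : Nontrivial R := (Subgroup.nontrivial_iff_ne_bot R).2 hR1
    obtain ⟨k, hk⟩ := hRp.exists_card_eq
    have hk0 : k ≠ 0 := fun h => by
      have := Finite.one_lt_card (α := R)
      rw [hk, h, pow_zero] at this
      omega
    haveI : Nonempty (MulAction.fixedPoints U R) := ⟨⟨1, fun z => by
      show (MulAut.conjNormal : G →* MulAut R) (σ (z : SpecialLinearGroup (Fin 2) F)) (1 : R) = 1
      exact map_one _⟩⟩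
    have hpos := Nat.card_pos (α := MulAction.fixedPoints U R)
    have hev : 2 ∣ Nat.card R := hk ▸ dvd_pow_self 2 hk0
    unfold Nat.ModEq at hmod
    omega
  haveI := Finite.one_lt_card_iff_nontrivial.1 hgt
  obtain ⟨v, hv⟩ := exists_ne (⟨1, fun z => by
    show (MulAut.conjNormal : G →* MulAut R) (σ (z : SpecialLinearGroup (Fin 2) F)) (1 : R) = 1
    exact map_one _⟩ : MulAction.fixedPoints U R)
  have hv1 : ((v : R) : G) ≠ 1 := fun h => hv (Subtype.ext (Subtype.ext h))
  have hfix : ∀ g ∈ U, σ g * (v : R) * (σ g)⁻¹ = ((v : R) : G) := fun g hg =>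
    congrArg (Subtype.val : R → G) (v.2 ⟨g, hg⟩)
  -- the map
  let φ₀ : (Fin 2 → F) → G := fun a => if ha : a = 0 then 1 else
    σ (exists_col a ha).choose * (v : R) * (σ (exists_col a ha).choose)⁻¹
  have hφ : ∀ g : SpecialLinearGroup (Fin 2) F,
      φ₀ (act g e1) = σ g * (v : R) * (σ g)⁻¹ := by
    intro g
    have hne : act g e1 ≠ 0 := by
      intro h0
      have := congrArg (act g⁻¹) h0
      rw [act_inv_self, act_zero] at this
      exact one_ne_zero (congrFun this 0)
    simp only [φ₀, dif_neg hne]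
    set g' := (exists_col _ hne).choose
    have hg' : act g' e1 = act g e1 := (exists_col _ hne).choose_spec
    have hu : g⁻¹ * g' ∈ U := by
      show act (g⁻¹ * g') e1 = e1
      rw [act_mul, hg', act_inv_self]
    calc σ g' * (v : R) * (σ g')⁻¹
        = σ g * (σ (g⁻¹ * g') * (v : R) * (σ (g⁻¹ * g'))⁻¹) * (σ g)⁻¹ := by
          rw [map_mul, map_inv]; group
      _ = _ := by rw [hfix _ hu]
  have h0 : φ₀ 0 = 1 := dif_pos rfl
  have hmem : ∀ a, φ₀ a ∈ R := by
    intro a
    by_cases ha : a = 0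
    · rw [ha, h0]; exact one_mem R
    · simp only [φ₀, dif_neg ha]
      exact Subgroup.Normal.conj_mem ‹R.Normal› _ (v : R).2 _
  have hequi : ∀ (g : SpecialLinearGroup (Fin 2) F) a,
      σ g * φ₀ a * (σ g)⁻¹ = φ₀ (act g a) := by
    intro g a
    by_cases ha : a = 0
    · rw [ha, h0, act_zero, h0, mul_one, mul_inv_cancel]
    · obtain ⟨k, hk⟩ := exists_col a ha
      rw [← hk, hφ k, ← act_mul, hφ, map_mul]
      group
  have hself : ∀ a : Fin 2 → F, a + a = 0 := fun a => funext fun i => by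
    show a i + a i = 0
    linear_combination a i * h2
  have hadd1 : ∀ b, φ₀ (e1 + b) = φ₀ e1 * φ₀ b := by
    intro b
    by_cases hb : b = 0
    · rw [hb, add_zero, h0, mul_one]
    by_cases hb1 : b = e1
    · rw [hb1, hself, h0, hsq _ (hmem _)]
    obtain ⟨X, hX3, hX1, hXe, hXb⟩ := exists_three hF b hb hb1
    have hord : orderOf (σ X) = 3 := by
      haveI : Fact (Nat.Prime 3) := ⟨Nat.prime_three⟩
      refine orderOf_eq_prime (by rw [← map_pow, hX3, map_one]) fun h => hX1 (hσ X ?_)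
      rw [h]; exact one_mem R
    set r := φ₀ e1 with hr
    have hb' : σ X * r * (σ X)⁻¹ = φ₀ b := by rw [hr, hequi, hXe]
    have hab : σ X * φ₀ b * (σ X)⁻¹ = φ₀ (e1 + b) := by rw [hequi, hXb]
    -- the coset `σ X * R` consists of elements of order three
    have h3 : (σ X * r) ^ 3 = 1 := by
      have hd : orderOf (QuotientGroup.mk' R (σ X)) ∣ orderOf (σ X * r) := by
        have h' := orderOf_map_dvd (QuotientGroup.mk' R) (σ X * r)
        rwa [map_mul, show QuotientGroup.mk' R r = 1 from (QuotientGroup.eq_one_iff _).2 (hmem _),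
          mul_one] at h'
      have hπ : orderOf (QuotientGroup.mk' R (σ X)) = 3 := by
        haveI : Fact (Nat.Prime 3) := ⟨Nat.prime_three⟩
        refine orderOf_eq_prime (by rw [← map_pow, ← map_pow, hX3, map_one, map_one]) fun h => hX1 (hσ X ?_)
        exact (QuotientGroup.eq_one_iff _).1 h
      rw [hπ] at hd
      have h5 := hs (σ X * r)
      have hpos := orderOf_pos (σ X * r)
      rw [← orderOf_dvd_iff_pow_eq_one, show orderOf (σ X * r) = 3 by omega]
    have hX33 : σ X * σ X * σ X = 1 := by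
      rw [← map_mul, ← map_mul, ← pow_two, ← pow_succ, hX3, map_one]
    have key : φ₀ b * φ₀ (e1 + b) * r = 1 := by
      rw [← hab, ← hb', ← h3]
      calc σ X * r * (σ X)⁻¹ * (σ X * (σ X * r * (σ X)⁻¹) * (σ X)⁻¹) * r
          = σ X * r * (σ X * r) * ((σ X)⁻¹ * (σ X)⁻¹ * r) := by group
        _ = σ X * r * (σ X * r) * (σ X * r) := by
          rw [show (σ X)⁻¹ * (σ X)⁻¹ = σ X by rw [← _root_.mul_inv_rev]; exact inv_eq_of_mul_eq_one_right hX33]
        _ = _ := by rw [pow_succ, pow_two]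
    have hbb : (φ₀ b)⁻¹ = φ₀ b := inv_eq_of_mul_eq_one_right (hsq _ (hmem b))
    calc φ₀ (e1 + b) = (φ₀ b)⁻¹ * (φ₀ b * φ₀ (e1 + b)) := (inv_mul_cancel_left _ _).symm
      _ = φ₀ b * r := by
        rw [eq_inv_of_mul_eq_one_left key, hbb, inv_eq_of_mul_eq_one_right (hsq _ (hmem e1))]
      _ = r * φ₀ b := hcomm _ (hmem b) _ (hmem e1)
  have hadd : ∀ a b, φ₀ (a + b) = φ₀ a * φ₀ b := by
    intro a b
    by_cases ha : a = 0
    · rw [ha, zero_add, h0, one_mul]
    obtain ⟨g, hg⟩ := exists_col a ha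
    have hb : b = act g (act g⁻¹ b) := by rw [← act_mul, mul_inv_cancel, act_one]
    rw [← hg, hb, ← act_add, ← hequi, ← hequi, ← hequi, hadd1]
    simp only [e1, mul_assoc, inv_mul_cancel_left]
  refine ⟨{ toFun := fun a => φ₀ a.toAdd, map_one' := h0, map_mul' := fun a b => hadd _ _ }, ?_,
    fun a => hmem _, fun g a => hequi g a⟩
  refine (injective_iff_map_eq_one _).2 fun a ha => ?_
  by_contra hne
  have hne' : a.toAdd ≠ 0 := hne
  obtain ⟨g, hg⟩ := exists_col _ hne'
  change φ₀ a.toAdd = 1 at ha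
  rw [← hg, hφ g, conj_eq_one_iff] at ha
  exact hv1 ha

end CfsgLib.SpecFive
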