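import Cfsg.Agent.Lib.SpecFive.NTwo
import Cfsg.Agent.Lib.SpecFive.EvenCase
import Cfsg.Agent.Lib.SpecFive.MixedB

/-!
# Simple groups with element orders at most five
-/

set_option autoImplicit false
set_option linter.style.haveILetI false
set_option linter.unusedSectionVars false

namespace CfsgLib.SpecFive

universe u

variable {G : Type u} [Group G] [Fintype G] [IsSimpleGroup G]

theorem commutator_eq_top_of_not_comm (hne : ¬ IsMulCommutative G) : commutator G = ⊤ := by
  refine ((inferInstance : (commutator G).Normal).eq_bot_or_eq_top).resolve_left fun h => hne ?_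
  refine ⟨⟨fun a b => ?_⟩⟩
  open commutatorElement in
  have h1 : ⁅a, b⁆ ∈ commutator G := by
    rw [commutator_def]
    exact Subgroup.commutator_mem_commutator (Subgroup.mem_top _) (Subgroup.mem_top _)
  rw [h, Subgroup.mem_bot] at h1
  exact commutatorElement_eq_one_iff_mul_comm.1 h1

/-- A simple group with element orders at most five whose order is divisible by thirty has order
`60` or `360`. -/
theorem card_simple (h : Ctx G) : Nat.card G = 60 ∨ Nat.card G = 360 := by
  classical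
  haveI := Fact.mk Nat.prime_two
  haveI := Fact.mk Nat.prime_three
  haveI : Fact (Nat.Prime 5) := ⟨by norm_num⟩
  obtain ⟨S⟩ : Nonempty (Sylow 2 G) := inferInstance
  obtain ⟨P⟩ : Nonempty (Sylow 3 G) := inferInstance
  obtain ⟨Q⟩ : Nonempty (Sylow 5 G) := inferInstance
  haveI := Fintype.ofFinite (P : Subgroup G)
  haveI := Fintype.ofFinite (Q : Subgroup G)
  haveI := Fintype.ofFinite (CN.Ab (P : Subgroup G))
  haveI := Fintype.ofFinite (CN.Ab (Q : Subgroup G))
  have h35 : Pair35 3 5 := Or.inl ⟨rfl, rfl⟩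
  have h53 : Pair35 5 3 := Or.inr ⟨rfl, rfl⟩
  have hperf := commutator_eq_top_of_not_comm h.ne
  obtain ⟨n₁, hN₁, hP⟩ := index_cases h.small h35 P h.h3 hperf
  obtain ⟨n₂, hN₂, hQ⟩ := index_cases h.small h53 Q h.h5 hperf
  have hcard := card_factor h.small S P Q
  have hc : ∀ {A : Subgroup G}, CA.SelfCent A → ∀ x ∈ A, ∀ y ∈ A, x * y = y * x :=
    fun {A} hA x hx y hy => by
      by_cases hx1 : x = 1
      · simp [hx1]
      · have := hA.2 x hx hx1
        exact (Subgroup.mem_centralizer_singleton_iff.1 (this.ge hy)).symm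
  rcases hP with ⟨hn₁, -, hAP⟩ | ⟨rfl, hPinv⟩ <;> rcases hQ with ⟨hn₂, -, hAQ⟩ | ⟨rfl, hQinv⟩
  · by_cases h1 : n₁ = 2
    · subst h1
      exact card_of_two h h35 P Q S hAP hcard hN₁ h.h3 h.h5
    by_cases h2 : n₂ = 2
    · subst h2
      exact card_of_two h h53 Q P S hAQ (by rw [hcard]; ring) hN₂ h.h5 h.h3
    obtain ⟨F₁⟩ := exists_fam (nilCent h.small h35 P h.h3) hN₁
    obtain ⟨F₂⟩ := exists_fam (nilCent h.small h53 Q h.h5) hN₂
    exact (not_both_even h S P Q (hc hAP) (hc hAQ) (by omega) (by omega) F₁ F₂ hN₁ hN₂).elim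
  · by_cases h1 : n₁ = 2
    · subst h1
      exact card_of_two h h35 P Q S hAP hcard hN₁ h.h3 h.h5
    obtain ⟨F₁⟩ := exists_fam (nilCent h.small h35 P h.h3) hN₁
    obtain ⟨F₂⟩ := exists_fam (nilCent h.small h53 Q h.h5) hN₂
    exact (not_mixedA h S P Q (hc hAP) (by omega) F₁ F₂).elim
  · by_cases h2 : n₂ = 2
    · subst h2
      exact card_of_two h h53 Q P S hAQ (by rw [hcard]; ring) hN₂ h.h5 h.h3
    obtain ⟨F₁⟩ := exists_fam (nilCent h.small h35 P h.h3) hN₁
    obtain ⟨F₂⟩ := exists_fam (nilCent h.small h53 Q h.h5) hN₂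
    exact (not_mixedB h S P Q (hc hAQ) (by omega) F₁ F₂ hN₁ hPinv).elim
  · rcases exists_involution_normalizing h.small h35 P Q h.h2 h.ne with ⟨u, hu, huN⟩ | ⟨u, hu, huN⟩
    · exact absurd hu (hPinv u huN)
    · exact absurd hu (hQinv u huN)

end CfsgLib.SpecFive
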