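import Cfsg.Agent.Lib.SpecFive.Local

/-!
# Quaternion subgroups in centralizers of involutions
-/

set_option autoImplicit false
set_option linter.style.haveILetI false
set_option linter.unusedSectionVars false

namespace CfsgLib.SpecFive

open Subgroup

universe u

variable {G : Type u} [Group G] [Finite G]

/-- A subgroup of order eight with a single involution, all of whose squares lie below it. -/
structure Quat (E : Subgroup G) (z : G) : Prop where
  card : Nat.card E = 8
  mem : z ∈ E
  order : orderOf z = 2
  sq : ∀ e ∈ E, e * e = 1 ∨ e * e = z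
  uniq : ∀ e ∈ E, e * e = 1 → e = 1 ∨ e = z

theorem Quat.conj {E : Subgroup G} {z : G} (h : Quat E z) (g : G) :
    Quat (E.map (MulAut.conj g).toMonoidHom) (g * z * g⁻¹) := by
  refine ⟨(card_map_of_injective (MulAut.conj g).injective).trans h.card, ⟨z, h.mem, rfl⟩,
    by rw [Invol.orderOf_conj, h.order], ?_, ?_⟩
  · rintro _ ⟨e, he, rfl⟩
    rcases h.sq e he with h' | h'
    · left; rw [← map_mul, h', map_one]
    · right; rw [← map_mul, h']; rfl
  · rintro _ ⟨e, he, rfl⟩ h'
    rw [← map_mul] at h'
    rcases h.uniq e he ((MulAut.conj g).injective (h'.trans (map_one _).symm)) with h'' | h''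
    · left; rw [h'', map_one]
    · right; rw [h'']; rfl

/-- An involution centralizing `z` centralizes an element of order four below it, and the squares in
the centralizer of `z` are `1` or `z`. -/
theorem Quat.key (hs : Small G) (h32 : ¬ 32 ∣ Nat.card G) {E : Subgroup G} {z v : G} (h : Quat E z)
    (hv : orderOf v = 2) (hvz : v ≠ z) (hcomm : v * z = z * v) :
    (∃ e ∈ E, e * e = z ∧ v * e = e * v) ∧ ∀ s, s * z = z * s → s * s = 1 ∨ s * s = z := by
  haveI := Fact.mk Nat.prime_two
  have hz1 : z * z = 1 := Invol.mul_self_eq_one h.order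
  have hv1 : v * v = 1 := Invol.mul_self_eq_one hv
  have hcz : ∀ e ∈ E, e * z = z * e := by
    intro e he
    rcases h.sq e he with h' | h'
    · rcases h.uniq e he h' with rfl | rfl
      · rw [one_mul, mul_one]
      · rfl
    · rw [← h', mul_assoc]
  set C := centralizer ({z} : Set G) with hC
  have hEC : E ≤ C := fun e he => mem_centralizer_singleton_iff.2 (hcz e he)
  have hvC : v ∈ C := mem_centralizer_singleton_iff.2 hcomm
  have hvE : v ∉ E := fun hvE => (h.uniq v hvE hv1).elim (Invol.ne_one_of_invol hv) hvz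
  have hp := isPGroup_centralizer_two hs h.order
  obtain ⟨k, hk⟩ := hp.exists_card_eq
  have hk4 : k ≤ 4 := by
    by_contra hk'
    exact h32 ((pow_dvd_pow 2 (show 5 ≤ k by omega)).trans (hk ▸ card_subgroup_dvd_card C))
  have hindex : (E.subgroupOf C).index = 2 := by
    have hmul := card_mul_index (E.subgroupOf C)
    rw [Nat.card_congr (subgroupOfEquivOfLe hEC).toEquiv, h.card, hk] at hmul
    have hne : (E.subgroupOf C).index ≠ 1 := fun h1 =>
      hvE (mem_subgroupOf.1 (index_eq_one.1 h1 ▸ mem_top (⟨v, hvC⟩ : C)))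
    have hle : 2 ^ k ≤ 2 ^ 4 := Nat.pow_le_pow_right two_pos hk4
    have hpos : (E.subgroupOf C).index ≠ 0 := index_ne_zero_of_finite
    omega
  haveI : (E.subgroupOf C).Normal := normal_of_index_eq_two hindex
  have hconj : ∀ e ∈ E, v * e * v ∈ E := by
    intro e he
    have h1 := Normal.conj_mem (inferInstance : (E.subgroupOf C).Normal) ⟨e, hEC he⟩
      (mem_subgroupOf.2 he) ⟨v, hvC⟩
    rw [mem_subgroupOf] at h1
    simpa [Invol.inv_eq_self hv] using h1
  have hφ : ∀ e ∈ E, v * e * v = e ∨ v * e * v = e⁻¹ := by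
    intro e he
    obtain ⟨j, hj⟩ := hp ⟨e * v, mul_mem (hEC he) hvC⟩
    have hj' : (e * v) ^ 2 ^ j = 1 := congrArg Subtype.val hj
    obtain ⟨i, -, hi⟩ := (Nat.dvd_prime_pow Nat.prime_two).1 (orderOf_dvd_of_pow_eq_one hj')
    have h4 : (e * v) ^ 4 = 1 := by
      rw [← orderOf_dvd_iff_pow_eq_one, hi]
      have h5 := hs (e * v)
      rw [hi] at h5
      have : i < 3 := by
        by_contra h'
        have : 2 ^ 3 ≤ 2 ^ i := Nat.pow_le_pow_right two_pos (by omega)
        omega
      exact pow_dvd_pow 2 (show i ≤ 2 by omega)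
    have hy : e * (v * e * v) * (e * (v * e * v)) = 1 := by
      rw [← h4]; simp only [pow_succ, pow_zero, one_mul, mul_assoc]
    rcases h.uniq _ (mul_mem he (hconj e he)) hy with h' | h'
    · exact Or.inr (eq_inv_of_mul_eq_one_right h')
    · rcases h.sq e he with h'' | h''
      · rcases h.uniq e he h'' with rfl | rfl
        · left; simpa using hv1
        · left; rw [hcomm, mul_assoc, hv1, mul_one]
      · exact Or.inl (mul_left_cancel (a := e) (h'.trans h''.symm))
  refine ⟨?_, fun s hs' => ?_⟩
  · by_contra hno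
    push Not at hno
    have hinv : ∀ e ∈ E, v * e * v = e⁻¹ := by
      intro e he
      rcases hφ e he with h' | h'
      · rcases h.sq e he with h'' | h''
        · rw [h']; exact eq_inv_iff_mul_eq_one.2 h''
        · refine absurd ?_ (hno e he h'')
          calc v * e = v * e * v * v := by rw [mul_assoc (v * e), hv1, mul_one]
            _ = e * v := by rw [h']
      · exact h'
    have habel : ∀ a ∈ E, ∀ b ∈ E, a * b = b * a := by
      intro a ha b hb
      have h1 : v * (a * b) * v = v * a * v * (v * b * v) := by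
        rw [show v * a * v * (v * b * v) = v * a * (v * v) * b * v by simp [mul_assoc], hv1, mul_one]
        simp [mul_assoc]
      rw [hinv _ (mul_mem ha hb), hinv a ha, hinv b hb, ← mul_inv_rev, inv_inj] at h1
      exact h1
    have hsub : ∃ e ∈ E, (E : Set G) ⊆ {1, z, e, z * e} := by
      by_cases hall : ∀ e ∈ E, e * e = 1
      · exact ⟨1, one_mem E, fun f hf => by
          rcases h.uniq f hf (hall f hf) with rfl | rfl <;> simp⟩
      · push Not at hall
        obtain ⟨e, he, he1⟩ := hall
        have he2 := (h.sq e he).resolve_left he1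
        refine ⟨e, he, fun f hf => ?_⟩
        simp only [Set.mem_insert_iff, Set.mem_singleton_iff]
        by_cases hf1 : f * f = 1
        · rcases h.uniq f hf hf1 with h' | h'
          · exact Or.inl h'
          · exact Or.inr (Or.inl h')
        · have hf2 := (h.sq f hf).resolve_left hf1
          have hce : e⁻¹ * f = f * e⁻¹ := habel _ (inv_mem he) _ hf
          have hq : f * e⁻¹ * (f * e⁻¹) = 1 := by
            calc f * e⁻¹ * (f * e⁻¹) = f * (e⁻¹ * f) * e⁻¹ := by simp [mul_assoc]
              _ = f * f * (e * e)⁻¹ := by rw [hce, mul_inv_rev]; simp [mul_assoc]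
              _ = 1 := by rw [hf2, he2, mul_inv_cancel]
          rcases h.uniq _ (mul_mem hf (inv_mem he)) hq with h' | h'
          · exact Or.inr (Or.inr (Or.inl (mul_inv_eq_one.1 h')))
          · exact Or.inr (Or.inr (Or.inr (mul_inv_eq_iff_eq_mul.1 h')))
    obtain ⟨e, -, hsub⟩ := hsub
    classical
    have hcard : (E : Set G).ncard ≤ 4 := by
      refine (Set.ncard_le_ncard hsub (Set.toFinite _)).trans ?_
      refine (Set.ncard_insert_le _ _).trans ?_
      have h1 := Set.ncard_insert_le z ({e, z * e} : Set G)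
      have h2 := Set.ncard_insert_le e ({z * e} : Set G)
      rw [Set.ncard_singleton] at h2
      omega
    rw [← Nat.card_coe_set_eq] at hcard
    exact absurd (h.card ▸ hcard : 8 ≤ 4) (by norm_num)
  · have hsC : s ∈ C := mem_centralizer_singleton_iff.2 hs'
    by_cases hsE : s ∈ E
    · exact h.sq s hsE
    have he : s * v ∈ E := by
      have h1 := (mul_mem_iff_of_index_two hindex (a := ⟨s, hsC⟩) (b := ⟨v, hvC⟩)).2
        (iff_of_false (fun h' => hsE (mem_subgroupOf.1 h')) fun h' => hvE (mem_subgroupOf.1 h'))
      exact mem_subgroupOf.1 h1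
    have hss : s * s = s * v * (v * (s * v) * v) := by
      rw [show s * v * (v * (s * v) * v) = s * (v * v) * s * (v * v) by simp [mul_assoc], hv1,
        mul_one, mul_one]
    rcases hφ _ he with h' | h' <;> rw [hss, h']
    · exact h.sq _ he
    · exact Or.inl (mul_inv_cancel _)

/-- Two commuting conjugate involutions cannot both sit below such subgroups. -/
theorem Quat.false_of_conj (hs : Small G) (h32 : ¬ 32 ∣ Nat.card G) {E : Subgroup G} {z : G}
    (h : Quat E z) {g : G} (hne : g * z * g⁻¹ ≠ z) (hcomm : g * z * g⁻¹ * z = z * (g * z * g⁻¹)) :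
    False := by
  have hv : orderOf (g * z * g⁻¹) = 2 := by rw [Invol.orderOf_conj, h.order]
  obtain ⟨⟨w, -, hw, hwz⟩, -⟩ := (h.conj g).key hs h32 h.order hne.symm hcomm.symm
  rcases (h.key hs h32 hv hne hcomm).2 w hwz.symm with h' | h' <;> rw [hw] at h'
  · exact Invol.ne_one_of_invol hv h'
  · exact hne h'

end CfsgLib.SpecFive
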