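import Cfsg.Agent.Lib.SpecFive.Sylow
import Cfsg.Agent.Lib.SpecFive.Family
import Cfsg.Agent.Lib.SpecFive.CharFacts
import Cfsg.Agent.Lib.SpecFive.Arith

/-!
# The two Sylow sides of a simple group with element orders at most five
-/

set_option autoImplicit false
set_option linter.style.haveILetI false
set_option linter.unusedSectionVars false

open scoped ComplexConjugate

namespace CfsgLib.SpecFive

universe u

/-- Sum of squares one: a single nonzero term. -/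
theorem exists_single {ι : Type*} [DecidableEq ι] (s : Finset ι) (X : ι → ℤ)
    (h : ∑ i ∈ s, X i ^ 2 = 1) :
    ∃ i ∈ s, X i ^ 2 = 1 ∧ ∀ j ∈ s, j ≠ i → X j = 0 := by
  obtain ⟨i, hi, hne⟩ : ∃ i ∈ s, X i ≠ 0 := by
    by_contra hcon
    push Not at hcon
    rw [Finset.sum_eq_zero fun i hi => by rw [hcon i hi]; ring] at h
    omega
  have hpos : 0 < X i ^ 2 := by positivity
  rw [← Finset.add_sum_erase _ _ hi] at h
  have hge : 0 ≤ ∑ j ∈ s.erase i, X j ^ 2 := Finset.sum_nonneg fun _ _ => sq_nonneg _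
  refine ⟨i, hi, by omega, fun j hj hji => ?_⟩
  have h0 : ∑ j ∈ s.erase i, X j ^ 2 = 0 := by omega
  exact pow_eq_zero_iff two_ne_zero |>.1
    ((Finset.sum_eq_zero_iff_of_nonneg fun _ _ => sq_nonneg _).1 h0 j (Finset.mem_erase.2 ⟨hji, hj⟩))

/-- Sum of squares two: two nonzero terms. -/
theorem exists_pair {ι : Type*} [DecidableEq ι] (s : Finset ι) (X : ι → ℤ)
    (h : ∑ i ∈ s, X i ^ 2 = 2) :
    ∃ i ∈ s, ∃ j ∈ s, j ≠ i ∧ X i ^ 2 = 1 ∧ X j ^ 2 = 1 ∧
      ∀ k ∈ s, k ≠ i → k ≠ j → X k = 0 := by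
  obtain ⟨i, hi, hne⟩ : ∃ i ∈ s, X i ≠ 0 := by
    by_contra hcon
    push Not at hcon
    rw [Finset.sum_eq_zero fun i hi => by rw [hcon i hi]; ring] at h
    omega
  rw [← Finset.add_sum_erase _ _ hi] at h
  have hge : 0 ≤ ∑ j ∈ s.erase i, X j ^ 2 := Finset.sum_nonneg fun _ _ => sq_nonneg _
  have hle : X i ^ 2 ≤ 2 := by omega
  have h1 : X i ^ 2 = 1 := by
    have h2 : |X i| < 2 := by
      by_contra hcon
      push Not at hcon
      have := pow_le_pow_left₀ (by norm_num : (0 : ℤ) ≤ 2) hcon 2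
      rw [sq_abs] at this
      omega
    rw [← sq_abs, show |X i| = 1 by have := abs_pos.2 hne; omega, one_pow]
  obtain ⟨j, hj, hj1, hrest⟩ := exists_single (s.erase i) X (by omega)
  exact ⟨i, hi, j, Finset.mem_of_mem_erase hj, Finset.ne_of_mem_erase hj, h1, hj1,
    fun k hk hki hkj => hrest k (Finset.mem_erase.2 ⟨hki, hk⟩) hkj⟩

theorem unit_cases {x : ℤ} (h : x ^ 2 = 1) : x = 1 ∨ x = -1 := sq_eq_one_iff.1 h

section Fams

variable {G : Type u} [Group G] [Fintype G] {A : Subgroup G} [Fintype A] {n : ℕ}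

open CfsgLib.CN

/-- The characters other than the principal one outside the exceptional set. -/
noncomputable def Fam.rest (F : Fam A n) : Finset (Cfsg.IrrCharacter G) :=
  open Classical in (Finset.univ \ F.E).erase Char.principalIrr

theorem Fam.mem_rest (F : Fam A n) {φ : Cfsg.IrrCharacter G} :
    φ ∈ F.rest ↔ φ ≠ Char.principalIrr ∧ φ ∉ F.E := by
  classical
  simp [Fam.rest]

/-- The total averaged value of the exceptional set. -/
def Fam.δ (F : Fam A n) : ℤ := F.ε * ((F.t : ℤ) * F.Y - 1)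

theorem Fam.t_cases (F : Fam A n) : F.t = 1 ∨ 2 ≤ F.t := by
  have := F.t_pos
  omega

theorem Fam.exists_mem (F : Fam A n) (h2 : 2 ≤ F.t) : ∃ φ, φ ∈ F.E :=
  Finset.card_pos.1 (by rw [F.card_E h2]; omega)

theorem Fam.t_of_mem (F : Fam A n) {φ : Cfsg.IrrCharacter G} (h : φ ∈ F.E) : 2 ≤ F.t := by
  rcases F.t_cases with h1 | h1
  · rw [F.E_empty h1] at h; simp at h
  · exact h1

theorem Fam.sum_sq_two (F : Fam A n) (h2 : 2 ≤ F.t) :
    ∑ φ ∈ F.rest, F.X φ ^ 2 + (F.t : ℤ) * F.Y ^ 2 - 2 * F.Y = (n : ℤ) - 1 := by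
  classical
  exact F.sq_sum h2

theorem Fam.sum_sq_one' (F : Fam A n) (h1 : F.t = 1) : ∑ φ ∈ F.rest, F.X φ ^ 2 = (n : ℤ) := by
  classical
  rw [← F.sq_sum_one h1, Fam.rest, F.E_empty h1, Finset.sdiff_empty]

theorem tY_nonneg {t : ℕ} (h2 : 2 ≤ t) (Y : ℤ) : 0 ≤ (t : ℤ) * Y ^ 2 - 2 * Y := by
  have ht : (2 : ℤ) ≤ (t : ℤ) := by exact_mod_cast h2
  have hY : 0 ≤ Y * (Y - 1) := by
    rcases le_or_gt Y 0 with h | h
    · exact mul_nonneg_of_nonpos_of_nonpos h (by omega)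
    · exact mul_nonneg h.le (by omega)
  nlinarith [mul_nonneg (sub_nonneg.2 ht) (sq_nonneg Y)]

theorem Fam.sum_sq_le (F : Fam A n) :
    ∑ φ ∈ F.rest, F.X φ ^ 2 ≤ n ∧ (2 ≤ F.t → ∑ φ ∈ F.rest, F.X φ ^ 2 + 1 ≤ n) := by
  rcases F.t_cases with h1 | h2
  · exact ⟨(F.sum_sq_one' h1).le, fun h => by omega⟩
  · have := F.sum_sq_two h2
    have := tY_nonneg h2 F.Y
    exact ⟨by omega, fun _ => by omega⟩

theorem Fam.X_sq_le (F : Fam A n) {φ : Cfsg.IrrCharacter G} (h : φ ∈ F.rest) :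
    F.X φ ^ 2 ≤ n :=
  (Finset.single_le_sum (f := fun ψ => F.X ψ ^ 2) (fun _ _ => sq_nonneg _) h).trans F.sum_sq_le.1

theorem Fam.degZ_off (F : Fam A n) {φ : Cfsg.IrrCharacter G} (h : φ ∉ F.E) :
    (Char.degree (φ : G → ℂ) : ℤ) =
      F.X φ + (Nat.card (Ab A) : ℤ) * F.c φ + (F.R φ : ℤ) := by
  have h1 := F.deg_off φ h
  rw [← Char.IsCharacter.degree_cast (Char.IsIrrCharacter.isCharacter φ.2)] at h1
  exact_mod_cast h1

theorem Fam.degZ_E (F : Fam A n) {φ : Cfsg.IrrCharacter G} (h : φ ∈ F.E) :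
    (Char.degree (φ : G → ℂ) : ℤ) =
      F.ε * F.Y + F.ε * n + (Nat.card (Ab A) : ℤ) * F.c φ + (F.R φ : ℤ) := by
  have h1 := F.deg_E φ h
  rw [← Char.IsCharacter.degree_cast (Char.IsIrrCharacter.isCharacter φ.2), F.X_E φ h] at h1
  exact_mod_cast h1

theorem Fam.exists_ab_ne_one (F : Fam A n) (hn : 0 < n) : ∃ q : Ab A, q ≠ 1 := by
  by_contra h
  push Not at h
  haveI : Subsingleton (Ab A) := ⟨fun a b => (h a).trans (h b).symm⟩
  have h1 := F.card_ab
  rw [Nat.card_of_subsingleton (1 : Ab A)] at h1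
  have := Nat.mul_pos hn F.t_pos
  omega

/-- Column orthogonality for the averaged values. -/
theorem Fam.sum_fibSum_conj (F : Fam A n) {q : Ab A} (hq : q ≠ 1) {u : G}
    (hu : ∀ b ∈ A, b ≠ 1 → ¬ IsConj b u) :
    ∑ φ : Cfsg.IrrCharacter G, fibSum A (φ : G → ℂ) q * conj ((φ : G → ℂ) u) = 0 := by
  classical
  simp only [fibSum, Finset.sum_mul]
  rw [Finset.sum_comm]
  refine Finset.sum_eq_zero fun b hb => ?_
  rw [Char.sum_mul_conj, if_neg]
  refine hu b b.2 fun h => hq ?_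
  rw [← mem_fib.1 hb, show b = 1 from Subtype.ext h, map_one]

theorem Fam.col_one (F : Fam A n) (hn : 0 < n) (h1 : F.t = 1) {u : G}
    (hu : ∀ b ∈ A, b ≠ 1 → ¬ IsConj b u) :
    1 + ∑ φ ∈ F.rest, (F.X φ : ℂ) * conj ((φ : G → ℂ) u) = 0 := by
  classical
  obtain ⟨q, hq⟩ := F.exists_ab_ne_one hn
  have h := F.sum_fibSum_conj hq hu
  have hk : (kc A : ℂ) ≠ 0 := Nat.cast_ne_zero.2 (Nat.card_pos (α := commutator A)).ne'
  have hE : ∀ φ : Cfsg.IrrCharacter G, φ ∉ F.E := fun φ => by rw [F.E_empty h1]; simp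
  rw [Finset.sum_congr rfl fun φ _ => by rw [F.off φ (hE φ) q hq, mul_assoc], ← Finset.mul_sum] at h
  replace h := (mul_eq_zero.1 h).resolve_left hk
  rw [← Finset.add_sum_erase _ _ (Finset.mem_univ Char.principalIrr), F.X_one, Char.principalIrr_apply,
    map_one, Int.cast_one, one_mul] at h
  rw [Fam.rest, F.E_empty h1, Finset.sdiff_empty]
  exact h

theorem Fam.col_two (F : Fam A n) (hn : 0 < n) {φ₀ : Cfsg.IrrCharacter G} (h₀ : φ₀ ∈ F.E) {u : G}
    (hu : ∀ b ∈ A, b ≠ 1 → ¬ IsConj b u) :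
    1 + ∑ φ ∈ F.rest, (F.X φ : ℂ) * conj ((φ : G → ℂ) u) +
      (F.δ : ℂ) * conj ((φ₀ : G → ℂ) u) = 0 := by
  classical
  obtain ⟨q, hq⟩ := F.exists_ab_ne_one hn
  have h2 := F.t_of_mem h₀
  have h := F.sum_fibSum_conj hq hu
  have hk : (kc A : ℂ) ≠ 0 := Nat.cast_ne_zero.2 (Nat.card_pos (α := commutator A)).ne'
  have hval : ∀ φ ∈ F.E, (φ : G → ℂ) u = (φ₀ : G → ℂ) u := fun φ hφ =>
    F.E_eq φ hφ φ₀ h₀ u fun y hy => by
      by_contra hne
      exact hu _ hy hne (isConj_iff.2 ⟨y, by simp [mul_assoc]⟩)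
  rw [← Finset.sum_sdiff (Finset.subset_univ F.E),
    Finset.sum_congr rfl (fun φ hφ => by rw [F.off φ (Finset.mem_sdiff.1 hφ).2 q hq, mul_assoc]),
    ← Finset.mul_sum, Finset.sum_congr rfl (s₁ := F.E) (fun φ hφ => by rw [hval φ hφ]),
    ← Finset.sum_mul, F.sum_E h2 q hq, mul_assoc, ← mul_add] at h
  replace h := (mul_eq_zero.1 h).resolve_left hk
  rw [← Finset.add_sum_erase _ _ (Finset.mem_sdiff.2 ⟨Finset.mem_univ _, F.one_notMem⟩), F.X_one,
    Char.principalIrr_apply, map_one, Int.cast_one, one_mul] at h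
  exact h

theorem Fam.orth_one (F : Fam A n) (hn : 0 < n) (h1 : F.t = 1) :
    1 + ∑ φ ∈ F.rest, F.X φ * (Char.degree (φ : G → ℂ) : ℤ) = 0 := by
  have h := F.col_one hn h1 (u := 1) fun b _ hb1 hc => hb1 (isConj_one_left.1 hc)
  simp only [← Char.IsCharacter.degree_cast (Char.IsIrrCharacter.isCharacter (Subtype.prop _)),
    map_natCast] at h
  exact_mod_cast h

theorem Fam.orth_two (F : Fam A n) (hn : 0 < n) {φ₀ : Cfsg.IrrCharacter G} (h₀ : φ₀ ∈ F.E) :
    1 + ∑ φ ∈ F.rest, F.X φ * (Char.degree (φ : G → ℂ) : ℤ) +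
      F.δ * (Char.degree (φ₀ : G → ℂ) : ℤ) = 0 := by
  have h := F.col_two hn h₀ (u := 1) fun b _ hb1 hc => hb1 (isConj_one_left.1 hc)
  simp only [← Char.IsCharacter.degree_cast (Char.IsIrrCharacter.isCharacter (Subtype.prop _)),
    map_natCast] at h
  exact_mod_cast h

/-- Some character of odd degree has an odd value or is exceptional. -/
theorem Fam.exists_odd (F : Fam A n) (hn : 0 < n) :
    ∃ φ : Cfsg.IrrCharacter G, φ ≠ Char.principalIrr ∧ Odd (Char.degree (φ : G → ℂ)) ∧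
      (φ ∈ F.E ∨ φ ∈ F.rest ∧ ¬ (2 : ℤ) ∣ F.X φ) := by
  by_contra hcon
  push Not at hcon
  have hsum : (2 : ℤ) ∣ ∑ φ ∈ F.rest, F.X φ * (Char.degree (φ : G → ℂ) : ℤ) := by
    refine Finset.dvd_sum fun φ hφ => ?_
    by_cases ho : Odd (Char.degree (φ : G → ℂ))
    · exact (((hcon φ (F.mem_rest.1 hφ).1 ho).2 hφ)).mul_right _
    · exact (Int.natCast_dvd_natCast.2 (Nat.not_odd_iff_even.1 ho).two_dvd).mul_left _
  rcases F.t_cases with h1 | h2
  · have := F.orth_one hn h1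
    omega
  · obtain ⟨φ₀, h₀⟩ := F.exists_mem h2
    have := F.orth_two hn h₀
    have hD : (2 : ℤ) ∣ F.δ * (Char.degree (φ₀ : G → ℂ) : ℤ) := by
      refine (Int.natCast_dvd_natCast.2 (Nat.not_odd_iff_even.1 fun ho => ?_).two_dvd).mul_left _
      exact (hcon φ₀ (fun h => F.one_notMem (h ▸ h₀)) ho).1 h₀
    omega

section Comm

variable (F : Fam A n) (hc : ∀ x ∈ A, ∀ y ∈ A, x * y = y * x)
include hc

theorem Fam.card_comm : Nat.card A = n * F.t + 1 := by
  classical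
  haveI := Fintype.ofFinite (Ab A)
  rw [card_eq_kc_mul A, ← F.card_ab, (fibSum_of_comm hc (fun _ => 1) 1).2, one_mul]

theorem Fam.off_apply {φ : Cfsg.IrrCharacter G} (h : φ ∉ F.E) {b : G} (hb : b ∈ A) (hb1 : b ≠ 1) :
    (φ : G → ℂ) b = (F.X φ : ℂ) := by
  classical
  haveI := Fintype.ofFinite (Ab A)
  obtain ⟨h1, hk⟩ := fibSum_of_comm hc (φ : G → ℂ) ⟨b, hb⟩
  have hq : Abelianization.of (⟨b, hb⟩ : A) ≠ 1 := fun he => hb1 (by
    have h0 := (QuotientGroup.eq_one_iff _).1 he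
    have hbot : Nat.card (commutator A) = 1 := hk
    rw [Subgroup.card_eq_one] at hbot
    rw [hbot, Subgroup.mem_bot] at h0
    exact congrArg Subtype.val h0)
  rw [← h1, F.off φ h _ hq, hk, Nat.cast_one, one_mul]

theorem Fam.sum_E_apply (h2 : 2 ≤ F.t) {b : G} (hb : b ∈ A) (hb1 : b ≠ 1) :
    ∑ φ ∈ F.E, (φ : G → ℂ) b = (F.δ : ℂ) := by
  classical
  haveI := Fintype.ofFinite (Ab A)
  have hk := (fibSum_of_comm hc (fun _ => (0 : ℂ)) ⟨b, hb⟩).2
  have hq : Abelianization.of (⟨b, hb⟩ : A) ≠ 1 := fun he => hb1 (by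
    have h0 := (QuotientGroup.eq_one_iff _).1 he
    have hbot : Nat.card (commutator A) = 1 := hk
    rw [Subgroup.card_eq_one] at hbot
    rw [hbot, Subgroup.mem_bot] at h0
    exact congrArg Subtype.val h0)
  have h := F.sum_E h2 _ hq
  rw [hk, Nat.cast_one, one_mul] at h
  rw [Fam.δ, ← h]
  exact Finset.sum_congr rfl fun φ _ => ((fibSum_of_comm hc (φ : G → ℂ) ⟨b, hb⟩).1).symm

theorem Fam.R_zero (φ : Cfsg.IrrCharacter G) : F.R φ = 0 := by
  haveI : IsMulCommutative A := ⟨⟨fun x y => Subtype.ext (hc x x.2 y y.2)⟩⟩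
  refine Nat.eq_zero_of_zero_dvd (F.R_dvd φ 0 fun p hp => absurd ?_ hp)
  obtain ⟨k, ρ, hρ, hρp⟩ := p.2
  rw [← hρp, Representation.char_one,
    Representation.IsIrreducible.finrank_eq_one_of_isMulCommutative ρ, Nat.cast_one]

theorem Fam.degC_off {φ : Cfsg.IrrCharacter G} (h : φ ∉ F.E) :
    (Char.degree (φ : G → ℂ) : ℤ) = F.X φ + (Nat.card A : ℤ) * F.c φ := by
  rw [F.degZ_off h, F.R_zero hc φ, F.card_comm hc, ← F.card_ab]
  push_cast
  ring

theorem Fam.degC_E {φ : Cfsg.IrrCharacter G} (h : φ ∈ F.E) :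
    (Char.degree (φ : G → ℂ) : ℤ) = F.ε * F.Y + F.ε * n + (Nat.card A : ℤ) * F.c φ := by
  rw [F.degZ_E h, F.R_zero hc φ, F.card_comm hc, ← F.card_ab]
  push_cast
  ring

/-- Characters of degree divisible by `l` are not exceptional and vanish. -/
theorem Fam.vanish {l k : ℕ} (hl : l = 3 ∨ l = 5) (hcard : Nat.card A = l ^ k)
    (hn : n = 4 ∨ n = 8) {φ : Cfsg.IrrCharacter G} (hφ : φ ≠ Char.principalIrr)
    (hd : l ∣ Char.degree (φ : G → ℂ)) :
    φ ∉ F.E ∧ F.X φ = 0 ∧ ∀ b ∈ A, b ≠ 1 → (φ : G → ℂ) b = 0 := by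
  have hA := F.card_comm hc
  have hnt : 4 ≤ n * F.t := le_trans (by omega) (Nat.mul_le_mul_left n F.t_pos)
  have hk : 1 ≤ k := by
    by_contra hk
    rw [Nat.lt_one_iff.1 (by omega : k < 1), pow_zero] at hcard
    omega
  have hlA : (l : ℤ) ∣ (Nat.card A : ℤ) := by
    rw [hcard]
    exact_mod_cast dvd_pow_self l (by omega : k ≠ 0)
  have hlD : (l : ℤ) ∣ (Char.degree (φ : G → ℂ) : ℤ) := Int.natCast_dvd_natCast.2 hd
  have hnotE : φ ∉ F.E := by
    intro hE
    have h2 := F.t_of_mem hE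
    have hsq := F.sum_sq_two h2
    have hnn : 0 ≤ ∑ φ ∈ F.rest, F.X φ ^ 2 := Finset.sum_nonneg fun _ _ => sq_nonneg _
    have hbd : (F.t : ℤ) * F.Y ^ 2 - 2 * F.Y ≤ 7 := by rcases hn with rfl | rfl <;> omega
    have ht2 : (2 : ℤ) ≤ (F.t : ℤ) := by exact_mod_cast h2
    have hY : -2 ≤ F.Y ∧ F.Y ≤ 2 := by
      constructor <;> nlinarith [mul_nonneg (sub_nonneg.2 ht2) (sq_nonneg F.Y)]
    rw [F.degC_E hc hE, dvd_add_left (hlA.mul_right _), ← mul_add] at hlD
    have hlY : (l : ℤ) ∣ F.Y + n := by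
      rcases F.eps with h | h <;> rw [h] at hlD
      · simpa using hlD
      · rw [show (-1 : ℤ) * (F.Y + n) = -(F.Y + n) by ring, dvd_neg] at hlD
        exact hlD
    obtain ⟨hY1, hY2⟩ := hY
    rcases eq_or_ne F.Y 0 with hY0 | hY0
    · rw [hY0, zero_add] at hlY
      rcases hn with rfl | rfl <;> rcases hl with rfl | rfl <;> norm_num at hlY
    · have hYsq : 1 ≤ F.Y ^ 2 := by
        have := Int.one_le_abs hY0
        nlinarith [sq_abs F.Y]
      have ht : (F.t : ℤ) ≤ 11 := by nlinarith [mul_nonneg (show (0 : ℤ) ≤ F.t by omega) (sub_nonneg.2 hYsq)]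
      have ht' : F.t ≤ 11 := by exact_mod_cast ht
      have hk5 : k < 5 := by
        by_contra hk5
        have h243 : 3 ^ 5 ≤ l ^ k := (Nat.pow_le_pow_right (by norm_num) (not_lt.1 hk5)).trans
          (Nat.pow_le_pow_left (by omega) k)
        rcases hn with rfl | rfl <;> omega
      rw [hcard] at hA
      generalize F.t = t at *
      generalize F.Y = Y at *
      rcases hn with rfl | rfl <;> rcases hl with rfl | rfl <;> interval_cases k <;>
        norm_num at hA <;> (try omega) <;> interval_cases Y <;> omega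
  have hrest : φ ∈ F.rest := F.mem_rest.2 ⟨hφ, hnotE⟩
  have hX2 : F.X φ ^ 2 ≤ 8 := (F.X_sq_le hrest).trans (by rcases hn with rfl | rfl <;> norm_num)
  rw [F.degC_off hc hnotE, dvd_add_left (hlA.mul_right _)] at hlD
  have hX : F.X φ = 0 := by
    obtain ⟨j, hj⟩ := hlD
    by_contra h0
    have hj0 : j ≠ 0 := fun h => h0 (by rw [hj, h, mul_zero])
    have h1 : 1 ≤ j ^ 2 := by nlinarith [Int.one_le_abs hj0, sq_abs j]
    rw [hj, mul_pow] at hX2
    rcases hl with rfl | rfl <;> push_cast at hX2 <;> omega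
  exact ⟨hnotE, hX, fun b hb hb1 => by rw [F.off_apply hc hnotE hb hb1, hX, Int.cast_zero]⟩

end Comm

/-- For an `l`-group the nonlinear part is divisible by `l`. -/
theorem Fam.dvd_R (F : Fam A n) {l : ℕ} (hl : l.Prime) (hA : IsPGroup l A)
    (φ : Cfsg.IrrCharacter G) : l ∣ F.R φ := by
  haveI := Fact.mk hl
  obtain ⟨k, hk⟩ := hA.exists_card_eq
  refine F.R_dvd φ l fun p hp => ?_
  have hd := CharTools.degree_dvd_card p
  rw [hk] at hd
  obtain ⟨j, -, hj⟩ := (Nat.dvd_prime_pow hl).1 hd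
  have h1 := Char.IsCharacter.degree_cast (Char.IsIrrCharacter.isCharacter p.2)
  rw [show Char.degree (p : A → ℂ) = l ^ j from hj] at h1
  rcases j with _ | j
  · rw [pow_zero, Nat.cast_one] at h1
    exact absurd h1.symm hp
  · exact ⟨l ^ j, by rw [← pow_succ']; exact h1.symm⟩

end Fams

/-- The hypotheses. -/
structure Ctx (G : Type u) [Group G] : Prop where
  small : Small G
  ne : ¬ IsMulCommutative G
  h2 : 2 ∣ Nat.card G
  h3 : 3 ∣ Nat.card G
  h5 : 5 ∣ Nat.card G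

section Group'

variable {G : Type u} [Group G] [Finite G]

theorem prime_cases (hs : Small G) {r : ℕ} (hr : r.Prime) (hd : r ∣ Nat.card G) :
    r = 2 ∨ r = 3 ∨ r = 5 := by
  haveI := Fact.mk hr
  obtain ⟨x, hx⟩ := exists_prime_orderOf_dvd_card' r hd
  have := hs x
  have := hr.two_le
  rcases hs.cases x with h | h | h | h | h <;> rw [hx] at h
  · omega
  · omega
  · omega
  · exact absurd (h ▸ hr) (by norm_num)
  · omega

theorem card_sylow_index {l : ℕ} [Fact l.Prime] (A : Sylow l G) {n : ℕ}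
    (hn : n * Nat.card (A : Subgroup G) =
      Nat.card (Subgroup.normalizer ((A : Subgroup G) : Set G))) :
    ∃ j, j % l = 1 ∧ j * (n * Nat.card (A : Subgroup G)) = Nat.card G := by
  refine ⟨(Subgroup.normalizer ((A : Subgroup G) : Set G)).index, ?_, ?_⟩
  · have h := card_sylow_modEq_one l G
    rw [A.card_eq_index_normalizer] at h
    refine Eq.trans h ?_
    rw [Nat.one_mod_eq_one]
    exact (Fact.out : l.Prime).ne_one
  · rw [hn, Subgroup.index_mul_card]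

theorem card_factor (hs : Small G) (S : Sylow 2 G) (P : Sylow 3 G) (Q : Sylow 5 G) :
    Nat.card G = Nat.card (S : Subgroup G) * Nat.card (P : Subgroup G) * Nat.card (Q : Subgroup G) := by
  haveI := Fact.mk Nat.prime_two
  haveI := Fact.mk Nat.prime_three
  haveI : Fact (Nat.Prime 5) := ⟨by norm_num⟩
  rw [Sylow.card_eq_multiplicity, Sylow.card_eq_multiplicity, Sylow.card_eq_multiplicity]
  refine Nat.eq_of_factorization_eq Nat.card_pos.ne' (by positivity) fun r => ?_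
  have h2 : (2 : ℕ).Prime := Nat.prime_two
  have h3 : (3 : ℕ).Prime := Nat.prime_three
  have h5 : (5 : ℕ).Prime := by norm_num
  rw [Nat.factorization_mul (by positivity) (by positivity),
    Nat.factorization_mul (by positivity) (by positivity)]
  simp only [Finsupp.add_apply, h2.factorization_pow, h3.factorization_pow, h5.factorization_pow]
  by_cases hr : r.Prime ∧ r ∣ Nat.card G
  · rcases prime_cases hs hr.1 hr.2 with rfl | rfl | rfl <;> simp
  · have h0 : (Nat.card G).factorization r = 0 := by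
      rw [Nat.factorization_eq_zero_iff]
      tauto
    rw [h0]
    have key : ∀ s : ℕ, s.Prime →
        (Finsupp.single s ((Nat.card G).factorization s)) r = 0 := by
      intro s _
      rw [Finsupp.single_apply]
      split_ifs with h
      · rw [h]; exact h0
      · rfl
    rw [key 2 h2, key 3 h3, key 5 h5]

/-- A Sylow two-subgroup is the centralizer of an involution. -/
theorem exists_invol (hs : Small G) (h2 : 2 ∣ Nat.card G) (S : Sylow 2 G) :
    ∃ z : G, orderOf z = 2 ∧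
      Nat.card (Subgroup.centralizer ({z} : Set G)) = Nat.card (S : Subgroup G) := by
  haveI : Fact (Nat.Prime 2) := ⟨Nat.prime_two⟩
  haveI : Nontrivial (S : Subgroup G) :=
    (Subgroup.nontrivial_iff_ne_bot _).2 (S.ne_bot_of_dvd_card h2)
  haveI := S.2.center_nontrivial
  obtain ⟨w, hw⟩ := exists_prime_orderOf_dvd_card' (G := Subgroup.center (S : Subgroup G)) 2 (by
    obtain ⟨k, hk⟩ := (S.2.to_subgroup (Subgroup.center (S : Subgroup G))).exists_card_eq
    rw [hk]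
    refine dvd_pow_self 2 fun h0 => ?_
    rw [h0, pow_zero] at hk
    exact (Finite.one_lt_card (α := Subgroup.center (S : Subgroup G))).ne' hk)
  set z : G := ((w : (S : Subgroup G)) : G) with hzdef
  have hz : orderOf z = 2 := by rw [hzdef, Subgroup.orderOf_coe, Subgroup.orderOf_coe, hw]
  refine ⟨z, hz, ?_⟩
  have hle : (S : Subgroup G) ≤ Subgroup.centralizer ({z} : Set G) := fun x hx =>
    Subgroup.mem_centralizer_singleton_iff.2
      (congrArg Subtype.val (Subgroup.mem_center_iff.1 w.2 ⟨x, hx⟩))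
  have hp : IsPGroup 2 (Subgroup.centralizer ({z} : Set G)) := by
    rintro ⟨g, hg⟩
    refine ⟨2, Subtype.ext ?_⟩
    show g ^ 2 ^ 2 = 1
    have hcomm := (Subgroup.mem_centralizer_singleton_iff.1 hg).symm
    rcases hs.cases g with h | h | h | h | h
    · rw [orderOf_eq_one_iff.1 h, one_pow]
    · exact orderOf_dvd_iff_pow_eq_one.1 (by rw [h]; norm_num)
    · exact absurd hcomm (not_commute_two hs (Or.inl ⟨rfl, rfl⟩) hz h)
    · exact orderOf_dvd_iff_pow_eq_one.1 (by rw [h]; norm_num)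
    · exact absurd hcomm (not_commute_two hs (Or.inr ⟨rfl, rfl⟩) hz h)
  rw [S.is_maximal' hp hle]

/-- Degrees are products of powers of two, three and five. -/
theorem degree_shape (hs : Small G) (S : Sylow 2 G) (P : Sylow 3 G) (Q : Sylow 5 G)
    (φ : Cfsg.IrrCharacter G) :
    ∃ x y z, Char.degree (φ : G → ℂ) = 2 ^ x * 3 ^ y * 5 ^ z ∧
      3 ^ y ∣ Nat.card (P : Subgroup G) ∧ 5 ^ z ∣ Nat.card (Q : Subgroup G) := by
  haveI := Fact.mk Nat.prime_two
  haveI := Fact.mk Nat.prime_three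
  haveI : Fact (Nat.Prime 5) := ⟨by norm_num⟩
  have hd : Char.degree (φ : G → ℂ) ∣ Nat.card G := CharTools.degree_dvd_card φ
  rw [card_factor hs S P Q] at hd
  obtain ⟨d₁, d₅, hd1, hd5, he⟩ := Nat.dvd_mul.1 hd
  obtain ⟨d₂, d₃, hd2, hd3, he'⟩ := Nat.dvd_mul.1 hd1
  obtain ⟨x, hx⟩ : ∃ x, d₂ = 2 ^ x := by
    rw [Sylow.card_eq_multiplicity] at hd2
    obtain ⟨x, -, hx⟩ := (Nat.dvd_prime_pow Nat.prime_two).1 hd2
    exact ⟨x, hx⟩
  obtain ⟨y, hy⟩ : ∃ y, d₃ = 3 ^ y := by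
    rw [Sylow.card_eq_multiplicity] at hd3
    obtain ⟨y, -, hy⟩ := (Nat.dvd_prime_pow Nat.prime_three).1 hd3
    exact ⟨y, hy⟩
  obtain ⟨z, hz⟩ : ∃ z, d₅ = 5 ^ z := by
    rw [Sylow.card_eq_multiplicity] at hd5
    obtain ⟨z, -, hz⟩ := (Nat.dvd_prime_pow (by norm_num : Nat.Prime 5)).1 hd5
    exact ⟨z, hz⟩
  exact ⟨x, y, z, by rw [← he, ← he', hx, hy, hz], hy ▸ hd3, hz ▸ hd5⟩

theorem not_conj_sylow (hs : Small G) {l m : ℕ} (hl : Pair35 l m) (A : Sylow l G) (B : Sylow m G) :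
    ∀ b ∈ (A : Subgroup G), b ≠ 1 → ∀ u ∈ (B : Subgroup G), ¬ IsConj b u := by
  intro b hb hb1 u hu hc
  obtain ⟨g, rfl⟩ := isConj_iff.1 hc
  have h1 := orderOf_eq_of_mem hs hl A.2 hb hb1
  have h2 := orderOf_eq_of_mem hs hl.symm B.2 hu fun h => hb1 (conj_eq_one_iff.1 h)
  rw [Invol.orderOf_conj, h1] at h2
  rcases hl with ⟨rfl, rfl⟩ | ⟨rfl, rfl⟩ <;> omega

end Group'

end CfsgLib.SpecFive
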