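import Cfsg.Agent.Lib.CA.Chars
import Cfsg.Agent.Lib.CN.NilCent
import Cfsg.Agent.Lib.CN.SinglePrime
import Cfsg.Agent.Lib.Frobenius.Fpf
import Cfsg.Agent.Lib.Invol.BaerSuzuki
import Cfsg.Agent.Lib.Counting.TI
import Mathlib.GroupTheory.FixedPointFree

/-!
# Sylow subgroups for three and five when all element orders are at most five
-/

set_option autoImplicit false
set_option linter.style.haveILetI false
set_option linter.unusedSectionVars false

namespace CfsgLib.SpecFive

open Subgroup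

universe u

/-- All element orders are at most five. -/
def Small (G : Type u) [Group G] : Prop := ∀ g : G, orderOf g ≤ 5

/-- The two odd primes occurring. -/
def Pair35 (l m : ℕ) : Prop := l = 3 ∧ m = 5 ∨ l = 5 ∧ m = 3

theorem Pair35.prime {l m : ℕ} (h : Pair35 l m) : l.Prime := by
  rcases h with ⟨rfl, -⟩ | ⟨rfl, -⟩ <;> norm_num

theorem Pair35.symm {l m : ℕ} (h : Pair35 l m) : Pair35 m l := by
  rcases h with h | h
  · exact Or.inr ⟨h.2, h.1⟩
  · exact Or.inl ⟨h.2, h.1⟩

variable {G : Type u} [Group G] [Finite G]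

theorem Small.cases (hs : Small G) (g : G) : orderOf g = 1 ∨ orderOf g = 2 ∨ orderOf g = 3 ∨
    orderOf g = 4 ∨ orderOf g = 5 := by
  have h1 := hs g
  have h2 := orderOf_pos g
  omega

theorem Small.subgroup (hs : Small G) (H : Subgroup G) : Small H := fun g => by
  rw [← Subgroup.orderOf_coe]; exact hs g

theorem Small.quotient (hs : Small G) (N : Subgroup G) [N.Normal] : Small (G ⧸ N) := fun q => by
  obtain ⟨g, rfl⟩ := QuotientGroup.mk'_surjective N q
  exact (Nat.le_of_dvd (orderOf_pos g) (orderOf_map_dvd _ g)).trans (hs g)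

variable {l m : ℕ}

theorem pow_eq_one_of_commute (hs : Small G) (hl : Pair35 l m) {x g : G} (hx : orderOf x = l)
    (h : g * x = x * g) : g ^ l = 1 := by
  have hc : (orderOf g).Coprime (orderOf x) → orderOf g = 1 := fun hcop => by
    have h1 : orderOf (g * x) = orderOf g * orderOf x :=
      Commute.orderOf_mul_eq_mul_orderOf_of_coprime h hcop
    have h2 := hs (g * x)
    rw [h1, hx] at h2
    have := orderOf_pos g
    rcases hl with ⟨rfl, -⟩ | ⟨rfl, -⟩ <;> omega
  rw [← orderOf_dvd_iff_pow_eq_one]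
  rw [hx] at hc
  rcases hs.cases g with h' | h' | h' | h' | h' <;> rw [h'] at hc ⊢ <;>
    rcases hl with ⟨rfl, -⟩ | ⟨rfl, -⟩ <;>
    first
    | exact dvd_refl _
    | exact one_dvd _
    | exact absurd (hc (by norm_num)) (by norm_num)

theorem not_commute_two (hs : Small G) (hl : Pair35 l m) {u x : G} (hu : orderOf u = 2)
    (hx : orderOf x = l) : u * x ≠ x * u := fun h => by
  have h1 := orderOf_dvd_of_pow_eq_one (pow_eq_one_of_commute hs hl hx h)
  rw [hu] at h1
  rcases hl with ⟨rfl, -⟩ | ⟨rfl, -⟩ <;> omega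

theorem not_commute_other (hs : Small G) (hl : Pair35 l m) {g x : G} (hg : orderOf g = m)
    (hx : orderOf x = l) : g * x ≠ x * g := fun h => by
  have h1 := orderOf_dvd_of_pow_eq_one (pow_eq_one_of_commute hs hl hx h)
  rw [hg] at h1
  rcases hl with ⟨rfl, rfl⟩ | ⟨rfl, rfl⟩ <;> omega

/-- An element of a subgroup of `l`-power order has order dividing `l`. -/
theorem pow_eq_one_of_isPGroup (hs : Small G) (hl : Pair35 l m) {D : Subgroup G}
    (hD : IsPGroup l D) {x : G} (hx : x ∈ D) : x ^ l = 1 := by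
  obtain ⟨k, hk⟩ := hD ⟨x, hx⟩
  have hk' : x ^ l ^ k = 1 := congrArg Subtype.val hk
  obtain ⟨j, -, hj⟩ := (Nat.dvd_prime_pow hl.prime).1 (orderOf_dvd_of_pow_eq_one hk')
  rw [← orderOf_dvd_iff_pow_eq_one, hj]
  have h5 := hs x
  rw [hj] at h5
  rcases j with _ | _ | j
  · exact one_dvd _
  · rw [pow_one]
  · exfalso
    have : l ^ 2 ≤ l ^ (j + 1 + 1) := Nat.pow_le_pow_right hl.prime.pos (by omega)
    rcases hl with ⟨rfl, -⟩ | ⟨rfl, -⟩ <;> omega

theorem orderOf_eq_of_mem (hs : Small G) (hl : Pair35 l m) {D : Subgroup G} (hD : IsPGroup l D)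
    {x : G} (hx : x ∈ D) (h1 : x ≠ 1) : orderOf x = l := by
  haveI := Fact.mk hl.prime
  exact orderOf_eq_prime (pow_eq_one_of_isPGroup hs hl hD hx) h1

/-- The centralizer of an element of order `l` is an `l`-group. -/
theorem isPGroup_centralizer (hs : Small G) (hl : Pair35 l m) {x : G} (hx : orderOf x = l) :
    IsPGroup l (centralizer ({x} : Set G)) := fun g => ⟨1, Subtype.ext (by
  rw [pow_one]
  exact pow_eq_one_of_commute hs hl hx (mem_centralizer_singleton_iff.1 g.2))⟩

theorem inverts (hs : Small G) (hl : Pair35 l m) {D : Subgroup G} (hD : IsPGroup l D) {u : G}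
    (hu : orderOf u = 2) (huD : u ∈ normalizer (D : Set G)) :
    (∀ d ∈ D, u * d * u⁻¹ = d⁻¹) ∧ ∀ a ∈ D, ∀ b ∈ D, a * b = b * a := by
  let φ := CA.conjA D ⟨u, huD⟩
  have hfpf : MonoidHom.FixedPointFree (φ : D ≃* D) := fun d hd => by
    by_contra h1
    exact not_commute_two hs hl hu
      (orderOf_eq_of_mem hs hl hD d.2 fun h => h1 (Subtype.ext h))
      (mul_inv_eq_iff_eq_mul.1 (congrArg Subtype.val hd))
  have hinv : Function.Involutive φ := fun d => by
    refine Subtype.ext ?_
    show u * (u * d * u⁻¹) * u⁻¹ = d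
    rw [Invol.inv_eq_self hu]
    simp only [mul_assoc, Invol.mul_self_eq_one hu]
    rw [mul_one, ← mul_assoc, Invol.mul_self_eq_one hu, one_mul]
  refine ⟨fun d hd => ?_, fun a ha b hb => ?_⟩
  · exact congrArg Subtype.val
      (congrFun (MonoidHom.FixedPointFree.coe_eq_inv_of_involutive hfpf hinv) ⟨d, hd⟩)
  · exact congrArg Subtype.val
      (MonoidHom.FixedPointFree.commute_all_of_involutive hfpf hinv ⟨a, ha⟩ ⟨b, hb⟩)

theorem exists_involution_or_odd (hs : Small G) (hl : Pair35 l m) (L : Subgroup G) :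
    (∃ u ∈ L, orderOf u = 2) ∨ ∀ g ∈ L, g = 1 ∨ orderOf g = l ∨ orderOf g = m := by
  by_cases h : ∃ u ∈ L, orderOf u = 2
  · exact Or.inl h
  refine Or.inr fun g hg => ?_
  rcases hs.cases g with h' | h' | h' | h' | h'
  · exact Or.inl (orderOf_eq_one_iff.1 h')
  · exact absurd ⟨g, hg, h'⟩ h
  · rcases hl with ⟨rfl, rfl⟩ | ⟨rfl, rfl⟩ <;> omega
  · refine absurd ⟨g ^ 2, pow_mem hg 2, ?_⟩ h
    rw [orderOf_pow, h']
    rfl
  · rcases hl with ⟨rfl, rfl⟩ | ⟨rfl, rfl⟩ <;> omega

/-- An `m`-subgroup normalizing a nontrivial `l`-subgroup has order at most `m`. -/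
theorem card_le_of_normalizes (hs : Small G) (hl : Pair35 l m) {D S : Subgroup G}
    (hD : IsPGroup l D) (hD1 : D ≠ ⊥) (hS : IsPGroup m S) (hSD : S ≤ normalizer (D : Set G))
    {j : ℕ} (hj : Nat.card S = m ^ j) : j ≤ 1 := by
  haveI := Fact.mk hl.prime
  haveI := Fact.mk hl.symm.prime
  by_contra hj2
  obtain ⟨A₂, hA₂⟩ := Sylow.exists_subgroup_card_pow_prime (G := S) m (n := 2)
    (hj ▸ pow_dvd_pow m (by omega))
  set A := A₂.map S.subtype with hA
  have hAS : A ≤ S := map_subtype_le A₂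
  have hAc : Nat.card A = m ^ 2 := by
    rw [hA, Subgroup.card_map_of_injective S.subtype_injective, hA₂]
  haveI : Nontrivial D := (nontrivial_iff_ne_bot D).2 hD1
  set V := (center D).map D.subtype with hV
  have hVD : V ≤ D := map_subtype_le _
  haveI hVc : IsMulCommutative V := ⟨⟨by
    rintro ⟨a, a', ha', rfl⟩ ⟨b, b', hb', rfl⟩
    exact Subtype.ext (show (a' : G) * b' = b' * a' from
      congrArg Subtype.val (mem_center_iff.1 hb' a'))⟩⟩
  haveI := hD.center_nontrivial
  have hV1 : V ≠ ⊥ := by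
    rw [hV, Ne, map_eq_bot_iff_of_injective _ D.subtype_injective]
    exact (nontrivial_iff_ne_bot _).1 inferInstance
  refine hV1 (Frobenius.eq_bot_of_elementary_fpf (A := A) (V := V) ?_ ?_ hl.symm.prime hAc ?_)
  · refine fun a ha => mem_normalizer_iff.2 fun v => ?_
    have key : ∀ a ∈ S, ∀ v ∈ V, a * v * a⁻¹ ∈ V := by
      rintro a ha _ ⟨v, hv, rfl⟩
      refine ⟨CA.conjA D ⟨a, hSD ha⟩ v, ?_, rfl⟩
      refine mem_center_iff.2 fun w => ?_
      obtain ⟨w, rfl⟩ := (CA.conjA D ⟨a, hSD ha⟩).surjective w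
      rw [← map_mul, ← map_mul, mem_center_iff.1 hv w]
    refine ⟨key a (hAS ha) v, fun h => ?_⟩
    have := key a⁻¹ (inv_mem (hAS ha)) _ h
    simpa [mul_assoc] using this
  · intro a ha ha1
    rw [eq_bot_iff]
    rintro v ⟨hv, hva⟩
    by_contra hv1
    exact not_commute_other hs hl (orderOf_eq_of_mem hs hl.symm hS (hAS ha) ha1)
      (orderOf_eq_of_mem hs hl hD (hVD hv) hv1) (mem_centralizer_singleton_iff.1 hva).symm
  · exact fun a ha => pow_eq_one_of_isPGroup hs hl.symm hS (hAS ha)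

/-- A subgroup all whose elements have order `1`, `l` or `m` normalizing a nontrivial `l`-group. -/
theorem index_sylow_dvd (hs : Small G) (hl : Pair35 l m) {D L : Subgroup G} (hD : IsPGroup l D)
    (hD1 : D ≠ ⊥) (hLD : L ≤ normalizer (D : Set G))
    (hL : ∀ g ∈ L, g = 1 ∨ orderOf g = l ∨ orderOf g = m) (P : Sylow l L) :
    (P : Subgroup L).index ∣ m := by
  haveI := Fact.mk hl.prime
  haveI := Fact.mk hl.symm.prime
  set d := (P : Subgroup L).index with hd
  have hd0 : d ≠ 0 := Subgroup.index_ne_zero_of_finite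
  obtain ⟨S⟩ : Nonempty (Sylow m L) := inferInstance
  have hall : ∀ {q : ℕ}, q.Prime → q ∣ d → q = m := by
    intro q hq hqd
    haveI := Fact.mk hq
    obtain ⟨x, hx⟩ := exists_prime_orderOf_dvd_card' q (hqd.trans (Subgroup.index_dvd_card _))
    rw [← Subgroup.orderOf_coe] at hx
    rcases hL x x.2 with h | h | h
    · rw [h, orderOf_one] at hx; exact absurd hx.symm hq.ne_one
    · exact absurd (hx.symm.trans h ▸ hqd) P.not_dvd_index
    · exact hx.symm.trans h
  have hdm := Nat.eq_prime_pow_of_unique_prime_dvd hd0 hall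
  have hjc := Sylow.card_eq_multiplicity S
  have hle := card_le_of_normalizes hs hl hD hD1 (S := (S : Subgroup L).map L.subtype)
    (S.2.map _) ((map_subtype_le _).trans hLD) (j := (Nat.card L).factorization m)
    (by rw [Subgroup.card_map_of_injective L.subtype_injective]; exact hjc)
  have hdl : d ∣ Nat.card L := Subgroup.index_dvd_card _
  rw [hdm] at hdl ⊢
  exact (pow_dvd_pow m (((hl.symm.prime.pow_dvd_iff_le_factorization Nat.card_pos.ne').1 hdl).trans
    hle)).trans (by rw [pow_one])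

/-- The `l`-elements normalizing a nontrivial `l`-subgroup lie in one `l`-subgroup. -/
theorem exists_local_core (hs : Small G) (hl : Pair35 l m) {D : Subgroup G} (hD : IsPGroup l D)
    (hD1 : D ≠ ⊥) :
    ∃ K : Subgroup G, IsPGroup l K ∧ ∀ x ∈ normalizer (D : Set G), x ^ l = 1 → x ∈ K := by
  haveI := Fact.mk hl.prime
  obtain ⟨d, hd, hd1⟩ := (ne_bot_iff_exists_ne_one (H := D)).1 hD1 |> fun ⟨d, h⟩ =>
    (⟨(d : G), d.2, fun h' => h (Subtype.ext h')⟩ : ∃ d : G, d ∈ D ∧ d ≠ 1)
  rcases exists_involution_or_odd hs hl (normalizer (D : Set G)) with ⟨u, huD, hu⟩ | hodd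
  · obtain ⟨hinv, -⟩ := inverts hs hl hD hu huD
    have hKp : IsPGroup l (centralizer (D : Set G)) :=
      (isPGroup_centralizer hs hl (orderOf_eq_of_mem hs hl hD hd hd1)).to_le
        (centralizer_le (by simpa using hd))
    refine ⟨centralizer (D : Set G), hKp, fun x hx hxl => ?_⟩
    set u' := x * u * x⁻¹ with hu'
    have hu'2 : orderOf u' = 2 := by rw [hu', Invol.orderOf_conj, hu]
    have hinv' := (inverts hs hl hD hu'2 (mul_mem (mul_mem hx huD) (inv_mem hx))).1
    set w := u' * u with hw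
    have hwK : w ∈ centralizer (D : Set G) := by
      refine mem_centralizer_iff.2 fun a ha => ?_
      have h1 : w * a * w⁻¹ = a := by
        calc w * a * w⁻¹ = u' * (u * a * u⁻¹) * u'⁻¹ := by rw [hw]; group
          _ = a := by rw [hinv a ha, hinv' a⁻¹ (inv_mem ha), inv_inv]
      exact (mul_inv_eq_iff_eq_mul.1 h1).symm
    have hwl : w ^ l = 1 := pow_eq_one_of_isPGroup hs hl hKp hwK
    have huw : u * w * u⁻¹ = w⁻¹ := by
      rw [hw, mul_inv_rev, Invol.inv_eq_self hu, Invol.inv_eq_self hu'2]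
      rw [mul_assoc u (u' * u) u, mul_assoc u' u u, Invol.mul_self_eq_one hu, mul_one]
    obtain ⟨e, he⟩ : ∃ e, l = 2 * e + 1 := by
      rcases hl with ⟨rfl, -⟩ | ⟨rfl, -⟩
      · exact ⟨1, rfl⟩
      · exact ⟨2, rfl⟩
    set k := (w ^ e) with hk
    have hk2 : k * k = w⁻¹ := by
      refine eq_inv_of_mul_eq_one_left ?_
      rw [hk, ← pow_add, ← pow_succ, ← two_mul, ← he, hwl]
    have huk : u * k⁻¹ = k * u := by
      have : u * k * u⁻¹ = k⁻¹ := by rw [hk, ← conj_pow, huw, inv_pow]
      calc u * k⁻¹ = u * (u * k * u⁻¹) := by rw [this]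
        _ = k * u := by
          rw [Invol.inv_eq_self hu, ← mul_assoc, ← mul_assoc, Invol.mul_self_eq_one hu, one_mul]
    have hcomm : k * x * u = u * (k * x) := by
      have h1 : k * u' * k⁻¹ = u := by
        calc k * u' * k⁻¹ = k * (u' * u) * (u⁻¹ * k⁻¹) := by group
          _ = k * w * (k * u) := by rw [← hw, Invol.inv_eq_self hu, huk]
          _ = k * (w * k) * u := by group
          _ = u := by
            rw [show w * k = k * w from (Commute.pow_self w e).symm.eq, ← mul_assoc k k w, hk2,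
              inv_mul_cancel, one_mul]
      calc k * x * u = k * u' * k⁻¹ * (k * x) := by rw [hu']; group
        _ = u * (k * x) := by rw [h1]
    have h4 : (k * x) ^ 4 = 1 := by
      rcases hs.cases (k * x) with h | h | h | h | h
      · rw [orderOf_eq_one_iff.1 h, one_pow]
      · exact orderOf_dvd_iff_pow_eq_one.1 (h ▸ by norm_num)
      · exact absurd hcomm.symm (not_commute_two hs (Or.inl ⟨rfl, rfl⟩) hu h)
      · exact orderOf_dvd_iff_pow_eq_one.1 (h ▸ by norm_num)
      · exact absurd hcomm.symm (not_commute_two hs (Or.inr ⟨rfl, rfl⟩) hu h)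
    have hkK : k ∈ centralizer (D : Set G) := pow_mem hwK e
    have hmapk : QuotientGroup.mk' ((centralizer (D : Set G)).subgroupOf (normalizer (D : Set G)))
        ⟨k, centralizer_le_normalizer _ hkK⟩ = 1 := (QuotientGroup.eq_one_iff _).2 hkK
    have h5 : QuotientGroup.mk' ((centralizer (D : Set G)).subgroupOf (normalizer (D : Set G)))
        ⟨x, hx⟩ ^ 4 = 1 := by
      have h6 := congrArg (QuotientGroup.mk' ((centralizer (D : Set G)).subgroupOf
        (normalizer (D : Set G))))
        (show (⟨k, centralizer_le_normalizer _ hkK⟩ * ⟨x, hx⟩ : normalizer (D : Set G)) ^ 4 = 1 from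
          Subtype.ext h4)
      rwa [map_pow, map_mul, hmapk, one_mul, map_one] at h6
    have h7 : QuotientGroup.mk' ((centralizer (D : Set G)).subgroupOf (normalizer (D : Set G)))
        ⟨x, hx⟩ ^ l = 1 := by
      rw [← map_pow, show (⟨x, hx⟩ : normalizer (D : Set G)) ^ l = 1 from Subtype.ext hxl, map_one]
    have h8 := pow_gcd_eq_one.2 ⟨h5, h7⟩
    rw [show Nat.gcd 4 l = 1 by rcases hl with ⟨rfl, -⟩ | ⟨rfl, -⟩ <;> rfl, pow_one] at h8
    exact (QuotientGroup.eq_one_iff (⟨x, hx⟩ : normalizer (D : Set G))).1 h8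
  · obtain ⟨P⟩ : Nonempty (Sylow l (normalizer (D : Set G) : Subgroup G)) := inferInstance
    refine ⟨(P : Subgroup _).map (normalizer (D : Set G)).subtype, P.2.map _, fun x hx hxl => ?_⟩
    have hdvd := index_sylow_dvd hs hl hD hD1 le_rfl hodd P
    have hn1 : Nat.card (Sylow l (normalizer (D : Set G) : Subgroup G)) = 1 := by
      have hmod := card_sylow_modEq_one l (normalizer (D : Set G) : Subgroup G)
      rcases (Nat.dvd_prime hl.symm.prime).1 (P.card_dvd_index.trans hdvd) with h | h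
      · exact h
      · rw [h] at hmod
        rcases hl with ⟨rfl, rfl⟩ | ⟨rfl, rfl⟩ <;> exact absurd hmod (by decide)
    have hz : IsPGroup l (zpowers (⟨x, hx⟩ : normalizer (D : Set G))) := fun z => ⟨1, by
      obtain ⟨z, hz⟩ := z
      obtain ⟨i, rfl⟩ := mem_zpowers_iff.1 hz
      refine Subtype.ext ?_
      show (_ ^ i) ^ l ^ 1 = 1
      rw [pow_one, ← zpow_natCast, ← zpow_mul, mul_comm, zpow_mul, zpow_natCast,
        show (⟨x, hx⟩ : normalizer (D : Set G)) ^ l = 1 from Subtype.ext hxl, one_zpow]⟩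
    obtain ⟨Q, hQ⟩ := hz.exists_le_sylow
    haveI : Subsingleton (Sylow l (normalizer (D : Set G) : Subgroup G)) :=
      (Nat.card_eq_one_iff_unique.1 hn1).1
    rw [Subsingleton.elim Q P] at hQ
    exact ⟨_, hQ (mem_zpowers _), rfl⟩

/-- Distinct Sylow `l`-subgroups intersect trivially. -/
theorem sylow_eq_of_mem_mem (hs : Small G) (hl : Pair35 l m) {P Q : Sylow l G} {x : G}
    (hx : x ≠ 1) (hP : x ∈ (P : Subgroup G)) (hQ : x ∈ (Q : Subgroup G)) : P = Q := by
  haveI := Fact.mk hl.prime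
  by_contra hne
  obtain ⟨⟨P, Q⟩, ⟨hne, hint⟩, hmax⟩ := Set.exists_max_image
    {pq : Sylow l G × Sylow l G | pq.1 ≠ pq.2 ∧ (pq.1 : Subgroup G) ⊓ pq.2 ≠ ⊥}
    (fun pq => Nat.card ((pq.1 : Subgroup G) ⊓ pq.2 : Subgroup G)) (Set.toFinite _)
    ⟨(P, Q), hne, fun h => hx (mem_bot.1 (h ▸ mem_inf.2 ⟨hP, hQ⟩))⟩
  set D := (P : Subgroup G) ⊓ Q with hDdef
  have hD : IsPGroup l D := P.2.to_le inf_le_left
  obtain ⟨K, hK, hKmem⟩ := exists_local_core hs hl hD hint
  obtain ⟨R, hR⟩ := hK.exists_le_sylow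
  have hstep : ∀ S : Sylow l G, D ≤ S → D ≠ (S : Subgroup G) → R = S := by
    intro S hDS hDne
    obtain ⟨y, hyS, hyD, hyN⟩ := CN.exists_normalizing S.2 hDS hDne
    by_contra hRS
    have hbig : D < (R : Subgroup G) ⊓ S := by
      refine lt_of_le_of_ne (fun d hd => ⟨hR (hKmem d (le_normalizer hd)
        (pow_eq_one_of_isPGroup hs hl hD hd)), hDS hd⟩) fun h => hyD ?_
      rw [h]
      exact ⟨hR (hKmem y hyN (pow_eq_one_of_isPGroup hs hl S.2 hyS)), hyS⟩
    have hle := hmax (R, S) ⟨hRS, fun h => hint (le_bot_iff.1 (hbig.le.trans h.le))⟩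
    have := Subgroup.eq_of_le_of_card_ge hbig.le hle
    exact hbig.ne this
  have hnP : D ≠ (P : Subgroup G) := fun h => hne (Sylow.ext (P.is_maximal' Q.2 (by
    rw [← h]; exact inf_le_right)).symm)
  have hnQ : D ≠ (Q : Subgroup G) := fun h => hne (Sylow.ext (Q.is_maximal' P.2 (by
    rw [← h]; exact inf_le_left)))
  exact hne ((hstep P inf_le_left hnP).symm.trans (hstep Q inf_le_right hnQ))

variable (hs : Small G) (hl : Pair35 l m) (A : Sylow l G) (hdvd : l ∣ Nat.card G)
include hs hl hdvd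

theorem nilCent : CN.NilCent (A : Subgroup G) := by
  haveI := Fact.mk hl.prime
  refine ⟨A.2.isNilpotent, A.ne_bot_of_dvd_card hdvd, fun x hx hx1 => ?_⟩
  obtain ⟨R, hR⟩ := (isPGroup_centralizer hs hl (orderOf_eq_of_mem hs hl A.2 hx hx1)).exists_le_sylow
  rwa [sylow_eq_of_mem_mem hs hl hx1 hx (hR (mem_centralizer_singleton_iff.2 rfl))]

omit hdvd hs in
theorem mem_of_normalizer_pow {g : G} (hg : g ∈ normalizer ((A : Subgroup G) : Set G))
    (hgl : g ^ l = 1) : g ∈ (A : Subgroup G) := by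
  haveI := Fact.mk hl.prime
  have hz : IsPGroup l (zpowers g) := fun z => ⟨1, Subtype.ext (by
    obtain ⟨i, hi⟩ := mem_zpowers_iff.1 z.2
    show (z : G) ^ l ^ 1 = 1
    rw [← hi, pow_one, ← zpow_natCast, ← zpow_mul, mul_comm, zpow_mul, zpow_natCast, hgl,
      one_zpow])⟩
  have hsup := IsPGroup.to_sup_of_normal_left' A.2 hz (zpowers_le.2 hg)
  rw [← A.is_maximal' hsup le_sup_left]
  exact mem_sup_right (mem_zpowers g)

theorem selfCent_of_involution {u : G} (hu : orderOf u = 2)
    (huN : u ∈ normalizer ((A : Subgroup G) : Set G)) : CA.SelfCent (A : Subgroup G) := by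
  refine ⟨(nilCent hs hl A hdvd).ne_bot, fun x hx hx1 =>
    le_antisymm ((nilCent hs hl A hdvd).centralizer_le x hx hx1) fun y hy => ?_⟩
  exact mem_centralizer_singleton_iff.2 ((inverts hs hl A.2 hu huN).2 y hy x hx)

/-- The index of a Sylow `l`-subgroup in its normalizer. -/
theorem index_cases (hperf : commutator G = ⊤) :
    ∃ n, n * Nat.card (A : Subgroup G) = Nat.card (normalizer ((A : Subgroup G) : Set G)) ∧
      ((n = 2 ∨ n = 4 ∨ n = 8) ∧ (∃ u, orderOf u = 2 ∧ u ∈ normalizer ((A : Subgroup G) : Set G)) ∧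
          CA.SelfCent (A : Subgroup G) ∨
        n = m ∧ ∀ u ∈ normalizer ((A : Subgroup G) : Set G), orderOf u ≠ 2) := by
  haveI := Fact.mk hl.prime
  set N : Subgroup G := normalizer ((A : Subgroup G) : Set G) with hN
  set B := (A : Subgroup G).subgroupOf N with hB
  haveI : B.Normal := normal_in_normalizer
  have hcard : B.index * Nat.card (A : Subgroup G) = Nat.card N := by
    rw [mul_comm, ← Subgroup.card_mul_index B]
    congr 1
    exact (Nat.card_congr (subgroupOfEquivOfLe le_normalizer).toEquiv).symm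
  refine ⟨B.index, hcard, ?_⟩
  obtain ⟨x₀, hx₀N, hx₀A⟩ := (nilCent hs hl A hdvd).exists_normalizer_notMem hperf
  let π : N →* N ⧸ B := QuotientGroup.mk' B
  have hπ : ∀ g : N, π g = 1 ↔ (g : G) ∈ (A : Subgroup G) := fun g => QuotientGroup.eq_one_iff g
  have hlift : ∀ q : N ⧸ B, q ≠ 1 → ∃ g : N, π g = q ∧ (g : G) ^ l ≠ 1 := by
    intro q hq
    obtain ⟨g, rfl⟩ := QuotientGroup.mk'_surjective B q
    exact ⟨g, rfl, fun h => hq ((hπ g).2 (mem_of_normalizer_pow hl A g.2 h))⟩
  have hindex : B.index = Nat.card (N ⧸ B) := rfl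
  rcases exists_involution_or_odd hs hl N with ⟨u, huN, hu⟩ | hodd
  · left
    refine ⟨?_, ⟨u, hu, huN⟩, selfCent_of_involution hs hl A hdvd hu huN⟩
    obtain ⟨hinv, -⟩ := inverts hs hl A.2 hu huN
    obtain ⟨a₀, ha₀, ha₀1⟩ := (nilCent hs hl A hdvd).exists_ne_one
    set ū := π ⟨u, huN⟩ with hū
    have hū2 : ū * ū = 1 := by
      rw [hū, ← map_mul, show (⟨u, huN⟩ * ⟨u, huN⟩ : N) = 1 from
        Subtype.ext (Invol.mul_self_eq_one hu), map_one]
    -- involutions of the quotient
    have huniq : ∀ q : N ⧸ B, q * q = 1 → q ≠ 1 → q = ū := by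
      intro q hq hq1
      obtain ⟨g, rfl, hgl⟩ := hlift q hq1
      have hgg : (g : G) * g ∈ (A : Subgroup G) := (hπ (g * g)).1 (by rw [map_mul]; exact hq)
      have hgg1 : (g : G) * g = 1 := by
        by_contra h
        have h2 := orderOf_eq_of_mem hs hl A.2 hgg h
        rw [← pow_two, orderOf_pow] at h2
        rw [Ne, ← orderOf_dvd_iff_pow_eq_one] at hgl
        rcases hs.cases (g : G) with h' | h' | h' | h' | h' <;> rw [h'] at h2 hgl <;>
          rcases hl with ⟨rfl, -⟩ | ⟨rfl, -⟩ <;> (revert h2 hgl; norm_num)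
      have hg2 : orderOf (g : G) = 2 :=
        Invol.orderOf_eq_two (fun h => hgl (by rw [h, one_pow])) hgg1
      obtain ⟨hinv', -⟩ := inverts hs hl A.2 hg2 g.2
      have hmem : (g : G) * u ∈ (A : Subgroup G) := by
        refine (nilCent hs hl A hdvd).mem_of_commute ha₀ ha₀1 ?_
        have : (g : G) * u * a₀ * ((g : G) * u)⁻¹ = a₀ := by
          calc (g : G) * u * a₀ * ((g : G) * u)⁻¹ = g * (u * a₀ * u⁻¹) * (g : G)⁻¹ := by group
            _ = a₀ := by rw [hinv a₀ ha₀, hinv' a₀⁻¹ (inv_mem ha₀), inv_inv]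
        exact mul_inv_eq_iff_eq_mul.1 this
      have h1 : π g * ū = 1 := by rw [hū, ← map_mul]; exact (hπ _).2 hmem
      rw [eq_inv_of_mul_eq_one_left h1, inv_eq_of_mul_eq_one_right hū2]
    have hū1 : ū ≠ 1 := fun h => by
      have := orderOf_eq_of_mem hs hl A.2 ((hπ _).1 h) (Invol.ne_one_of_invol hu)
      change orderOf u = l at this
      rcases hl with ⟨rfl, -⟩ | ⟨rfl, -⟩ <;> omega
    have hcen : ∀ q : N ⧸ B, q * ū = ū * q := by
      intro q
      have := huniq (q * ū * q⁻¹) (by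
        rw [show q * ū * q⁻¹ * (q * ū * q⁻¹) = q * (ū * ū) * q⁻¹ by group, hū2, mul_one,
          mul_inv_cancel]) (fun h => hū1 (conj_eq_one_iff.1 h))
      exact mul_inv_eq_iff_eq_mul.1 this
    have hsmall : Small (N ⧸ B) := (hs.subgroup N).quotient B
    have hpow : ∀ q : N ⧸ B, q * q = 1 ∨ q * q = ū := by
      intro q
      by_cases h1 : q * q = 1
      · exact Or.inl h1
      right
      have hqu : ū * q = q * ū := (hcen q).symm
      have hū2' : orderOf ū = 2 := Invol.orderOf_eq_two hū1 hū2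
      rcases hsmall.cases q with h | h | h | h | h
      · exact absurd (by rw [orderOf_eq_one_iff.1 h, one_mul]) h1
      · exact absurd (Invol.mul_self_eq_one h) h1
      · exact absurd hqu (not_commute_two hsmall (Or.inl ⟨rfl, rfl⟩) hū2' h)
      · refine huniq _ ?_ h1
        rw [← pow_two, ← pow_two, ← pow_mul]
        exact orderOf_dvd_iff_pow_eq_one.1 (h ▸ dvd_refl 4)
      · exact absurd hqu (not_commute_two hsmall (Or.inr ⟨rfl, rfl⟩) hū2' h)
    have h2g : IsPGroup 2 (N ⧸ B) := fun q => ⟨2, by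
      rw [show q ^ 2 ^ 2 = q * q * (q * q) by simp [pow_succ, mul_assoc]]
      rcases hpow q with h | h <;> rw [h]
      · rw [one_mul]
      · exact hū2⟩
    haveI : Fact (Nat.Prime 2) := ⟨Nat.prime_two⟩
    obtain ⟨k, hk⟩ := h2g.exists_card_eq
    rw [hindex, hk]
    have hk1 : 1 ≤ k := by
      rcases k with _ | k
      · exact absurd (((Nat.card_eq_one_iff_unique.1 hk).1).elim ū 1) hū1
      · omega
    suffices k ≤ 3 by interval_cases k <;> norm_num
    suffices hle : Nat.card (N ⧸ B) ≤ 8 by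
      rw [hk] at hle
      exact (Nat.pow_le_pow_iff_right (by norm_num : 1 < 2)).1 (hle.trans_eq (by norm_num : 8 = 2 ^ 3))
    classical
    haveI := Fintype.ofFinite (N ⧸ B)
    rw [Nat.card_eq_fintype_card, ← Finset.card_univ]
    by_cases hall : ∀ q : N ⧸ B, q * q = 1
    · refine (Finset.card_le_card (s := Finset.univ) (t := {1, ū}) fun q _ => ?_).trans
        (Finset.card_le_two.trans (by norm_num))
      simp only [Finset.mem_insert, Finset.mem_singleton]
      by_cases h : q = 1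
      · exact Or.inl h
      · exact Or.inr (huniq q (hall q) h)
    push Not at hall
    obtain ⟨q, hq⟩ := hall
    have hq2 : q * q = ū := (hpow q).resolve_left hq
    let Cy : Finset (N ⧸ B) := {1, ū, q, q * ū}
    have hCy : Cy.card ≤ 4 := Finset.card_le_four
    have hinvq : ∀ r : N ⧸ B, r ∉ Cy → r * q * r⁻¹ = q * ū := by
      intro r hr
      simp only [Cy, Finset.mem_insert, Finset.mem_singleton, not_or] at hr
      have hr2 : r * r = ū := (hpow r).resolve_left fun h => hr.2.1 (huniq r h hr.1)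
      have hqr : q * r * (q * r) = ū := by
        refine (hpow (q * r)).resolve_left fun h => ?_
        by_cases h' : q * r = 1
        · refine hr.2.2.2 ?_
          rw [eq_inv_of_mul_eq_one_right h']
          refine inv_eq_of_mul_eq_one_right ?_
          rw [← mul_assoc, hq2, hū2]
        · have h'' := huniq _ h h'
          refine hr.2.2.1 (mul_left_cancel (a := q) ?_)
          rw [h'', hq2]
      have h3 : r * q * r = q := by
        refine mul_left_cancel (a := q) ?_
        rw [← mul_assoc, ← mul_assoc, mul_assoc (q * r), hqr, hq2]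
      calc r * q * r⁻¹ = r * q * r * (r * r)⁻¹ := by group
        _ = q * ū := by rw [h3, hr2, inv_eq_of_mul_eq_one_right hū2]
    by_cases hex : ∃ r, r ∉ Cy
    · obtain ⟨r, hr⟩ := hex
      refine (Finset.card_le_card (s := Finset.univ) (t := Cy ∪ Cy.image (r * ·)) fun s _ => ?_).trans
        ((Finset.card_union_le _ _).trans (by
          have := (Finset.card_image_le (s := Cy) (f := (r * ·))).trans hCy
          omega))
      rw [Finset.mem_union]
      refine or_iff_not_imp_left.2 fun hsC => Finset.mem_image.2 ⟨r⁻¹ * s, ?_, mul_inv_cancel_left r s⟩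
      by_contra h
      have h1 := hinvq _ h
      have h2 := hinvq r hr
      have h3 := hinvq s hsC
      have h4 : r * (q * ū) * r⁻¹ = q * ū := by
        conv_lhs => rw [← h1]
        rw [← h3]; group
      rw [show r * (q * ū) * r⁻¹ = r * q * r⁻¹ * ū by
        rw [mul_assoc (r * q), ← mul_assoc r q ū, mul_assoc (r * q) ū r⁻¹, ← hcen r⁻¹], h2,
        mul_assoc, hū2, mul_one] at h4
      exact hū1 (left_eq_mul.1 h4)
    · push Not at hex
      exact (Finset.card_le_card (s := Finset.univ) (t := Cy) fun s _ => hex s).trans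
        (hCy.trans (by norm_num))
  · right
    refine ⟨?_, fun u hu h2 => ?_⟩
    · have hP : IsPGroup l B := A.2.comap_subtype
      obtain ⟨P, hBP⟩ := hP.exists_le_sylow
      have hPB : (P : Subgroup N) = B := by
        refine le_antisymm (fun g hg => ?_) hBP
        exact mem_of_normalizer_pow hl A g.2
          (congrArg Subtype.val (pow_eq_one_of_isPGroup (hs.subgroup N) hl P.2 hg))
      have hd := index_sylow_dvd hs hl A.2 (nilCent hs hl A hdvd).ne_bot le_rfl hodd P
      rw [hPB] at hd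
      refine ((Nat.dvd_prime hl.symm.prime).1 hd).resolve_left fun h1 => hx₀A ?_
      exact Subgroup.index_eq_one.1 h1 ▸ (Subgroup.mem_top (⟨x₀, hx₀N⟩ : N)) |>
        fun h => Subgroup.mem_subgroupOf.1 h
    · rcases hodd u hu with h | h | h
      · rw [h, orderOf_one] at h2; omega
      · rcases hl with ⟨rfl, -⟩ | ⟨rfl, -⟩ <;> omega
      · rcases hl with ⟨rfl, rfl⟩ | ⟨rfl, rfl⟩ <;> omega

omit hdvd in
/-- In a simple group some Sylow subgroup for three or five is normalized by an involution. -/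
theorem exists_involution_normalizing [IsSimpleGroup G] (B : Sylow m G) (h2 : 2 ∣ Nat.card G)
    (hne : ¬ IsMulCommutative G) :
    (∃ u, orderOf u = 2 ∧ u ∈ normalizer ((A : Subgroup G) : Set G)) ∨
      ∃ u, orderOf u = 2 ∧ u ∈ normalizer ((B : Subgroup G) : Set G) := by
  haveI : Fact (Nat.Prime 2) := ⟨Nat.prime_two⟩
  obtain ⟨t, ht⟩ := exists_prime_orderOf_dvd_card' (G := G) 2 h2
  obtain ⟨h, h1, hodd, hth⟩ := Invol.exists_odd_inverted_of_notMem_normal_two ht fun N hN hNp htN => by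
    rcases hN.eq_bot_or_eq_top with h | h
    · exact Invol.ne_one_of_invol ht (mem_bot.1 (h ▸ htN))
    · subst h
      haveI : Nontrivial G := ⟨⟨t, 1, Invol.ne_one_of_invol ht⟩⟩
      have hG : IsPGroup 2 G := hNp.of_equiv Subgroup.topEquiv
      haveI := hG.center_nontrivial
      rcases (inferInstance : (center G).Normal).eq_bot_or_eq_top with h | h
      · exact (nontrivial_iff_ne_bot _).1 inferInstance h
      · exact hne ⟨⟨fun a b => mem_center_iff.1 (h ▸ Subgroup.mem_top b) a⟩⟩
  have key : ∀ {r s : ℕ}, Pair35 r s → orderOf h = r → ∀ C : Sylow r G,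
      ∃ u, orderOf u = 2 ∧ u ∈ normalizer ((C : Subgroup G) : Set G) := by
    intro r s hr hhr C
    haveI := Fact.mk hr.prime
    obtain ⟨R, hR⟩ := (IsPGroup.of_card (n := 1) (G := zpowers h)
      (by rw [Nat.card_zpowers, hhr, pow_one])).exists_le_sylow
    have hdR : r ∣ Nat.card G := hhr ▸ orderOf_dvd_natCard h
    have htR := (nilCent hs hr R hdR).mem_normalizer_of_conj_mem (g := t) (hR (mem_zpowers h)) h1
      (by rw [hth]; exact inv_mem (hR (mem_zpowers h)))
    obtain ⟨g, rfl⟩ := MulAction.exists_smul_eq G R C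
    refine ⟨g * t * g⁻¹, by rw [Invol.orderOf_conj, ht], ?_⟩
    rw [Sylow.coe_subgroup_smul, TI.mem_normalizer_conj_smul]
    simpa [mul_assoc] using htR
  rcases hs.cases h with h' | h' | h' | h' | h'
  · exact absurd (orderOf_eq_one_iff.1 h') h1
  · rw [h'] at hodd; exact absurd hodd (by decide)
  · rcases hl with ⟨rfl, rfl⟩ | ⟨rfl, rfl⟩
    · exact Or.inl (key (Or.inl ⟨rfl, rfl⟩) h' A)
    · exact Or.inr (key (Or.inl ⟨rfl, rfl⟩) h' B)
  · rw [h'] at hodd; exact absurd hodd (by decide)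
  · rcases hl with ⟨rfl, rfl⟩ | ⟨rfl, rfl⟩
    · exact Or.inr (key (Or.inr ⟨rfl, rfl⟩) h' B)
    · exact Or.inl (key (Or.inr ⟨rfl, rfl⟩) h' A)

end CfsgLib.SpecFive
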