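import Cfsg.Agent.Lib.SpecFive.Quat
import Mathlib.GroupTheory.SpecificGroups.Alternating

/-!
# No proper extension of the simple groups of order 60 and 360 has element orders at most five
-/

set_option autoImplicit false
set_option linter.style.haveILetI false
set_option linter.unusedSectionVars false

namespace CfsgLib.SpecFive

open Subgroup

universe u

variable {G : Type u} [Group G] [Finite G]

/-- The Frattini argument in numbers. -/
theorem index_mul_card_normalizer {M : Subgroup G} [M.Normal] {p : ℕ} [Fact p.Prime] (P : Sylow p M) :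
    M.index * Nat.card (normalizer ((P : Subgroup M) : Set M)) =
      Nat.card (normalizer (((P : Subgroup M).map M.subtype : Subgroup G) : Set G)) := by
  set N := normalizer (((P : Subgroup M).map M.subtype : Subgroup G) : Set G) with hN
  have hinf : (normalizer ((P : Subgroup M) : Set M)).map M.subtype = N ⊓ M := by
    ext g
    constructor
    · rintro ⟨x, hx, rfl⟩
      refine ⟨mem_normalizer_iff.2 fun y => ⟨?_, ?_⟩, x.2⟩
      · rintro ⟨w, hw, rfl⟩
        exact ⟨x * w * x⁻¹, (mem_normalizer_iff.1 hx w).1 hw, rfl⟩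
      · rintro ⟨w, hw, hwy⟩
        refine ⟨x⁻¹ * w * x, (mem_normalizer_iff''.1 hx w).1 hw, ?_⟩
        simp only [map_mul, map_inv, hwy]
        group
    · rintro ⟨hgN, hgM⟩
      refine ⟨⟨g, hgM⟩, mem_normalizer_iff.2 fun w => ?_, rfl⟩
      have h := mem_normalizer_iff.1 hgN (w : G)
      constructor
      · intro hw
        obtain ⟨w', hw', he⟩ := h.1 ⟨w, hw, rfl⟩
        rwa [show w' = ⟨g, hgM⟩ * w * ⟨g, hgM⟩⁻¹ from Subtype.ext he] at hw'
      · intro hw
        obtain ⟨w', hw', he⟩ := h.2 ⟨_, hw, rfl⟩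
        rwa [show w' = w from Subtype.ext he] at hw'
  have hidx : M.index = M.relIndex N := by
    rw [← relIndex_sup_right (H := N) (K := M), Sylow.normalizer_sup_eq_top P, relIndex_top_right]
  rw [hidx, ← card_map_of_injective M.subtype_injective, hinf, relIndex, mul_comm,
    ← card_mul_index (M.subgroupOf N)]
  congr 1
  rw [inf_comm, ← subgroupOf_map_subtype, card_map_of_injective N.subtype_injective]

theorem a6_exists_conj (s : alternatingGroup (Fin 6)) (hs : orderOf s = 2) :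
    ∃ g : alternatingGroup (Fin 6), g * s * g⁻¹ ≠ s ∧ g * s * g⁻¹ * s = s * (g * s * g⁻¹) := by
  have ho : orderOf (s : Equiv.Perm (Fin 6)) = 2 := by rw [orderOf_coe, hs]
  obtain ⟨n, hn⟩ := Equiv.Perm.cycleType_prime_order (ho ▸ Nat.prime_two)
  rw [ho] at hn
  have hn1 : n = 1 := by
    have h6 := Equiv.Perm.sum_cycleType_le (s : Equiv.Perm (Fin 6))
    rw [hn, Multiset.sum_replicate, Fintype.card_fin, smul_eq_mul] at h6
    have hsgn := Equiv.Perm.sign_of_cycleType (s : Equiv.Perm (Fin 6))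
    rw [Equiv.Perm.mem_alternatingGroup.1 s.2, hn, Multiset.sum_replicate, Multiset.card_replicate,
      smul_eq_mul] at hsgn
    have : n ≤ 2 := by omega
    interval_cases n
    · exact absurd hsgn (by decide)
    · rfl
    · exact absurd hsgn (by decide)
  subst hn1
  let σ : Equiv.Perm (Fin 6) := Equiv.swap 0 1 * Equiv.swap 2 3
  let τ : Equiv.Perm (Fin 6) := Equiv.swap 1 2 * Equiv.swap 2 3
  have hσ : σ.cycleType = Multiset.replicate 2 2 := by decide
  obtain ⟨c, hc⟩ := isConj_iff.1 (Equiv.Perm.isConj_iff_cycleType_eq.2 (hn.trans hσ.symm))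
  have hτ : Equiv.Perm.sign τ = 1 := by decide
  have hne : τ * σ * τ⁻¹ ≠ σ := by decide
  have hcm : τ * σ * τ⁻¹ * σ = σ * (τ * σ * τ⁻¹) := by decide
  have hs' : (s : Equiv.Perm (Fin 6)) = c⁻¹ * σ * c := by rw [← hc]; group
  refine ⟨⟨c⁻¹ * τ * c, ?_⟩, fun h => hne ?_, Subtype.ext ?_⟩
  · rw [Equiv.Perm.mem_alternatingGroup]; simp [hτ]
  · have h' : c⁻¹ * τ * c * (c⁻¹ * σ * c) * (c⁻¹ * τ * c)⁻¹ = c⁻¹ * σ * c := by
      rw [← hs']; exact congrArg Subtype.val h
    calc τ * σ * τ⁻¹ = c * (c⁻¹ * τ * c * (c⁻¹ * σ * c) * (c⁻¹ * τ * c)⁻¹) * c⁻¹ := by group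
      _ = σ := by rw [h']; group
  · show c⁻¹ * τ * c * (s : Equiv.Perm (Fin 6)) * (c⁻¹ * τ * c)⁻¹ * s =
      s * (c⁻¹ * τ * c * s * (c⁻¹ * τ * c)⁻¹)
    calc c⁻¹ * τ * c * (s : Equiv.Perm (Fin 6)) * (c⁻¹ * τ * c)⁻¹ * s
        = c⁻¹ * (τ * σ * τ⁻¹ * σ) * c := by rw [hs']; group
      _ = c⁻¹ * (σ * (τ * σ * τ⁻¹)) * c := by rw [hcm]
      _ = _ := by rw [hs']; group

/-- A group with element orders at most five has no simple normal subgroup of order `60` or `360`
other than itself, when that subgroup has index controlled by the Frattini argument. -/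
theorem normal_simple_eq_top (hs : Small G) {M : Subgroup G} [M.Normal] [IsSimpleGroup M]
    (hc : Nat.card M = 60 ∨ Nat.card M = 360) : M = ⊤ := by
  haveI := Fact.mk Nat.prime_two
  haveI := Fact.mk Nat.prime_three
  haveI : Fact (Nat.Prime 5) := ⟨by norm_num⟩
  rw [← index_eq_one]
  set d := M.index with hd
  obtain ⟨P₅⟩ : Nonempty (Sylow 5 M) := inferInstance
  obtain ⟨P₃⟩ : Nonempty (Sylow 3 M) := inferInstance
  obtain ⟨h5, hN5⟩ := local_five (hs.subgroup M) hc P₅
  have hF5 := index_mul_card_normalizer P₅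
  rw [hN5] at hF5
  have hP5 : Nat.card ((P₅ : Subgroup M).map M.subtype) = 5 := by
    rw [card_map_of_injective M.subtype_injective, h5]
  obtain ⟨a, ha, -⟩ := normalizer_dvd hs (Or.inr ⟨rfl, rfl⟩ : Pair35 5 3) hP5
  rw [← hF5] at ha
  have h3card : Nat.card (P₃ : Subgroup M) = 3 ∧
      Nat.card (normalizer ((P₃ : Subgroup M) : Set M)) = 6 ∧ Nat.card M = 60 ∨
    Nat.card (P₃ : Subgroup M) = 9 ∧
      Nat.card (normalizer ((P₃ : Subgroup M) : Set M)) = 36 ∧ Nat.card M = 360 := by
    rcases hc with h | h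
    · exact Or.inl ⟨(local_three_sixty (hs.subgroup M) h P₃).1, (local_three_sixty (hs.subgroup M) h P₃).2, h⟩
    · exact Or.inr ⟨(Recog.ThreeSixty.sylow_card h).2 P₃, Recog.ThreeSixty.card_normalizer_three h P₃, h⟩
  set P := (P₃ : Subgroup M).map M.subtype with hP
  have hPc : Nat.card P = Nat.card (P₃ : Subgroup M) := card_map_of_injective M.subtype_injective
  have hF3 : d * Nat.card (normalizer ((P₃ : Subgroup M) : Set M)) = Nat.card (normalizer (P : Set G)) :=
    index_mul_card_normalizer P₃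
  have hd5 : ¬ 5 ∣ d := fun h => five_not_dvd_normalizer hs
    (by rcases h3card with h' | h' <;> [left; right] <;> rw [hPc, h'.1])
    (hF3 ▸ h.mul_right _)
  have hd2 : d ∣ 2 := by
    have h1 : 5 * d ∣ 2 * 5 ^ a := Nat.dvd_of_mul_dvd_mul_left two_pos
      (by rw [show 2 * (5 * d) = d * 10 by ring, show 2 * (2 * 5 ^ a) = (5 - 1) * 5 ^ a by norm_num; ring]
          exact ha)
    exact ((Nat.Prime.coprime_iff_not_dvd (by norm_num : Nat.Prime 5)).2 hd5).symm.pow_right a
      |>.dvd_of_dvd_mul_right ((dvd_mul_left d 5).trans h1)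
  refine ((Nat.dvd_prime Nat.prime_two).1 hd2).resolve_right fun hd2 => ?_
  rcases h3card with ⟨h3, hN3, hM⟩ | ⟨h3, hN3, hM⟩
  · rw [hd2, hN3] at hF3
    obtain ⟨b, hb, hbdvd⟩ := normalizer_dvd hs (Or.inl ⟨rfl, rfl⟩ : Pair35 3 5) (hPc.trans h3)
    rw [← card_mul_index M, hM, ← hd, hd2] at hbdvd
    have hb1 : b ≤ 1 := by
      by_contra h
      have : 9 ∣ 60 * 2 := (pow_dvd_pow 3 (show 2 ≤ b by omega)).trans hbdvd
      norm_num at this
    rw [← hF3] at hb
    interval_cases b <;> norm_num at hb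
  rw [hd2, hN3] at hF3
  have hG : Nat.card G = 720 := by rw [← card_mul_index M, hM, ← hd, hd2]
  obtain ⟨E₀, hE₀⟩ := Sylow.exists_subgroup_card_pow_prime (G := normalizer (P : Set G)) 2 (n := 3)
    (by rw [← hF3]; norm_num)
  set E := E₀.map (normalizer (P : Set G)).subtype with hE
  have hEN : E ≤ normalizer (P : Set G) := map_subtype_le _
  have hE8 : Nat.card E = 8 := by
    rw [hE, card_map_of_injective (subtype_injective _), hE₀]; norm_num
  have hEp : IsPGroup 2 E := IsPGroup.of_card (n := 3) (by rw [hE8]; norm_num)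
  have hPp : IsPGroup 3 P := IsPGroup.of_card (n := 2) (by rw [hPc, h3]; norm_num)
  obtain ⟨⟨x, hx⟩, hx1⟩ := ne_bot_iff_exists_ne_one.1 (show P ≠ ⊥ from fun h => by
    rw [h, card_bot] at hPc; omega)
  have h35 : Pair35 3 5 := Or.inl ⟨rfl, rfl⟩
  have hxo := orderOf_eq_of_mem hs h35 hPp hx fun h => hx1 (Subtype.ext h)
  obtain ⟨⟨z, hzE⟩, hz⟩ := exists_prime_orderOf_dvd_card' (G := E) 2 (by rw [hE8]; norm_num)
  rw [← Subgroup.orderOf_coe] at hz
  change orderOf z = 2 at hz
  have hz1 : z * z = 1 := Invol.mul_self_eq_one hz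
  have huniq : ∀ e ∈ E, e * e = 1 → e = 1 ∨ e = z := by
    intro e he he1
    by_cases he0 : e = 1
    · exact Or.inl he0
    right
    have heo : orderOf e = 2 := Invol.orderOf_eq_two he0 he1
    have h1 := (inverts hs h35 hPp heo (hEN he)).1
    have h2 := (inverts hs h35 hPp hz (hEN hzE)).1
    have hcomm : e * z * x = x * (e * z) := by
      refine mul_inv_eq_iff_eq_mul.1 ?_
      calc e * z * x * (e * z)⁻¹ = e * (z * x * z⁻¹) * e⁻¹ := by group
        _ = x := by rw [h2 x hx, h1 _ (inv_mem hx), inv_inv]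
    have h3 := pow_eq_one_of_commute hs h35 hxo hcomm
    obtain ⟨k, hk⟩ := hEp ⟨e * z, mul_mem he hzE⟩
    have hk' : (e * z) ^ 2 ^ k = 1 := congrArg Subtype.val hk
    have h4 := pow_gcd_eq_one.2 ⟨h3, hk'⟩
    rw [show Nat.gcd 3 (2 ^ k) = 1 from Nat.Coprime.pow_right k (by norm_num), pow_one] at h4
    rw [eq_inv_of_mul_eq_one_left h4, Invol.inv_eq_self hz]
  have hsq : ∀ e ∈ E, e * e = 1 ∨ e * e = z := by
    intro e he
    refine huniq _ (mul_mem he he) ?_
    obtain ⟨k, hk⟩ := hEp ⟨e, he⟩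
    have hk' : e ^ 2 ^ k = 1 := congrArg Subtype.val hk
    rcases hs.cases e with h | h | h | h | h
    · rw [orderOf_eq_one_iff.1 h]; simp
    · simp [Invol.mul_self_eq_one h]
    · exfalso
      have := orderOf_dvd_of_pow_eq_one hk'
      rw [h] at this
      exact absurd (Nat.prime_three.dvd_of_dvd_pow this) (by norm_num)
    · rw [← pow_two, ← pow_two, ← pow_mul]
      exact orderOf_dvd_iff_pow_eq_one.1 (h ▸ dvd_refl 4)
    · exfalso
      have := orderOf_dvd_of_pow_eq_one hk'
      rw [h] at this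
      exact absurd ((by norm_num : Nat.Prime 5).dvd_of_dvd_pow this) (by norm_num)
  have hQ : Quat E z := ⟨hE8, hzE, hz, hsq, huniq⟩
  have hzM : z ∈ M := by
    by_contra hzM
    have hsub : (E : Set G) ⊆ {1, z} := fun e he => by
      rcases hsq e he with h | h
      · rcases huniq e he h with h' | h' <;> simp [h']
      · exact absurd (h ▸ mul_self_mem_of_index_two hd2 e) hzM
    have h2 := Set.ncard_le_ncard hsub (Set.toFinite _)
    have h3 := (Set.ncard_insert_le (1 : G) {z}).trans_eq (by rw [Set.ncard_singleton])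
    rw [← Nat.card_coe_set_eq] at h2
    have h4 : Nat.card (E : Set G) = 8 := hE8
    omega
  obtain ⟨f⟩ := Recog.ThreeSixty.iso_alternating_six hM
  obtain ⟨g, hg1, hg2⟩ := a6_exists_conj (f ⟨z, hzM⟩)
    (by rw [MulEquiv.orderOf_eq, ← Subgroup.orderOf_coe]; exact hz)
  obtain ⟨g, rfl⟩ := f.surjective g
  rw [← map_inv, ← map_mul, ← map_mul] at hg1 hg2
  rw [← map_mul, ← map_mul] at hg2
  exact hQ.false_of_conj hs (by rw [hG]; norm_num) (g := (g : G))
    (fun h => hg1 (congrArg f (Subtype.ext h))) (congrArg Subtype.val (f.injective hg2))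

end CfsgLib.SpecFive
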